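import Cfsg.Agent.GTwoThree.Sub
import Cfsg.Agent.S0222
import Cfsg.Agent.S0280
import Cfsg.Agent.S1055
import Cfsg.Agent.TwoFusion.ClosingPrime
import Cfsg.Agent.Classification.PSLTwoEvenSylow

/-!
# `Case9c`: the closing step (helper614)

`G` finite simple, `Case9c`, `H ≤ G` simple with `C_G(z) ≤ H`: `H = G`. (`H` has one class of involutions, so it is
strongly embedded if `H ≠ G`; Bender's theorem S0222 and the order: `|G|_2 = 64`, `9 ∣ |G|`.)
-/

set_option autoImplicit false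

namespace Cfsg.Agent.GTwoThree.Closing

open Cfsg.Agent.Co2Type.Quad Cfsg.Agent.LargeExtra Cfsg.Agent.LargeExtra.W2 Cfsg.Agent.LargeExtra.W2.PlusHom
open Cfsg.Agent.GTwoThree.Cent Cfsg.Agent.GTwoThree.Fusion Cfsg.Agent.GTwoThree.Sub

theorem suzuki_three (m : ℕ) : ¬ 3 ∣ (2 ^ (2 * m + 1)) ^ 2 * ((2 ^ (2 * m + 1)) ^ 2 + 1) * (2 ^ (2 * m + 1) - 1) := by
  have h4 : 2 ^ (2 * m + 1) % 3 = 2 := by
    rw [pow_succ, pow_mul, Nat.mul_mod, Nat.pow_mod]
    norm_num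
  have h1 : 1 ≤ 2 ^ (2 * m + 1) := Nat.one_le_two_pow
  generalize 2 ^ (2 * m + 1) = q at h4 h1
  obtain ⟨a, rfl⟩ : ∃ a, q = 3 * a + 2 := ⟨q / 3, by omega⟩
  have h2 : 3 * a + 2 - 1 = 3 * a + 1 := by omega
  rw [h2, Nat.prime_three.dvd_mul, Nat.prime_three.dvd_mul]
  rintro ((h | h) | h)
  · have := Nat.prime_three.dvd_of_dvd_pow h
    omega
  · have e : (3 * a + 2) ^ 2 + 1 = 3 * (3 * a ^ 2 + 4 * a + 1) + 2 := by ring
    rw [e] at h
    omega
  · omega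

variable {G : Type*} [Group G] {Q : Subgroup G} {z i j k l x₁ x₂ y : G}

theorem card_eq [Finite G] (h : Case9c Q z i j k l x₁ x₂ y) :
    ∃ m, Nat.card G = 576 * m ∧ Odd m := by
  refine ⟨(Subgroup.centralizer ({z} : Set G)).index, ?_, TwoCentral.odd_index h.large⟩
  rw [← h.card_cent, Subgroup.card_mul_index]

/-- `|G| ≠ |PSU₃(q)|`, `q` even -/
theorem not_psu [Finite G] (h : Case9c Q z i j k l x₁ x₂ y) {F : Type} [Field F] [Fintype F] {q : ℕ}
    (hF : Fintype.card F = q ^ 2) (hq : Even q) (h4 : 4 ≤ q) (e : G ≃* Cfsg.PSU 3 F q) : False := by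
  obtain ⟨m, hm, hodd⟩ := card_eq h
  -- `q` is a power of two
  obtain ⟨n, rfl⟩ : ∃ n, q = 2 ^ n := by
    obtain ⟨p, hpchar⟩ := CharP.exists F
    obtain ⟨n, hp, hn⟩ := FiniteField.card F p
    have hp2 : p = 2 := by
      have h2 : 2 ∣ p ^ (n : ℕ) := by
        rw [← hn, hF]
        exact (even_iff_two_dvd.1 hq).trans (dvd_pow_self q two_ne_zero)
      exact ((Nat.prime_dvd_prime_iff_eq Nat.prime_two hp).1 (Nat.prime_two.dvd_of_dvd_pow h2)).symm
    subst hp2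
    have hqdvd : q ∣ 2 ^ (n : ℕ) := by
      rw [← hn, hF]; exact dvd_pow_self q two_ne_zero
    obtain ⟨m, -, rfl⟩ := (Nat.dvd_prime_pow Nat.prime_two).1 hqdvd
    exact ⟨m, rfl⟩
  have hcard := Cfsg.Agent.S0280.result hF 3 (by norm_num)
  rw [← Nat.card_congr e.toEquiv, hm] at hcard
  have hprod : ∏ i ∈ Finset.range 3, (if Even i then (2 ^ n) ^ (i + 1) + 1 else (2 ^ n) ^ (i + 1) - 1) =
      (2 ^ n + 1) * ((2 ^ n) ^ 2 - 1) * ((2 ^ n) ^ 3 + 1) := by
    rw [Finset.prod_range_succ, Finset.prod_range_succ, Finset.prod_range_one]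
    simp only [Even.zero, if_true, zero_add, pow_one, show ¬ Even 1 by decide, if_false, show Even 2 by decide]
  rw [hprod] at hcard
  have h3 : 3 * (3 - 1) / 2 = 3 := by norm_num
  rw [h3] at hcard
  -- cancel `q + 1`
  have h5 : Nat.gcd 3 (2 ^ n + 1) * (576 * m) = (2 ^ n) ^ 3 * (((2 ^ n) ^ 2 - 1) * ((2 ^ n) ^ 3 + 1)) := by
    have hpos : 0 < 2 ^ n + 1 := by positivity
    apply Nat.eq_of_mul_eq_mul_left hpos
    calc (2 ^ n + 1) * (Nat.gcd 3 (2 ^ n + 1) * (576 * m)) =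
        Nat.gcd 3 (2 ^ n + 1) * ((2 ^ n + 1) * (576 * m)) := by ring
      _ = (2 ^ n) ^ 3 * ((2 ^ n + 1) * ((2 ^ n) ^ 2 - 1) * ((2 ^ n) ^ 3 + 1)) := hcard
      _ = _ := by ring
  have hn1 : 2 ≤ n := by
    by_contra hcon
    have : n ≤ 1 := by omega
    have h1 : 2 ^ n ≤ 2 ^ 1 := Nat.pow_le_pow_right (by norm_num) this
    omega
  -- odd parts
  have hg : Odd (Nat.gcd 3 (2 ^ n + 1)) := Odd.of_dvd_nat (by decide : Odd 3) (Nat.gcd_dvd_left _ _)
  have hqe : Even (2 ^ n) := by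
    rw [Nat.even_pow]; exact ⟨by decide, by omega⟩
  have ho1 : Odd ((2 ^ n) ^ 2 - 1) := by
    have h1 : 1 ≤ (2 ^ n) ^ 2 := Nat.one_le_pow _ _ (by positivity)
    have h2 : Even ((2 ^ n) ^ 2) := hqe.pow_of_ne_zero (by norm_num)
    exact Nat.Even.sub_odd h1 h2 odd_one
  have ho2 : Odd ((2 ^ n) ^ 3 + 1) := by
    have h2 : Even ((2 ^ n) ^ 3) := hqe.pow_of_ne_zero (by norm_num)
    exact h2.add_odd odd_one
  -- compare the 2-parts
  have hn2 : n = 2 := by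
    have e1 : Nat.gcd 3 (2 ^ n + 1) * (576 * m) = 2 ^ 6 * (Nat.gcd 3 (2 ^ n + 1) * 9 * m) := by ring
    have e2 : (2 ^ n) ^ 3 * (((2 ^ n) ^ 2 - 1) * ((2 ^ n) ^ 3 + 1)) =
        2 ^ (n * 3) * (((2 ^ n) ^ 2 - 1) * ((2 ^ n) ^ 3 + 1)) := by rw [← pow_mul]
    rw [e1, e2] at h5
    have o1 : Odd (Nat.gcd 3 (2 ^ n + 1) * 9 * m) := (hg.mul (by decide)).mul hodd
    have o2 : Odd (((2 ^ n) ^ 2 - 1) * ((2 ^ n) ^ 3 + 1)) := ho1.mul ho2
    have c1 : ∀ {a b A B : ℕ}, Odd B → 2 ^ a * A = 2 ^ b * B → a ≤ b := by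
      intro a b A B hB hAB
      by_contra hcon
      have h1 : 2 ^ (b + 1) ∣ 2 ^ b * B := by
        rw [← hAB]
        exact (pow_dvd_pow 2 (by omega)).mul_right A
      rw [pow_succ] at h1
      have h2 : 2 ∣ B := Nat.dvd_of_mul_dvd_mul_left (by positivity) h1
      exact (Nat.not_even_iff_odd.2 hB) (even_iff_two_dvd.2 h2)
    have d1 := c1 o2 h5
    have d2 := c1 o1 h5.symm
    omega
  subst hn2
  have hg' : Nat.gcd 3 (2 ^ 2 + 1) = 1 := by decide
  rw [hg'] at h5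
  norm_num at h5
  omega

/-- **Closing**: a simple subgroup containing `C_G(z)` is `G`. -/
theorem eq_top [Finite G] [IsSimpleGroup G] (h : Case9c Q z i j k l x₁ x₂ y) (H : Subgroup G)
    (hC : Subgroup.centralizer ({z} : Set G) ≤ H) (hH : IsSimpleGroup H) : H = ⊤ := by
  by_contra hne
  have hz2 : orderOf z = 2 := Base.orderOf_z h.large
  have hSE := Cfsg.Agent.TwoFusion.ClosingPrime.isStronglyEmbedded_of_one_class hz2 hC
    (one_class_sub h H hC hH) hne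
  have hna : ∃ a b : G, a * b ≠ b * a := by
    by_contra hcon
    push Not at hcon
    exact noncomm h ⟨⟨fun a b => hcon a b⟩⟩
  obtain ⟨m, hm, -⟩ := card_eq h
  rcases Cfsg.Agent.S0222.result hna H hSE with ⟨F, _, _, _, -, ⟨e⟩⟩ | hSz | ⟨F, _, _, q, hF, hqe, hq4, ⟨e⟩⟩
  · have : Fact (Nat.Prime 2) := ⟨Nat.prime_two⟩
    obtain ⟨T, hT⟩ := (Base.isPGroup h.large).exists_le_sylow
    have h1 := Cfsg.Agent.Classification.PSLTwoEvenSylow.sylow_comm e T
    have hi : i ∈ (T : Subgroup G) := hT (PlusHom.mem_i h.toPlus)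
    have hj : j ∈ (T : Subgroup G) := hT (PlusHom.mem_j h.toPlus)
    have h2 : j * i = i * j := congrArg Subtype.val (h1.1.1 (⟨j, hj⟩ : (T : Subgroup G)) ⟨i, hi⟩)
    have h3 := h.ji
    rw [h2] at h3
    exact h.large.z_ne (by simpa using h3)
  · obtain ⟨-, n, -, hcard⟩ := hSz
    apply suzuki_three n
    rw [← hcard, hm]
    exact Dvd.dvd.mul_right (by norm_num) m
  · exact not_psu h hF hqe hq4 e

/-- a field of order 3 has an element other than `0`, `1` -/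
theorem exists_ne {F : Type*} [Field F] (hF : Nat.card F = 3) : ∃ a : F, a ≠ 0 ∧ a ≠ 1 := by
  by_contra hcon
  push Not at hcon
  have h1 : Nat.card F ≤ Nat.card ({0, 1} : Set F) := by
    have : (Set.univ : Set F) ⊆ {0, 1} := fun a _ => by
      by_cases h : a = 0
      · exact Or.inl h
      · exact Or.inr (hcon a h)
    rw [← Nat.card_congr (Equiv.Set.univ F)]
    exact Nat.card_mono (Set.toFinite _) this
  have h2 : Nat.card ({0, 1} : Set F) ≤ 2 := by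
    rw [Nat.card_coe_set_eq]
    exact (Set.ncard_insert_le _ _).trans (by simp)
  omega

/-- **Closing**, with the identified subgroup: `G₀ ≅ G₂(3)`, `C_G(z) ≤ G₀` imply `G₀ = G`. -/
theorem eq_top_of_equiv [Finite G] [IsSimpleGroup G] (h : Case9c Q z i j k l x₁ x₂ y) (H : Subgroup G)
    (hC : Subgroup.centralizer ({z} : Set G) ≤ H) {F : Type*} [Field F] (hF : Nat.card F = 3)
    (e : Nonempty (H ≃* Cfsg.Lie.chevG2.group F)) : H = ⊤ := by
  obtain ⟨e⟩ := e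
  have := (Cfsg.Agent.S1055.result (exists_ne hF)).1
  exact eq_top h H hC e.isSimpleGroup

/-- **Closing**: `G₀ ≅ G₂(3)`, `C_G(z) ≤ G₀` imply `G ≅ G₂(3)`. -/
theorem equiv_of_equiv [Finite G] [IsSimpleGroup G] (h : Case9c Q z i j k l x₁ x₂ y) (H : Subgroup G)
    (hC : Subgroup.centralizer ({z} : Set G) ≤ H) {F : Type*} [Field F] (hF : Nat.card F = 3)
    (e : Nonempty (H ≃* Cfsg.Lie.chevG2.group F)) : Nonempty (G ≃* Cfsg.Lie.chevG2.group F) := by
  have h1 := eq_top_of_equiv h H hC hF e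
  subst h1
  exact ⟨Subgroup.topEquiv.symm.trans e.some⟩

end Cfsg.Agent.GTwoThree.Closing
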