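import Cfsg.Agent.GTwoThree.TableSound

/-!
# Isomorphism criterion: two groups satisfying `Rel` with core-free normalizer of `⟨a⟩` are isomorphic
-/

set_option autoImplicit false

namespace Cfsg.Agent.GTwoThree

open Cfsg.Agent.SporRec.J1.Machine

theorem rels_bound : ∀ w ∈ Cert.rels, ∀ g ∈ w, g < 8 := by decide

section

variable {J : Type*} [Group J] {a b c d r t : J}

theorem exists_rep (h : Rel a b c d r t) (ha : a ≠ 1) : ∃ rep : ℕ → J ⧸ NA a,
    Valid (g8 a b c d r t) rep fin ∧ rep 0 = ((1 : J) : J ⧸ NA a) ∧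
    (∀ n', Alive n' → ∀ n, Alive n → rep n = rep n' → n = n') := by
  have fixm : ∀ x : J, x ∈ NA a → x • ((1 : J) : J ⧸ NA a) = ((1 : J) : J ⧸ NA a) := by
    intro x hx
    change ((x * 1 : J) : J ⧸ NA a) = ((1 : J) : J ⧸ NA a)
    rw [mul_one, QuotientGroup.eq, mul_one]
    exact (NA a).inv_mem hx
  have nfix : ∀ x : J, x ∉ NA a → x • ((1 : J) : J ⧸ NA a) ≠ ((1 : J) : J ⧸ NA a) := by
    intro x hx he
    apply hx
    change ((x * 1 : J) : J ⧸ NA a) = ((1 : J) : J ⧸ NA a) at he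
    rw [mul_one, QuotientGroup.eq] at he
    rw [mul_one] at he
    simpa using (NA a).inv_mem he
  have hinv := h.g8_inv
  obtain ⟨rep, h0, hv⟩ := init_valid hinv ((1 : J) : J ⧸ NA a) [0, 1, 3, 4, 6, 7]
    (fun g hg => ⟨(h.letter_mem g hg).1, fixm _ (h.letter_mem g hg).2⟩) Cert.tree fin_tree
  have hr := rules_of_rels hinv Cert.rels Cert.rules rels_bound h.letters fin_rules
  have hfin : Valid (g8 a b c d r t) rep fin := run_valid hr Cert.ops _ fin_ops hv
  refine ⟨rep, hfin, h0, ?_⟩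
  refine rep_inj hfin ?_ ?_ ?_ ?_
  · intro g hg
    rw [h0]
    have hg' := (hLetter_iff g).mp hg
    refine fixm _ (h.letter_mem g ?_).2
    simp only [List.mem_cons, List.not_mem_nil, or_false]
    omega
  · rw [h0]
    apply nfix
    intro hx
    apply h.b_not_mem ha
    have hx' : r * b ∈ NA a := hx
    have := (NA a).mul_mem (h.letter_mem 0 (by simp)).2 hx'
    have e : g8 a b c d r t 0 * (r * b) = b := canc h.rr b
    rwa [e] at this
  · rw [h0]
    exact nfix _ (h.t_not_mem ha)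
  · rw [h0, smul_smul]
    apply nfix
    intro hx
    apply h.bt_not_mem ha
    have hx' : r * b * t ∈ NA a := hx
    have := (NA a).mul_mem (h.letter_mem 0 (by simp)).2 hx'
    have e : g8 a b c d r t 0 * (r * b * t) = b * t := by
      rw [mul_assoc]; exact canc h.rr (b * t)
    rwa [e] at this

/-- the letters generate -/
theorem Rel.closure_letters (h : Rel a b c d r t) (hgen : Subgroup.closure {a, b, c, d, r, t} = ⊤) :
    Subgroup.closure {y | ∃ g < 8, y = g8 a b c d r t g} = ⊤ := by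
  rw [eq_top_iff, ← hgen, Subgroup.closure_le]
  have hl : ∀ g < 8, g8 a b c d r t g ∈ Subgroup.closure {y | ∃ g < 8, y = g8 a b c d r t g} :=
    fun g hg => Subgroup.subset_closure ⟨g, hg, rfl⟩
  have hr := hl 0 (by norm_num)
  have key : ∀ x, r * x ∈ Subgroup.closure {y | ∃ g < 8, y = g8 a b c d r t g} →
      x ∈ Subgroup.closure {y | ∃ g < 8, y = g8 a b c d r t g} := by
    intro x hx
    have := mul_mem hr hx
    have e : g8 a b c d r t 0 * (r * x) = x := canc h.rr x
    rwa [e] at this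
  rintro x (rfl | rfl | rfl | rfl | rfl | rfl)
  · exact key _ (hl 1 (by norm_num))
  · exact key _ (hl 2 (by norm_num))
  · exact key _ (hl 3 (by norm_num))
  · exact key _ (hl 4 (by norm_num))
  · exact hr
  · exact hl 5 (by norm_num)

/-- the action on the nodes -/
theorem exists_node (h : Rel a b c d r t) {rep : ℕ → J ⧸ NA a} (hv : Valid (g8 a b c d r t) rep fin)
    (hgen : Subgroup.closure {a, b, c, d, r, t} = ⊤) (w : J) : ∃ n, Alive n ∧ w • rep 0 = rep n := by
  have hw : w ∈ Subgroup.closure {y | ∃ g < 8, y = g8 a b c d r t g} := by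
    rw [h.closure_letters hgen]; trivial
  have key : ∀ n, Alive n → ∃ m, Alive m ∧ w • rep n = rep m := by
    induction hw using Subgroup.closure_induction'' with
    | mem y hy =>
      obtain ⟨g, hg, rfl⟩ := hy
      intro n hn
      obtain ⟨m, h1, h2, _⟩ := row n hn g hg
      exact ⟨m, h2, look_sound hv hg h1⟩
    | inv_mem y hy =>
      obtain ⟨g, hg, rfl⟩ := hy
      intro n hn
      have : (g8 a b c d r t g)⁻¹ = g8 a b c d r t g := inv_eq_of_mul_eq_one_right (h.g8_inv g hg)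
      rw [this]
      obtain ⟨m, h1, h2, _⟩ := row n hn g hg
      exact ⟨m, h2, look_sound hv hg h1⟩
    | one => intro n hn; exact ⟨n, hn, one_smul _ _⟩
    | mul y z _ _ hy hz =>
      intro n hn
      obtain ⟨m, hm, h1⟩ := hz n hn
      obtain ⟨l, hl, h2⟩ := hy m hm
      exact ⟨l, hl, by rw [mul_smul, h1, h2]⟩
  exact key 0 alive_zero

end

section Iso

variable {J₁ J₂ : Type*} [Group J₁] [Group J₂] {a b c d r t : J₁} {a' b' c' d' r' t' : J₂}

/-- the pairs of letters -/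
def pairs (a b c d r t : J₁) (a' b' c' d' r' t' : J₂) : Subgroup (J₁ × J₂) :=
  Subgroup.closure {y | ∃ g < 8, y = (g8 a b c d r t g, g8 a' b' c' d' r' t' g)}

theorem pairs_act (h : Rel a b c d r t) (h' : Rel a' b' c' d' r' t') {rep : ℕ → J₁ ⧸ NA a} {rep' : ℕ → J₂ ⧸ NA a'}
    (hv : Valid (g8 a b c d r t) rep fin) (hv' : Valid (g8 a' b' c' d' r' t') rep' fin) {x : J₁ × J₂}
    (hx : x ∈ pairs a b c d r t a' b' c' d' r' t') :
    ∀ n, Alive n → ∃ m, Alive m ∧ x.1 • rep n = rep m ∧ x.2 • rep' n = rep' m := by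
  induction hx using Subgroup.closure_induction'' with
  | mem y hy =>
    obtain ⟨g, hg, rfl⟩ := hy
    intro n hn
    obtain ⟨m, h1, h2, _⟩ := row n hn g hg
    exact ⟨m, h2, look_sound hv hg h1, look_sound hv' hg h1⟩
  | inv_mem y hy =>
    obtain ⟨g, hg, rfl⟩ := hy
    intro n hn
    have e : (g8 a b c d r t g)⁻¹ = g8 a b c d r t g := inv_eq_of_mul_eq_one_right (h.g8_inv g hg)
    have e' : (g8 a' b' c' d' r' t' g)⁻¹ = g8 a' b' c' d' r' t' g := inv_eq_of_mul_eq_one_right (h'.g8_inv g hg)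
    obtain ⟨m, h1, h2, _⟩ := row n hn g hg
    refine ⟨m, h2, ?_, ?_⟩
    · simp only [Prod.fst_inv, e]; exact look_sound hv hg h1
    · simp only [Prod.snd_inv, e']; exact look_sound hv' hg h1
  | one => intro n hn; exact ⟨n, hn, one_smul _ _, one_smul _ _⟩
  | mul y z _ _ hy hz =>
    intro n hn
    obtain ⟨m, hm, h1, h1'⟩ := hz n hn
    obtain ⟨l, hl, h2, h2'⟩ := hy m hm
    refine ⟨l, hl, ?_, ?_⟩
    · rw [Prod.fst_mul, mul_smul, h1, h2]
    · rw [Prod.snd_mul, mul_smul, h1', h2']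

/-- one half: the second coordinate is trivial if the first is -/
theorem pairs_ker (h : Rel a b c d r t) (h' : Rel a' b' c' d' r' t') (ha : a ≠ 1) (ha' : a' ≠ 1)
    (hgen' : Subgroup.closure {a', b', c', d', r', t'} = ⊤)
    (core' : ∀ y : J₂, (∀ w : J₂, w⁻¹ * y * w ∈ NA a') → y = 1) {x : J₁ × J₂}
    (hx : x ∈ pairs a b c d r t a' b' c' d' r' t') (h1 : x.1 = 1) : x.2 = 1 := by
  obtain ⟨rep, hv, _, hinj⟩ := exists_rep h ha
  obtain ⟨rep', hv', h0', _⟩ := exists_rep h' ha'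
  have hact := pairs_act h h' hv hv' hx
  apply core'
  intro w
  obtain ⟨n, hn, hw⟩ := exists_node h' hv' hgen' w
  obtain ⟨m, hm, e1, e2⟩ := hact n hn
  rw [h1, one_smul] at e1
  have := hinj m hm n hn e1
  subst this
  rw [← hw, h0', smul_smul] at e2
  change (((x.2 * w) * 1 : J₂) : J₂ ⧸ NA a') = ((w * 1 : J₂) : J₂ ⧸ NA a') at e2
  rw [mul_one, mul_one] at e2
  have := QuotientGroup.eq.mp e2.symm
  simpa [mul_assoc] using this

theorem pairs_swap {x : J₁ × J₂} (hx : x ∈ pairs a b c d r t a' b' c' d' r' t') :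
    x.swap ∈ pairs a' b' c' d' r' t' a b c d r t := by
  have : pairs a b c d r t a' b' c' d' r' t' ≤
      (pairs a' b' c' d' r' t' a b c d r t).comap (MulEquiv.prodComm (M := J₁) (N := J₂)).toMonoidHom := by
    rw [pairs, Subgroup.closure_le]
    rintro y ⟨g, hg, rfl⟩
    exact Subgroup.subset_closure ⟨g, hg, rfl⟩
  exact this hx

theorem pairs_fst_surj (h : Rel a b c d r t) (hgen : Subgroup.closure {a, b, c, d, r, t} = ⊤) (y : J₁) :
    ∃ x ∈ pairs a b c d r t a' b' c' d' r' t', x.1 = y := by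
  have : (⊤ : Subgroup J₁) ≤ (pairs a b c d r t a' b' c' d' r' t').map (MonoidHom.fst J₁ J₂) := by
    rw [← h.closure_letters hgen, Subgroup.closure_le]
    rintro y ⟨g, hg, rfl⟩
    exact ⟨_, Subgroup.subset_closure ⟨g, hg, rfl⟩, rfl⟩
  obtain ⟨x, hx, e⟩ := this (Subgroup.mem_top y)
  exact ⟨x, hx, e⟩

/-- the isomorphism criterion -/
theorem table_iso (h : Rel a b c d r t) (h' : Rel a' b' c' d' r' t') (ha : a ≠ 1) (ha' : a' ≠ 1)
    (hgen : Subgroup.closure {a, b, c, d, r, t} = ⊤)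
    (hgen' : Subgroup.closure {a', b', c', d', r', t'} = ⊤)
    (core : ∀ y : J₁, (∀ w : J₁, w⁻¹ * y * w ∈ NA a) → y = 1)
    (core' : ∀ y : J₂, (∀ w : J₂, w⁻¹ * y * w ∈ NA a') → y = 1) : Nonempty (J₁ ≃* J₂) := by
  set Γ := pairs a b c d r t a' b' c' d' r' t' with hΓ
  have b1 : Function.Bijective ((MonoidHom.fst J₁ J₂).comp Γ.subtype) := by
    constructor
    · rw [injective_iff_map_eq_one]
      rintro ⟨x, hx⟩ h1
      have h2 : x.1 = 1 := h1
      have h3 := pairs_ker h h' ha ha' hgen' core' hx h2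
      exact Subtype.ext (Prod.ext h2 h3)
    · intro y
      obtain ⟨x, hx, e⟩ := pairs_fst_surj (a' := a') (b' := b') (c' := c') (d' := d') (r' := r') (t' := t') h hgen y
      exact ⟨⟨x, hx⟩, e⟩
  have b2 : Function.Bijective ((MonoidHom.snd J₁ J₂).comp Γ.subtype) := by
    constructor
    · rw [injective_iff_map_eq_one]
      rintro ⟨x, hx⟩ h1
      have h2 : x.2 = 1 := h1
      have h3 := pairs_ker h' h ha' ha hgen core (pairs_swap hx) h2
      exact Subtype.ext (Prod.ext h3 h2)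
    · intro y
      obtain ⟨x, hx, e⟩ := pairs_fst_surj (a' := a) (b' := b) (c' := c) (d' := d) (r' := r) (t' := t) h' hgen' y
      exact ⟨⟨x.swap, pairs_swap hx⟩, e⟩
  exact ⟨(MulEquiv.ofBijective _ b1).symm.trans (MulEquiv.ofBijective _ b2)⟩

end Iso

end Cfsg.Agent.GTwoThree
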