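import Cfsg.Agent.GTwoThree.Kill
import Cfsg.Agent.GTwoThree.TableIso

/-!
# The core of the normalizer of `⟨a⟩` is trivial; lifting the relations to a subgroup
-/

set_option autoImplicit false

namespace Cfsg.Agent.GTwoThree.Core

open Cfsg.Agent.GTwoThree.Pre

section

variable {J : Type*} [Group J] {a b c d r t : J}

theorem toPre (h : Rel a b c d r t) : Pre a b c d r t where
  a3 := h.a3
  c3 := h.c3
  b4 := h.b4
  bd2 := h.bd2
  rr := h.rr
  tt := h.tt
  ac := h.ac
  ad := h.ad
  bc := h.bc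
  bd := h.bd
  ab3 := h.ab3
  cd3 := h.cd3
  za := h.za
  zc := h.zc
  ra := h.ra
  rb := h.rb
  rc := h.rc
  rd := h.rd
  bt3 := h.bt3
  te := h.te
  tz := h.tz

/-- the core of `N(⟨a⟩)` is trivial if `C(z) ∩ C(r) ∩ C(a) = ⟨z⟩` -/
theorem core_trivial (h : Rel a b c d r t) (ha : a ≠ 1)
    (hE : ∀ x : J, Commute x (b * b) → Commute x r → Commute x a → x = 1 ∨ x = b * b) (x : J)
    (hx : ∀ w : J, w⁻¹ * x * w ∈ NA a) : x = 1 := by
  have P := toPre h
  set N := (NA a).normalCore with hN
  have hxN : x ∈ N := by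
    intro w
    have := hx w⁻¹
    rwa [inv_inv] at this
  have haN : a ∉ N := by
    intro h1
    have h2 : b * a * b⁻¹ ∈ NA a := h1 b
    apply h.b_not_mem ha
    have e := P.b_eq
    have h3 : a ∈ NA a := mem_NA_of_conj (Or.inl (by group))
    rw [e]
    exact (NA a).mul_mem ((NA a).mul_mem h3 h2) h3
  have hcomm : ∀ v ∈ N, Commute v a := by
    intro v hv
    have h1 : v ∈ NA a := by
      have := hv 1
      simpa using this
    obtain ⟨n, hn⟩ := conj_mem h1
    have hn' : a ^ n = v * a * v⁻¹ := hn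
    have m1 : v * a * v⁻¹ * a⁻¹ = a ^ (n - 1) := by rw [← hn', zpow_sub_one]
    have m2 : v * a * v⁻¹ * a⁻¹ ∈ N := by
      have h2 : a * v⁻¹ * a⁻¹ ∈ N := Subgroup.normalCore_normal (NA a) |>.conj_mem _ (N.inv_mem hv) a
      have := N.mul_mem hv h2
      simpa only [mul_assoc] using this
    have m3 : v * a * v⁻¹ * a⁻¹ = 1 := by
      by_contra hne
      rw [m1] at hne
      have h4 := mem_zpow_of_cube h.a3 hne
      rw [← m1] at h4
      have h5 : Subgroup.zpowers (v * a * v⁻¹ * a⁻¹) ≤ N := by rwa [Subgroup.zpowers_le]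
      exact haN (h5 h4)
    show v * a = a * v
    rw [mul_inv_eq_one, mul_inv_eq_iff_eq_mul] at m3
    exact m3
  have hall : ∀ v ∈ N, ∀ w : J, Commute v (cj w a) := by
    intro v hv w
    have h1 : w⁻¹ * v * w ∈ N := by
      have := Subgroup.normalCore_normal (NA a) |>.conj_mem _ hv w⁻¹
      rwa [inv_inv] at this
    have h2 := cj_comm w (hcomm _ h1)
    have h3 : cj w (w⁻¹ * v * w) = v := by unfold cj; group
    rwa [h3] at h2
  have hb : ∀ v ∈ N, ∀ w : J, Commute v (cj w b) := by
    intro v hv w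
    have e := P.b_eq
    have e2 : cj w b = cj w a * cj (w * b) a * cj w a := by
      conv_lhs => rw [e]
      rw [cj_mul, cj_mul, cj_cj]
    rw [e2]
    exact ((hall v hv w).mul_right (hall v hv _)).mul_right (hall v hv w)
  have hbb : ∀ v ∈ N, ∀ w : J, Commute v (cj w (b * b)) := by
    intro v hv w
    rw [cj_mul]
    exact (hb v hv w).mul_right (hb v hv w)
  have c1 : Commute x (b * b) := by
    have := hbb x hxN 1
    rwa [cj_fix (Commute.one_left _)] at this
  have c2 : Commute x r := by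
    have := hbb x hxN t
    rwa [P.cj_t_z] at this
  rcases hE x c1 c2 (hcomm x hxN) with h1 | h1
  · exact h1
  · exfalso
    have h2 : cj t x ∈ N := Subgroup.normalCore_normal (NA a) |>.conj_mem _ hxN t
    rw [h1, P.cj_t_z] at h2
    have h3 := hcomm r h2
    have h4 := P.cj_ra
    rw [cj_fix h3] at h4
    exact h.sq_ne ha h4

/-- lifting to a subgroup -/
theorem lift (h : Rel a b c d r t) (H : Subgroup J) (ha : a ∈ H) (hb : b ∈ H) (hc : c ∈ H) (hd : d ∈ H)
    (hr : r ∈ H) (ht : t ∈ H) :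
    Rel (⟨a, ha⟩ : H) (⟨b, hb⟩ : H) (⟨c, hc⟩ : H) (⟨d, hd⟩ : H) (⟨r, hr⟩ : H) (⟨t, ht⟩ : H) where
  a3 := Subtype.ext h.a3
  c3 := Subtype.ext h.c3
  b4 := Subtype.ext h.b4
  bd2 := Subtype.ext h.bd2
  rr := Subtype.ext h.rr
  tt := Subtype.ext h.tt
  ac := Subtype.ext h.ac
  ad := Subtype.ext h.ad
  bc := Subtype.ext h.bc
  bd := Subtype.ext h.bd
  ab3 := Subtype.ext h.ab3
  cd3 := Subtype.ext h.cd3
  za := Subtype.ext h.za
  zc := Subtype.ext h.zc
  ra := Subtype.ext h.ra
  rb := Subtype.ext h.rb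
  rc := Subtype.ext h.rc
  rd := Subtype.ext h.rd
  bt3 := Subtype.ext h.bt3
  te := Subtype.ext h.te
  tz := Subtype.ext h.tz
  k1 := Subtype.ext h.k1
  k2 := Subtype.ext h.k2
  k3 := Subtype.ext h.k3

end

/-- the isomorphism criterion with a simple group on the right -/
theorem iso_of_simple {G J : Type*} [Group G] [Group J] {a b c d r t : G} (h : Rel a b c d r t) (ha : a ≠ 1)
    (hE : ∀ x : G, Commute x (b * b) → Commute x r → Commute x a → x = 1 ∨ x = b * b)
    [IsSimpleGroup J] {a' b' c' d' r' t' : J} (h' : Rel a' b' c' d' r' t') (ha' : a' ≠ 1)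
    (hgen' : Subgroup.closure {a', b', c', d', r', t'} = ⊤) :
    Nonempty (Subgroup.closure {a, b, c, d, r, t} ≃* J) := by
  set H := Subgroup.closure {a, b, c, d, r, t} with hH
  have ma : a ∈ H := Subgroup.subset_closure (by simp)
  have mb : b ∈ H := Subgroup.subset_closure (by simp)
  have mc : c ∈ H := Subgroup.subset_closure (by simp)
  have md : d ∈ H := Subgroup.subset_closure (by simp)
  have mr : r ∈ H := Subgroup.subset_closure (by simp)
  have mt : t ∈ H := Subgroup.subset_closure (by simp)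
  have hl := lift h H ma mb mc md mr mt
  have hgen : Subgroup.closure {(⟨a, ma⟩ : H), (⟨b, mb⟩ : H), (⟨c, mc⟩ : H), (⟨d, md⟩ : H), (⟨r, mr⟩ : H),
      (⟨t, mt⟩ : H)} = ⊤ := by
    have h1 := Subgroup.closure_closure_coe_preimage (k := ({a, b, c, d, r, t} : Set G))
    have h2 : (Subtype.val : H → G) ⁻¹' ({a, b, c, d, r, t} : Set G) = {(⟨a, ma⟩ : H), (⟨b, mb⟩ : H),
        (⟨c, mc⟩ : H), (⟨d, md⟩ : H), (⟨r, mr⟩ : H), (⟨t, mt⟩ : H)} := by
      ext x
      simp only [Set.mem_preimage, Set.mem_insert_iff, Set.mem_singleton_iff, Subtype.ext_iff]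
    rw [← h2]
    exact h1
  have ha1 : (⟨a, ma⟩ : H) ≠ 1 := fun e => ha (congrArg Subtype.val e)
  refine table_iso hl h' ha1 ha' hgen hgen' (core_trivial hl ha1 ?_) ?_
  · intro x c1 c2 c3
    rcases hE x.1 (by have := congrArg Subtype.val c1.eq; exact this) (by have := congrArg Subtype.val c2.eq; exact this)
      (by have := congrArg Subtype.val c3.eq; exact this) with e | e
    · left; exact Subtype.ext e
    · right; exact Subtype.ext e
  · intro y hy
    have hyN : y ∈ (NA a').normalCore := by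
      intro w
      have := hy w⁻¹
      rwa [inv_inv] at this
    have hnorm := Subgroup.normalCore_normal (NA a')
    rcases hnorm.eq_bot_or_eq_top with h1 | h1
    · rw [h1] at hyN
      exact Subgroup.mem_bot.mp hyN
    · exfalso
      apply h'.b_not_mem ha'
      have : b' ∈ (NA a').normalCore := by rw [h1]; trivial
      exact Subgroup.normalCore_le _ this

end Cfsg.Agent.GTwoThree.Core
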