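import Cfsg.Agent.GTwoThree.Cert

/-!
# The relations of `G₂(3)`

Generators `a, b` (`SL₂(3)`), `c, d` (`SL₂(3)`), `b² = d² = z`, an involution `r` inverting `a, b, c, d`, and an
involution `t` with `z ^ t = r`, centralising `b d`.
-/

set_option autoImplicit false
set_option linter.unusedSimpArgs false

namespace Cfsg.Agent.GTwoThree

open Cfsg.Agent.SporRec.J1.Machine

/-- the relations of `G₂(3)` in the generators `a, b, c, d, r, t` -/
structure Rel {J : Type*} [Group J] (a b c d r t : J) : Prop where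
  a3 : a ^ 3 = 1
  c3 : c ^ 3 = 1
  b4 : b ^ 4 = 1
  bd2 : b * b = d * d
  rr : r * r = 1
  tt : t * t = 1
  ac : a * c = c * a
  ad : a * d = d * a
  bc : b * c = c * b
  bd : b * d = d * b
  ab3 : (a * b) ^ 3 = 1
  cd3 : (c * d) ^ 3 = 1
  za : b * b * a = a * (b * b)
  zc : b * b * c = c * (b * b)
  ra : r * a * r = a⁻¹
  rb : r * b * r = b⁻¹
  rc : r * c * r = c⁻¹
  rd : r * d * r = d⁻¹
  bt3 : (b * t) ^ 3 = 1
  te : t * (b * d) = b * d * t
  tz : t * (b * b) * t = r
  k1 : a * (t * a * t) = t * a * t * a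
  k2 : c * (t * (b * d) * c * (t * (b * d))⁻¹) = t * (b * d) * c * (t * (b * d))⁻¹ * c
  k3 : a * (t * c * t) = t * c * t * a

/-- the letters as involutions -/
def g8 {J : Type*} [Group J] (a b c d r t : J) : ℕ → J
  | 0 => r
  | 1 => r * a
  | 2 => r * b
  | 3 => r * c
  | 4 => r * d
  | 5 => t
  | 6 => t * (r * a) * t
  | 7 => t * (r * c) * t
  | _ => 1

section

variable {J : Type*} [Group J]

/-- pushing an involution `r` inverting `x` to the right -/
theorem push {r x : J} (rr : r * r = 1) (h : r * x * r = x⁻¹) (y : J) : r * (x * y) = x⁻¹ * (r * y) := by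
  rw [← h, ← mul_assoc, ← mul_assoc, mul_assoc (r * x) r r, rr, mul_one]

theorem push' {r x : J} (rr : r * r = 1) (h : r * x * r = x⁻¹) (y : J) : r * (x⁻¹ * y) = x * (r * y) := by
  have h' : r * x⁻¹ * r = x := by
    have hr : r⁻¹ = r := inv_eq_of_mul_eq_one_right rr
    have := congrArg (·⁻¹) h
    simpa [mul_assoc, hr] using this
  have h'' : x⁻¹ * r = r * x := by rw [← h, mul_assoc, mul_assoc, rr, mul_one]
  have := push rr (x := x⁻¹) (by rw [h', inv_inv]) y
  rwa [inv_inv] at this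

theorem push0 {r x : J} (rr : r * r = 1) (h : r * x * r = x⁻¹) : r * x = x⁻¹ * r := by
  have := push rr h 1
  simpa using this

theorem push0' {r x : J} (rr : r * r = 1) (h : r * x * r = x⁻¹) : r * x⁻¹ = x * r := by
  have := push' rr h 1
  simpa using this

theorem canc {r : J} (rr : r * r = 1) (y : J) : r * (r * y) = y := by rw [← mul_assoc, rr, one_mul]

variable {a b c d r t : J}

theorem Rel.g8_inv (h : Rel a b c d r t) : ∀ g, g < 8 → g8 a b c d r t g * g8 a b c d r t g = 1 := by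
  have key : ∀ x : J, r * x * r = x⁻¹ → r * x * (r * x) = 1 := fun x hx => by
    rw [← mul_assoc, hx, inv_mul_cancel]
  have key2 : ∀ x : J, x * x = 1 → t * x * t * (t * x * t) = 1 := fun x hx => by
    simp only [mul_assoc]
    rw [canc h.tt, canc hx, h.tt]
  intro g hg
  match g with
  | 0 => exact h.rr
  | 1 => exact key a h.ra
  | 2 => exact key b h.rb
  | 3 => exact key c h.rc
  | 4 => exact key d h.rd
  | 5 => exact h.tt
  | 6 => exact key2 _ (key a h.ra)
  | 7 => exact key2 _ (key c h.rc)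
  | n + 8 => omega

theorem Rel.b4' (h : Rel a b c d r t) : b * (b * (b * b)) = 1 := by
  have := h.b4
  simpa [pow_succ, mul_assoc] using this

theorem Rel.comm_inv {x y : J} (h : x * y = y * x) : x⁻¹ * y = y * x⁻¹ :=
  ((show Commute x y from h).inv_left).eq

theorem Rel.letters (h : Rel a b c d r t) : ∀ w ∈ Cert.rels, val (g8 a b c d r t) w = 1 := by
  have rr := h.rr
  have tt := h.tt
  have a3 : a⁻¹ * (a⁻¹ * a⁻¹) = 1 := by
    have := congrArg (·⁻¹) h.a3
    simpa [pow_succ, mul_assoc] using this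
  have c3 : c⁻¹ * (c⁻¹ * c⁻¹) = 1 := by
    have := congrArg (·⁻¹) h.c3
    simpa [pow_succ, mul_assoc] using this
  have b4 : b⁻¹ * (b⁻¹ * (b⁻¹ * b⁻¹)) = 1 := by
    have := congrArg (·⁻¹) h.b4
    simpa [pow_succ, mul_assoc] using this
  have d4 : d⁻¹ * (d⁻¹ * (d⁻¹ * d⁻¹)) = 1 := by
    have h1 : (d * d) * (d * d) = 1 := by rw [← h.bd2]; simpa [pow_succ, mul_assoc] using h.b4
    have := congrArg (·⁻¹) h1
    simpa [mul_assoc] using this
  intro w hw
  simp only [Cert.rels, List.mem_cons, List.not_mem_nil, or_false] at hw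
  rcases hw with rfl | rfl | rfl | rfl | rfl | rfl | rfl | rfl | rfl | rfl | rfl | rfl | rfl | rfl | rfl | rfl |
    rfl | rfl | rfl | rfl | rfl | rfl
  all_goals
    simp only [val, g8, one_mul, mul_assoc, push rr h.ra, push rr h.rb, push rr h.rc, push rr h.rd,
      push' rr h.ra, push' rr h.rb, push' rr h.rc, push' rr h.rd, push0 rr h.ra, push0 rr h.rb, push0 rr h.rc,
      push0 rr h.rd, push0' rr h.ra, push0' rr h.rb, push0' rr h.rc, push0' rr h.rd, canc rr, rr, canc tt, tt,
      mul_one]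
  · exact a3
  · exact b4
  · exact c3
  · exact d4
  · have h1 : b⁻¹ * b⁻¹ = d⁻¹ * d⁻¹ := by
      have := congrArg (·⁻¹) h.bd2
      simpa using this
    rw [h1]; exact d4
  · rw [← h.ac]; simp
  · rw [← h.ad]; simp
  · rw [← h.bc]; simp
  · rw [← h.bd]; simp
  · have := congrArg (·⁻¹) h.ab3
    simpa [pow_succ, mul_assoc] using this
  · have := congrArg (·⁻¹) h.cd3
    simpa [pow_succ, mul_assoc] using this
  · rw [← h.za]; simp [mul_assoc]
  · rw [← h.bd2, ← h.zc, h.bd2]; simp [mul_assoc]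
  · exact h.b4'
  · have ht : t⁻¹ = t := inv_eq_of_mul_eq_one_right h.tt
    have := congrArg (·⁻¹) h.bt3
    simpa [pow_succ, mul_assoc, ht] using this
  · have : t * (b * (d * t)) = b * d := by
      have h1 := h.te
      calc t * (b * (d * t)) = t * (b * d) * t := by simp only [mul_assoc]
        _ = b * d := by rw [h1, mul_assoc, tt, mul_one]
    rw [this]; simp
  · have h1 : b⁻¹ * (b⁻¹ * t) = b * (b * t) := by
      have h2 : b⁻¹ * b⁻¹ = b * b := by
        have h3 := h.b4'
        have h4 : (b * b) * (b * b) = 1 := by simpa [mul_assoc] using h3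
        have h5 := inv_eq_of_mul_eq_one_right h4
        simpa using h5
      rw [← mul_assoc, h2, mul_assoc]
    rw [h1]
    have h2 := h.tz
    calc r * (t * (b * (b * t))) = r * (t * (b * b) * t) := by simp only [mul_assoc]
      _ = 1 := by rw [h2, rr]
  · have ht : t⁻¹ = t := inv_eq_of_mul_eq_one_right h.tt
    have h1 := h.k1
    calc t * (a⁻¹ * (t * (a⁻¹ * (t * (a * (t * a)))))) = (t * a * t)⁻¹ * (a⁻¹ * (t * a * t * a)) := by
          simp only [mul_inv_rev, ht, mul_assoc]
      _ = 1 := by rw [← h1, inv_mul_cancel_left, inv_mul_cancel]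
  · have ht : t⁻¹ = t := inv_eq_of_mul_eq_one_right h.tt
    have h1 := h.k2
    calc t * (b * (d * (c⁻¹ * (d⁻¹ * (b⁻¹ * (t * (c⁻¹ * (t * (b * (d * (c * (d⁻¹ * (b⁻¹ * (t * c))))))))))))))
        = (t * (b * d) * c * (t * (b * d))⁻¹)⁻¹ * (c⁻¹ * (t * (b * d) * c * (t * (b * d))⁻¹ * c)) := by
          simp only [mul_inv_rev, inv_inv, ht, mul_assoc]
      _ = 1 := by rw [← h1, inv_mul_cancel_left, inv_mul_cancel]
  · have ht : t⁻¹ = t := inv_eq_of_mul_eq_one_right h.tt
    have h1 := h.k3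
    calc t * (c⁻¹ * (t * (a⁻¹ * (t * (c * (t * a)))))) = (t * c * t)⁻¹ * (a⁻¹ * (t * c * t * a)) := by
          simp only [mul_inv_rev, ht, mul_assoc]
      _ = 1 := by rw [← h1, inv_mul_cancel_left, inv_mul_cancel]
  · simp [tt]
  · simp [tt]

end

end Cfsg.Agent.GTwoThree
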