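import Cfsg.Prelude.Def_ChevG2
import Cfsg.Agent.GTwoThree.ModelData
import Cfsg.Agent.GTwoThree.Rel

/-!
# The model of `G₂(3)`

Explicit elements `a, b, c, d, r, t` of the Chevalley group of type `G₂` over the field with three elements which
satisfy the relations `Rel` and generate the group.
-/

set_option autoImplicit false
set_option Elab.async false
set_option maxRecDepth 100000

namespace Cfsg.Agent.GTwoThree.Model

open Cfsg.Lie
open Cfsg.Agent.Lib.PackMat
open Cfsg.Agent.GTwoThree.ModelData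

instance fact3 : Fact (Nat.Prime 3) := ⟨by norm_num⟩

/-- `GL₁₄(3)` -/
abbrev GL14 : Type := GL (Fin C3.n) (ZMod C3.p)

abbrev Mat14 : Type := Matrix (Fin C3.n) (Fin C3.n) (ZMod C3.p)

theorem one_lt_p : 1 < C3.p := by decide

theorem good3 : C3.good = true := by decide +kernel

/-! ### Words -/

section ev

variable {G : Type*} [Group G] (g : ℕ → G)

/-- value of a word -/
def ev (w : List ℕ) : G := (w.map g).prod

theorem ev_nil : ev g [] = 1 := rfl

theorem ev_cons (x : ℕ) (w : List ℕ) : ev g (x :: w) = g x * ev g w := by simp [ev]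

theorem ev_append (u v : List ℕ) : ev g (u ++ v) = ev g u * ev g v := by simp [ev]

end ev

/-- inverse letter -/
def iv (k : ℕ) : ℕ := k ^^^ 1

/-- inverse word -/
def iw (w : List ℕ) : List ℕ := (w.map iv).reverse

/-- code of the letter `k` (the identity for `k ≥ 24`) -/
def cd (k : ℕ) : ℕ := L3.getD k ID3

theorem cd_big {k : ℕ} (h : 24 ≤ k) : cd k = ID3 := by
  unfold cd
  exact List.getD_eq_default _ _ (by simpa [L3] using h)

theorem okcd (k : ℕ) : okG C3 (cd k) = true := by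
  rcases Nat.lt_or_ge k 24 with h | h
  · have key : ∀ k < 24, okG C3 (cd k) = true := by decide +kernel
    exact key k h
  · rw [cd_big h]; decide +kernel

theorem check_inv : ∀ k < 24, checkScalar C3 [cd k, cd (iv k)] 1 0 14 = true := by decide +kernel

theorem iv_lt : ∀ k < 24, iv k < 24 ∧ iv (iv k) = k := by decide +kernel

theorem mat_inv (k : ℕ) (h : k < 24) : mat C3 (cd k) * mat C3 (cd (iv k)) = 1 := by
  have := prod_one_of_check (C := C3) good3 (w := [cd k, cd (iv k)]) one_lt_p (by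
    intro g hg
    rcases List.mem_cons.mp hg with rfl | hg
    · exact okcd k
    · rw [List.mem_singleton] at hg
      subst hg
      exact okcd _) (check_inv k h)
  simpa using this

theorem mat_inv' (k : ℕ) (h : k < 24) : mat C3 (cd (iv k)) * mat C3 (cd k) = 1 := by
  have h1 := mat_inv (iv k) (iv_lt k h).1
  rwa [(iv_lt k h).2] at h1

theorem mat_ID : mat C3 ID3 = 1 := by
  have := prod_one_of_check (C := C3) good3 (w := [ID3]) one_lt_p (by
    intro g hg
    rw [List.mem_singleton] at hg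
    subst hg
    decide +kernel) (by decide +kernel)
  simpa using this

/-- the letter `k` as an element of `GL₁₄(3)` -/
def X (k : ℕ) : GL14 :=
  if h : k < 24 then ⟨mat C3 (cd k), mat C3 (cd (iv k)), mat_inv k h, mat_inv' k h⟩ else 1

theorem X_val (k : ℕ) : (X k : Mat14) = mat C3 (cd k) := by
  unfold X
  split_ifs with h
  · rfl
  · rw [cd_big (by omega), mat_ID]; rfl

theorem X_big {k : ℕ} (h : 24 ≤ k) : X k = 1 := by
  unfold X
  rw [dif_neg (by omega)]

theorem ev_val (w : List ℕ) : ((ev X w : GL14) : Mat14) = ((w.map cd).map (mat C3)).prod := by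
  induction w with
  | nil => rw [ev_nil, List.map_nil, List.map_nil, List.prod_nil, Units.val_one]
  | cons x w ih =>
    rw [ev_cons, Units.val_mul, ih, X_val, List.map_cons, List.map_cons, List.prod_cons]

theorem ok_map (w : List ℕ) : ∀ g ∈ w.map cd, okG C3 g = true := by
  intro g hg
  obtain ⟨k, -, rfl⟩ := List.mem_map.mp hg
  exact okcd k

theorem ev_eq (w w' : List ℕ) (h : checkEq C3 (w.map cd) (w'.map cd) 0 14 = true) : ev X w = ev X w' := by
  apply Units.ext
  rw [ev_val, ev_val]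
  exact prod_eq_of_check good3 one_lt_p (ok_map w) (ok_map w') h

/-! ### Comparison with the Chevalley group -/

/-- coordinate index set of `chevG2` -/
abbrev I14 : Type := Fin 2 ⊕ Fin 12

def pos : I14 → ℕ
  | .inl i => i.val
  | .inr u => 2 + u.val

/-- root elements -/
def xm (r : Fin 12) (t : ZMod 3) : Matrix I14 I14 (ZMod 3) := chevG2.xMat (ZMod 3) r t

def ent (M : Matrix I14 I14 (ZMod 3)) (i j : I14) : ZMod 3 := M i j

def checkEntries (M : Matrix I14 I14 (ZMod 3)) (G : ℕ) : Prop :=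
  ∀ i j : I14, ent M i j = (dg 12 G (pos i + 14 * pos j) : ZMod 3)

instance (M : Matrix I14 I14 (ZMod 3)) (G : ℕ) : Decidable (checkEntries M G) := by
  unfold checkEntries; infer_instance

/-- code of `x_r(t)` -/
def xc (r t : ℕ) : ℕ := if t = 0 then ID3 else cd (2 * r + (t - 1))

theorem check_x : ∀ (r : Fin 12) (t : Fin 3), checkEntries (xm r ((t.val : ℕ) : ZMod 3)) (xc r.val t.val) := by
  decide +kernel

/-- the word for `x_r(t)` -/
def wx (r t : ℕ) : List ℕ := if t = 0 then [] else [2 * r + (t - 1)]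

theorem mat_xc (r : Fin 12) (t : Fin 3) : mat C3 (xc r.val t.val) = (ev X (wx r.val t.val) : GL14) := by
  unfold xc wx
  split_ifs with h
  · rw [mat_ID, ev_nil]; rfl
  · rw [ev_cons, ev_nil, mul_one, X_val]

/-- index equivalence -/
def e14 : I14 ≃ Fin 14 := finSumFinEquiv

theorem e14_val (i : I14) : (e14 i).val = pos i := by
  rcases i with i | i
  · rfl
  · rfl

/-- `GL₁₄(3) ≃ GL_J(3)` -/
def θ : GL14 ≃* GL I14 (ZMod 3) :=
  Units.mapEquiv (Matrix.reindexAlgEquiv (ZMod 3) (ZMod 3) (e14.symm : Fin 14 ≃ I14)).toMulEquiv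

theorem θ_val (g : GL14) (i j : I14) :
    ((θ g : GL I14 (ZMod 3)) : Matrix I14 I14 (ZMod 3)) i j = (g : Mat14) (e14 i) (e14 j) := rfl

theorem θ_x (r : Fin 12) (t : Fin 3) :
    ((θ (ev X (wx r.val t.val)) : GL I14 (ZMod 3)) : Matrix I14 I14 (ZMod 3)) = xm r ((t.val : ℕ) : ZMod 3) := by
  ext i j
  rw [θ_val]
  have h1 : ent (xm r ((t.val : ℕ) : ZMod 3)) i j =
    (dg 12 (xc r.val t.val) (pos i + 14 * pos j) : ZMod 3) := check_x r t i j
  have h2 : xm r ((t.val : ℕ) : ZMod 3) i j = ent (xm r ((t.val : ℕ) : ZMod 3)) i j := rfl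
  rw [h2, h1]
  have h3 : ((ev X (wx r.val t.val) : GL14) : Mat14) = mat C3 (xc r.val t.val) := (mat_xc r t).symm
  rw [h3]
  have h4 := mat_def C3 (xc r.val t.val) (e14 i) (e14 j)
  refine h4.trans ?_
  rw [e14_val, e14_val]
  rfl

/-- the adjoint group of type `G₂` over the field with three elements -/
abbrev Gp : Subgroup (GL I14 (ZMod 3)) := chevG2.group (ZMod 3)

theorem mem_x (k : ℕ) : θ (X k) ∈ Gp := by
  rcases Nat.lt_or_ge k 24 with h | h
  · have h1 : wx (k / 2) (k % 2 + 1) = [k] := by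
      unfold wx
      rw [if_neg (by omega)]
      congr 1
      omega
    have hk : k / 2 < 12 := by omega
    have h2 := θ_x ⟨k / 2, hk⟩ ⟨k % 2 + 1, by omega⟩
    change ((θ (ev X (wx (k / 2) (k % 2 + 1))) : GL I14 (ZMod 3)) : Matrix I14 I14 (ZMod 3)) = _ at h2
    rw [h1, ev_cons, ev_nil, mul_one] at h2
    exact Subgroup.subset_closure ⟨⟨k / 2, hk⟩, _, h2⟩
  · rw [X_big h, map_one]
    exact Gp.one_mem

/-- the letter `k` as an element of `G₂(3)` -/
def y (k : ℕ) : ↥Gp := ⟨θ (X k), mem_x k⟩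

theorem ev_y (w : List ℕ) : ((ev y w : ↥Gp) : GL I14 (ZMod 3)) = θ (ev X w) := by
  induction w with
  | nil => rw [ev_nil, ev_nil, map_one]; rfl
  | cons x w ih => rw [ev_cons, ev_cons, map_mul, Subgroup.coe_mul, ih]; rfl

theorem key (w w' : List ℕ) (h : checkEq C3 (w.map cd) (w'.map cd) 0 14 = true) : ev y w = ev y w' := by
  apply Subtype.ext
  rw [ev_y, ev_y, ev_eq w w' h]

theorem mulw (u v : List ℕ) : ev y u * ev y v = ev y (u ++ v) := (ev_append y u v).symm

def wa : List ℕ := [12]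
def wb : List ℕ := [12, 11, 12]
def wc : List ℕ := [4]
def wd : List ℕ := [4, 19, 4]
def wt : List ℕ := [22, 1, 22, 12, 11, 12, 12, 11, 12]
def wr : List ℕ := wt ++ wb ++ wb ++ wt

theorem invw {u v : List ℕ} (h : checkEq C3 ((u ++ v).map cd) (([] : List ℕ).map cd) 0 14 = true) :
    (ev y u)⁻¹ = ev y v := by
  apply inv_eq_of_mul_eq_one_right
  rw [mulw, key _ [] h, ev_nil]

/-- `Rel` for the explicit elements -/
theorem rel : Rel (ev y wa) (ev y wb) (ev y wc) (ev y wd) (ev y wr) (ev y wt) where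
  a3 := by rw [pow_three', mulw, mulw]; exact key _ [] (by decide +kernel)
  c3 := by rw [pow_three', mulw, mulw]; exact key _ [] (by decide +kernel)
  b4 := by rw [pow_succ, pow_three', mulw, mulw, mulw]; exact key _ [] (by decide +kernel)
  bd2 := by rw [mulw, mulw]; exact key _ _ (by decide +kernel)
  rr := by rw [mulw]; exact key _ [] (by decide +kernel)
  tt := by rw [mulw]; exact key _ [] (by decide +kernel)
  ac := by rw [mulw, mulw]; exact key _ _ (by decide +kernel)
  ad := by rw [mulw, mulw]; exact key _ _ (by decide +kernel)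
  bc := by rw [mulw, mulw]; exact key _ _ (by decide +kernel)
  bd := by rw [mulw, mulw]; exact key _ _ (by decide +kernel)
  ab3 := by rw [pow_three', mulw, mulw, mulw]; exact key _ [] (by decide +kernel)
  cd3 := by rw [pow_three', mulw, mulw, mulw]; exact key _ [] (by decide +kernel)
  za := by rw [mulw, mulw, mulw]; exact key _ _ (by decide +kernel)
  zc := by rw [mulw, mulw, mulw]; exact key _ _ (by decide +kernel)
  ra := by
    rw [mulw, mulw]
    exact eq_inv_of_mul_eq_one_left (by rw [mulw]; exact key _ [] (by decide +kernel))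
  rb := by
    rw [mulw, mulw]
    exact eq_inv_of_mul_eq_one_left (by rw [mulw]; exact key _ [] (by decide +kernel))
  rc := by
    rw [mulw, mulw]
    exact eq_inv_of_mul_eq_one_left (by rw [mulw]; exact key _ [] (by decide +kernel))
  rd := by
    rw [mulw, mulw]
    exact eq_inv_of_mul_eq_one_left (by rw [mulw]; exact key _ [] (by decide +kernel))
  bt3 := by rw [pow_three', mulw, mulw, mulw]; exact key _ [] (by decide +kernel)
  te := by simp only [mulw]; exact key _ _ (by decide +kernel)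
  tz := by simp only [mulw]; exact key _ _ (by decide +kernel)
  k1 := by simp only [mulw]; exact key _ _ (by decide +kernel)
  k2 := by
    have h : (ev y (wt ++ (wb ++ wd)))⁻¹ = ev y (iw (wt ++ (wb ++ wd))) := invw (by decide +kernel)
    simp only [mulw, h]
    exact key _ _ (by decide +kernel)
  k3 := by simp only [mulw]; exact key _ _ (by decide +kernel)

theorem a_ne_one : ev y wa ≠ 1 := by
  intro h
  have h1 : ((ev y wa : ↥Gp) : GL I14 (ZMod 3)) = 1 := by rw [h]; rfl
  have h2 : θ (ev X wa) = 1 := by rw [← ev_y, h1]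
  have h3 := θ_x 6 1
  change ((θ (ev X wa) : GL I14 (ZMod 3)) : Matrix I14 I14 (ZMod 3)) = _ at h3
  rw [h2] at h3
  have h4 : ent (xm 6 1) (.inr 6) (.inl 1) = ent 1 (.inr 6) (.inl 1) := by
    have h5 : xm 6 1 = 1 := h3.symm
    rw [h5]
  revert h4
  decide +kernel

/-! ### Generation -/

/-- the words (in `b, d, t`) and bases (`a` or `c`) for the letters -/
def gtab : List (List ℕ × List ℕ) :=
  let a := wa; let b := wb; let c := wc; let d := wd; let t := wt
  [(d ++ t ++ b, a), (b ++ t, a), (b ++ b ++ t, a), (t, a), ([], c), (t ++ b ++ b ++ t, c),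
   (b ++ b ++ t ++ d, c), (t ++ d, c), (b ++ t ++ d, c), (d ++ t, c), (t ++ b ++ b ++ t ++ b, a), (b, a),
   ([], a), (t ++ b ++ b ++ t, a), (d ++ t ++ d, c), (b ++ t, c), (t, c), (b ++ b ++ t, c),
   (t ++ b ++ b ++ t ++ d, c), (d, c), (t ++ b, a), (b ++ b ++ t ++ b, a), (b ++ t ++ b, a), (d ++ t, a)]

theorem check_gtab : ∀ k < 24, checkEq C3 (((gtab.getD k ([], [])).1 ++ (gtab.getD k ([], [])).2).map cd)
    (([k] ++ (gtab.getD k ([], [])).1).map cd) 0 14 = true := by
  decide +kernel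

section gen

variable {S : Subgroup ↥Gp} (ha : ev y wa ∈ S) (hb : ev y wb ∈ S) (hc : ev y wc ∈ S) (hd : ev y wd ∈ S)
  (ht : ev y wt ∈ S)
include ha hb hc hd ht

theorem gtab_mem : ∀ x ∈ gtab, ev y x.1 ∈ S ∧ ev y x.2 ∈ S := by
  intro x hx
  simp only [gtab, List.mem_cons, List.not_mem_nil, or_false] at hx
  have m : ∀ {u v : List ℕ}, ev y u ∈ S → ev y v ∈ S → ev y (u ++ v) ∈ S := fun hu hv => by
    rw [ev_append]; exact S.mul_mem hu hv
  rcases hx with rfl | rfl | rfl | rfl | rfl | rfl | rfl | rfl | rfl | rfl | rfl | rfl | rfl | rfl | rfl | rfl |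
    rfl | rfl | rfl | rfl | rfl | rfl | rfl | rfl
  · exact ⟨m (m hd ht) hb, ha⟩
  · exact ⟨m hb ht, ha⟩
  · exact ⟨m (m hb hb) ht, ha⟩
  · exact ⟨ht, ha⟩
  · exact ⟨S.one_mem, hc⟩
  · exact ⟨m (m (m ht hb) hb) ht, hc⟩
  · exact ⟨m (m (m hb hb) ht) hd, hc⟩
  · exact ⟨m ht hd, hc⟩
  · exact ⟨m (m hb ht) hd, hc⟩
  · exact ⟨m hd ht, hc⟩
  · exact ⟨m (m (m (m ht hb) hb) ht) hb, ha⟩
  · exact ⟨hb, ha⟩
  · exact ⟨S.one_mem, ha⟩
  · exact ⟨m (m (m ht hb) hb) ht, ha⟩
  · exact ⟨m (m hd ht) hd, hc⟩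
  · exact ⟨m hb ht, hc⟩
  · exact ⟨ht, hc⟩
  · exact ⟨m (m hb hb) ht, hc⟩
  · exact ⟨m (m (m (m ht hb) hb) ht) hd, hc⟩
  · exact ⟨hd, hc⟩
  · exact ⟨m ht hb, ha⟩
  · exact ⟨m (m (m hb hb) ht) hb, ha⟩
  · exact ⟨m (m hb ht) hb, ha⟩
  · exact ⟨m hd ht, ha⟩

theorem y_mem (k : ℕ) (hk : k < 24) : y k ∈ S := by
  have hlen : gtab.length = 24 := by decide
  have hx : gtab.getD k ([], []) ∈ gtab := by
    rw [List.getD_eq_getElem _ _ (by omega)]
    exact List.getElem_mem _
  obtain ⟨h1, h2⟩ := gtab_mem ha hb hc hd ht _ hx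
  have h3 := key _ _ (check_gtab k hk)
  rw [ev_append, ev_append, ev_cons, ev_nil, mul_one] at h3
  have h4 : y k = ev y (gtab.getD k ([], [])).1 * ev y (gtab.getD k ([], [])).2 *
      (ev y (gtab.getD k ([], [])).1)⁻¹ := by
    rw [h3, mul_inv_cancel_right]
  rw [h4]
  exact S.mul_mem (S.mul_mem h1 h2) (S.inv_mem h1)

theorem eq_top : S = ⊤ := by
  rw [eq_top_iff]
  have h1 : Gp ≤ S.map Gp.subtype := by
    change chevG2.group (ZMod 3) ≤ _
    unfold ChevalleyDatum.group
    refine (Subgroup.closure_le _).2 ?_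
    rintro g ⟨r, t, hg⟩
    have hex : ∀ t : ZMod 3, ∃ s : Fin 3, t = ((s.val : ℕ) : ZMod 3) := by decide
    obtain ⟨s, rfl⟩ := hex t
    have h1 : g = θ (ev X (wx r.val s.val)) := Units.ext (hg.trans (θ_x r s).symm)
    rw [h1, ← ev_y]
    refine ⟨ev y (wx r.val s.val), ?_, rfl⟩
    have hr : r.val < 12 := r.2
    have hs := s.2
    unfold wx
    split_ifs with h
    · exact S.one_mem
    · rw [ev_cons, ev_nil, mul_one]
      exact y_mem ha hb hc hd ht _ (by omega)
  rintro ⟨g, hg⟩ -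
  obtain ⟨s, hs, he⟩ := h1 hg
  have : (⟨g, hg⟩ : ↥Gp) = s := Subtype.ext he.symm
  rw [this]
  exact hs

end gen

theorem model' : ∃ a b c d r t : ↥Gp, Rel a b c d r t ∧ a ≠ 1 ∧ Subgroup.closure {a, b, c, d, r, t} = ⊤ := by
  refine ⟨_, _, _, _, _, _, rel, a_ne_one, eq_top ?_ ?_ ?_ ?_ ?_⟩
  all_goals
    apply Subgroup.subset_closure
    simp only [Set.mem_insert_iff, Set.mem_singleton_iff, true_or, or_true]

/-- **The model**: generators of `G₂(3)` satisfying the relations. -/
theorem model : ∃ a b c d r t : ↥(chevG2.group (ZMod 3)), Rel a b c d r t ∧ a ≠ 1 ∧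
    Subgroup.closure {a, b, c, d, r, t} = ⊤ := model'

end Cfsg.Agent.GTwoThree.Model
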