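import Cfsg.Agent.GTwoThree.Fusion

/-!
# `Case9c`: the element `g` of order three permuting `z → y → z y` (helper614)

Output: `exists_tau`: after a change of coordinates (`k, l, x₂ → l⁻¹, k⁻¹, x₂⁻¹` if necessary) there is `g` with
`g ^ 3 = 1`, `g z g⁻¹ = y`, `g y g⁻¹ = z y`, `g d = d g` (`d = i j k l`), `(k l y g) ^ 2 = 1`.
-/

set_option autoImplicit false
set_option linter.unusedSectionVars false
set_option linter.dupNamespace false

namespace Cfsg.Agent.GTwoThree.Tau

open Cfsg.Agent.Co2Type.Quad Cfsg.Agent.LargeExtra.Model Cfsg.Agent.LargeExtra.Pres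
open Cfsg.Agent.LargeExtra Cfsg.Agent.LargeExtra.Base Cfsg.Agent.LargeExtra.W2 Cfsg.Agent.LargeExtra.W2.PlusHom
open Cfsg.Agent.GTwoThree.Cent Cfsg.Agent.GTwoThree.Fusion

variable {G : Type*} [Group G] {Q : Subgroup G} {z i j k l x₁ x₂ y : G}

/-- the element of order three in the normaliser of the torus `⟨z, y⟩` -/
structure Tau (z i j k l y g : G) : Prop where
  g3 : g ^ 3 = 1
  gz : g * z * g⁻¹ = y
  gy : g * y * g⁻¹ = z * y
  gd : g * (i * j * (k * l)) = i * j * (k * l) * g
  sg : (k * l * y * g) * (k * l * y * g) = 1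

section basic

variable (h : Case9c Q z i j k l x₁ x₂ y) (hy : y * y = 1)

include h hy

theorem zy : z * y = y * z := (y_z h).symm

theorem y_ne_z : y ≠ z := by
  have h1 : toG h ky ≠ toG h (kq zz) := by
    rw [Ne, toG_inj]
    decide +kernel
  rwa [toG_ky, toG_kq, hom_zz] at h1

theorem y_ne_one : y ≠ 1 := by
  have h1 : toG h ky ≠ toG h k1 := by
    rw [Ne, toG_inj]
    decide +kernel
  rwa [toG_ky, toG_k1] at h1

/-- `C_G(z) ∩ C_G(y) = ⟨z, y, d⟩` -/
theorem mem_E {a : G} (haz : a * z = z * a) (hay : a * y = y * a) :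
    ∃ v, (v = 1 ∨ v = z ∨ v = y ∨ v = z * y) ∧ (a = v ∨ a = i * j * (k * l) * v) := by
  have hT : Twist (z := z) (y := y) false := by simpa [Twist] using hy
  obtain ⟨u, rfl⟩ := exists_code h haz
  have h1 : Cent.mul false u ky = Cent.mul false ky u := by
    rw [← toG_inj h, toG_mul h hT, toG_mul h hT, toG_ky, hay]
  obtain ⟨e, he⟩ := dec_cy u h1
  have key : ∀ m : M, toG h (m, 0, 0, e) = hom h.toPlus m * y ^ e.1 := by
    intro m; simp [toG]
  have hd := hom_dm h.toPlus
  have he' : e = 0 ∨ e = 1 := by omega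
  rcases he' with rfl | rfl <;> rcases he with rfl | rfl | rfl | rfl <;> rw [key]
  · exact ⟨1, by simp, Or.inl (by simp)⟩
  · exact ⟨z, by simp, Or.inl (by simp [hom_zz])⟩
  · exact ⟨1, by simp, Or.inr (by simp [hd])⟩
  · exact ⟨z, by simp, Or.inr (by simp [hd, hom_zz])⟩
  · exact ⟨y, by simp, Or.inl (by simp)⟩
  · exact ⟨z * y, by simp, Or.inl (by simp [hom_zz])⟩
  · exact ⟨y, by simp, Or.inr (by simp [hd])⟩
  · exact ⟨z * y, by simp, Or.inr (by simp [hd, hom_zz, mul_assoc])⟩

theorem dz : i * j * (k * l) * z = z * (i * j * (k * l)) := by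
  rw [← hom_dm h.toPlus]
  exact h.large.comm_z _ (hom_mem _ _)

theorem dy : i * j * (k * l) * y = y * (i * j * (k * l)) := by
  have hT : Twist (z := z) (y := y) false := by simpa [Twist] using hy
  have h1 : toG h (Cent.mul false (kq dm) ky) = toG h (Cent.mul false ky (kq dm)) := by
    rw [toG_inj]; decide +kernel
  rwa [toG_mul h hT, toG_mul h hT, toG_kq, toG_ky, hom_dm] at h1

theorem dd : i * j * (k * l) * (i * j * (k * l)) = 1 := by
  have hT : Twist (z := z) (y := y) false := by simpa [Twist] using hy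
  have h1 : toG h (Cent.mul false (kq dm) (kq dm)) = toG h k1 := by
    rw [toG_inj]; decide +kernel
  rwa [toG_mul h hT, toG_kq, toG_k1, hom_dm] at h1

theorem nz : k * l * z = z * (k * l) := by
  have : k * l = hom h.toPlus (mk * ml) := by rw [map_mul, hom_k, hom_l]
  rw [this]
  exact h.large.comm_z _ (hom_mem _ _)

theorem ny : k * l * y = z * y * (k * l) := by
  have hT : Twist (z := z) (y := y) false := by simpa [Twist] using hy
  have h1 : toG h (Cent.mul false (kq (mk * ml)) ky) =
      toG h (Cent.mul false (Cent.mul false (kq zz) ky) (kq (mk * ml))) := by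
    rw [toG_inj]; decide +kernel
  rwa [toG_mul h hT, toG_mul h hT, toG_mul h hT, toG_kq, toG_kq, toG_ky, map_mul, hom_k, hom_l, hom_zz] at h1

theorem nn : k * l * (k * l) = z := by
  have hT : Twist (z := z) (y := y) false := by simpa [Twist] using hy
  have h1 : toG h (Cent.mul false (kq (mk * ml)) (kq (mk * ml))) = toG h (kq zz) := by
    rw [toG_inj]; decide +kernel
  rwa [toG_mul h hT, toG_kq, toG_kq, map_mul, hom_k, hom_l, hom_zz] at h1

theorem nd : k * l * (i * j * (k * l)) = i * j * (k * l) * (k * l) := by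
  have h1 : hom h.toPlus (mk * ml * dm) = hom h.toPlus (dm * (mk * ml)) := by
    rw [hom_eq_iff]; decide +kernel
  rw [map_mul _ (mk * ml) dm, map_mul _ dm (mk * ml), map_mul _ mk ml, hom_k, hom_l, hom_dm] at h1
  exact h1

/-- elements commuting with `z` and `y` commute -/
theorem comm_E {a b : G} (haz : a * z = z * a) (hay : a * y = y * a) (hbz : b * z = z * b) (hby : b * y = y * b) :
    a * b = b * a := by
  obtain ⟨v, hv, ha⟩ := mem_E h hy haz hay
  obtain ⟨w, hw, hb⟩ := mem_E h hy hbz hby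
  have cz : Commute z y := zy h hy
  have cd : Commute (i * j * (k * l)) z := dz h hy
  have ce : Commute (i * j * (k * l)) y := dy h hy
  have vc : ∀ x : G, Commute x z → Commute x y → ∀ v, (v = 1 ∨ v = z ∨ v = y ∨ v = z * y) → Commute x v := by
    rintro x h1 h2 v (rfl | rfl | rfl | rfl)
    · exact Commute.one_right x
    · exact h1
    · exact h2
    · exact h1.mul_right h2
  have dv := vc _ cd ce w hw
  have dv' := vc _ cd ce v hv
  have vz : Commute v z := (vc z (Commute.refl z) cz v hv).symm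
  have vy : Commute v y := (vc y cz.symm (Commute.refl y) v hv).symm
  have vw : Commute v w := vc v vz vy w hw
  rcases ha with rfl | rfl <;> rcases hb with rfl | rfl
  · exact vw.eq
  · exact (dv'.symm.mul_right vw).eq
  · exact (dv.mul_left vw).eq
  · exact ((((Commute.refl _).mul_right dv).mul_left (dv'.symm.mul_right vw))).eq

end basic

section swap

variable [Finite G] [IsSimpleGroup G]

/-- an element swapping `z` and `y` -/
theorem exists_swap (h : Case9c Q z i j k l x₁ x₂ y) : ∃ g, g * z * g⁻¹ = y ∧ g * y * g⁻¹ = z := by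
  have hy := yy_one h
  obtain ⟨⟨f, hf⟩, -⟩ := exists_conj h
  have hf' : f⁻¹ * y * f = z := by rw [← hf]; group
  set z' := f⁻¹ * z * f with hz'
  have h2 : z' * z' = 1 := by
    have := conj_sq (g := f⁻¹) h.large.z_sq
    rwa [inv_inv] at this
  have h1 : z' * z = z * z' := by
    have e : z * y = y * z := zy h hy
    calc z' * z = f⁻¹ * z * f * (f⁻¹ * y * f) := by rw [hf']
      _ = f⁻¹ * (z * y) * f := by group
      _ = f⁻¹ * (y * z) * f := by rw [e]
      _ = (f⁻¹ * y * f) * (f⁻¹ * z * f) := by group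
      _ = z * z' := by rw [hf']
  have h3 : z' ∉ Q := by
    intro hin
    obtain ⟨m, hm⟩ := exists_hom h.toPlus hin
    have hm2 : m * m = 1 := by
      rw [← hom_eq_iff h.toPlus, map_mul, hm, h2, map_one]
    have hm1 : m ≠ 1 := by
      rintro rfl
      rw [map_one] at hm
      apply h.large.z_ne
      calc z = f * z' * f⁻¹ := by rw [hz']; group
        _ = 1 := by rw [← hm]; group
    have hmz : m ≠ zz := by
      rintro rfl
      rw [hom_zz] at hm
      apply y_ne_z h hy
      calc y = f * z * f⁻¹ := hf.symm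
        _ = f * z' * f⁻¹ := by rw [← hm]
        _ = z := by rw [hz']; group
    obtain ⟨p, q, -, -, e3, e4, e5⟩ := dec_pq m hm2 hm1 hmz
    have key : ∀ n : M, n * m = m * n → (f * hom h.toPlus n * f⁻¹) * z = z * (f * hom h.toPlus n * f⁻¹) ∧
        (f * hom h.toPlus n * f⁻¹) * y = y * (f * hom h.toPlus n * f⁻¹) := by
      intro n hn
      have c1 : hom h.toPlus n * z' = z' * hom h.toPlus n := by
        rw [← hm, ← map_mul, ← map_mul, hn]
      have c2 : hom h.toPlus n * z = z * hom h.toPlus n := h.large.comm_z _ (hom_mem _ _)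
      have e1 : z = f * z' * f⁻¹ := by rw [hz']; group
      constructor
      · calc f * hom h.toPlus n * f⁻¹ * z = f * hom h.toPlus n * f⁻¹ * (f * z' * f⁻¹) := by rw [← e1]
          _ = f * (hom h.toPlus n * z') * f⁻¹ := by group
          _ = f * (z' * hom h.toPlus n) * f⁻¹ := by rw [c1]
          _ = (f * z' * f⁻¹) * (f * hom h.toPlus n * f⁻¹) := by group
          _ = z * (f * hom h.toPlus n * f⁻¹) := by rw [← e1]
      · calc f * hom h.toPlus n * f⁻¹ * y = f * hom h.toPlus n * f⁻¹ * (f * z * f⁻¹) := by rw [hf]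
          _ = f * (hom h.toPlus n * z) * f⁻¹ := by group
          _ = f * (z * hom h.toPlus n) * f⁻¹ := by rw [c2]
          _ = (f * z * f⁻¹) * (f * hom h.toPlus n * f⁻¹) := by group
          _ = y * (f * hom h.toPlus n * f⁻¹) := by rw [hf]
    obtain ⟨a1, a2⟩ := key p e3
    obtain ⟨b1, b2⟩ := key q e4
    have h4 := comm_E h hy a1 a2 b1 b2
    have h5 : hom h.toPlus p * hom h.toPlus q = hom h.toPlus q * hom h.toPlus p := by
      calc hom h.toPlus p * hom h.toPlus q = f⁻¹ * (f * hom h.toPlus p * f⁻¹ * (f * hom h.toPlus q * f⁻¹)) * f := by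
            group
        _ = _ := by rw [h4]; group
    rw [← map_mul, ← map_mul, hom_eq_iff] at h5
    rw [h5] at e5
    have : (zz : M) = 1 := by simpa using e5
    revert this
    decide +kernel
  obtain ⟨c, hc, hct⟩ := exists_outer_conj h hy h2 h1 h3
  refine ⟨c⁻¹ * f⁻¹, ?_, ?_⟩
  · calc c⁻¹ * f⁻¹ * z * (c⁻¹ * f⁻¹)⁻¹ = c⁻¹ * (f⁻¹ * z * f) * c := by group
      _ = c⁻¹ * (c * y * c⁻¹) * c := by rw [hct]
      _ = y := by group
  · calc c⁻¹ * f⁻¹ * y * (c⁻¹ * f⁻¹)⁻¹ = c⁻¹ * (f⁻¹ * y * f) * c := by group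
      _ = c⁻¹ * (z * c) := by rw [hf']; group
      _ = z := by rw [← hc]; group

/-- an element of order three permuting `z → y → z y` -/
theorem exists_cyc (h : Case9c Q z i j k l x₁ x₂ y) :
    ∃ g, g ^ 3 = 1 ∧ g * z * g⁻¹ = y ∧ g * y * g⁻¹ = z * y := by
  have hy := yy_one h
  obtain ⟨g₀, a1, a2⟩ := exists_swap h
  have b1 : g₀⁻¹ * z * g₀ = y := by rw [← a2]; group
  have b2 : g₀⁻¹ * y * g₀ = z := by rw [← a1]; group
  have n1 := nz h hy
  have n2 := ny h hy
  have hzy := zy h hy
  have hzz := h.large.z_sq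
  have n1' : (k * l)⁻¹ * z * (k * l) = z := by
    rw [mul_assoc, ← n1]; group
  have n2' : (k * l)⁻¹ * y * (k * l) = z * y := by
    have e : y * (k * l) = k * l * (z * y) := by
      calc y * (k * l) = (z * z) * (y * (k * l)) := by rw [hzz, one_mul]
        _ = z * (z * y * (k * l)) := by group
        _ = z * (k * l) * y := by rw [← n2]; group
        _ = k * l * (z * y) := by rw [← n1]; group
    rw [mul_assoc, e]; group
  obtain ⟨g, hg⟩ : ∃ g, g = g₀⁻¹ * (k * l)⁻¹ := ⟨_, rfl⟩
  have c1 : g * z * g⁻¹ = y := by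
    calc g * z * g⁻¹ = g₀⁻¹ * ((k * l)⁻¹ * z * (k * l)) * g₀ := by rw [hg]; group
      _ = y := by rw [n1', b1]
  have c2 : g * y * g⁻¹ = z * y := by
    calc g * y * g⁻¹ = g₀⁻¹ * ((k * l)⁻¹ * y * (k * l)) * g₀ := by rw [hg]; group
      _ = (g₀⁻¹ * z * g₀) * (g₀⁻¹ * y * g₀) := by rw [n2']; group
      _ = z * y := by rw [b1, b2, hzy]
  have c3 : g * (z * y) * g⁻¹ = z := by
    calc g * (z * y) * g⁻¹ = (g * z * g⁻¹) * (g * y * g⁻¹) := by group
      _ = (y * y) * z := by rw [c1, c2, hzy]; group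
      _ = z := by rw [hy, one_mul]
  -- the cube
  have d1 : g ^ 3 * z = z * g ^ 3 := by
    calc g ^ 3 * z = g * g * g * z := by rw [pow_succ, pow_two]
      _ = g * (g * (g * z * g⁻¹) * g⁻¹) * g⁻¹ * (g * g * g) := by group
      _ = g * (g * (g * z * g⁻¹) * g⁻¹) * g⁻¹ * g ^ 3 := by rw [pow_succ, pow_two]
      _ = z * g ^ 3 := by rw [c1, c2, c3]
  have d2 : g ^ 3 * y = y * g ^ 3 := by
    calc g ^ 3 * y = g * g * g * y := by rw [pow_succ, pow_two]
      _ = g * (g * (g * y * g⁻¹) * g⁻¹) * g⁻¹ * (g * g * g) := by group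
      _ = g * (g * (g * y * g⁻¹) * g⁻¹) * g⁻¹ * g ^ 3 := by rw [pow_succ, pow_two]
      _ = y * g ^ 3 := by rw [c2, c3, c1]
  have d3 : g ^ 3 * g ^ 3 = 1 := by
    obtain ⟨v, hv, ha⟩ := mem_E h hy d1 d2
    have cz : Commute z y := hzy
    have cd : Commute (i * j * (k * l)) z := dz h hy
    have ce : Commute (i * j * (k * l)) y := dy h hy
    have hvv : v * v = 1 ∧ Commute (i * j * (k * l)) v := by
      rcases hv with rfl | rfl | rfl | rfl
      · exact ⟨one_mul 1, Commute.one_right _⟩
      · exact ⟨hzz, cd⟩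
      · exact ⟨hy, ce⟩
      · refine ⟨?_, cd.mul_right ce⟩
        calc z * y * (z * y) = z * (y * z) * y := by group
          _ = (z * z) * (y * y) := by rw [← hzy]; group
          _ = 1 := by rw [hzz, hy, one_mul]
    rcases ha with e | e
    · rw [e]; exact hvv.1
    · rw [e]
      calc i * j * (k * l) * v * (i * j * (k * l) * v) = i * j * (k * l) * (v * (i * j * (k * l))) * v := by group
        _ = (i * j * (k * l) * (i * j * (k * l))) * (v * v) := by rw [← hvv.2.eq]; group
        _ = 1 := by rw [dd h hy, hvv.1, one_mul]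
  refine ⟨g ^ 4, ?_, ?_, ?_⟩
  · calc (g ^ 4) ^ 3 = (g ^ 3 * g ^ 3) * (g ^ 3 * g ^ 3) := by group
      _ = 1 := by rw [d3, one_mul]
  · calc g ^ 4 * z * (g ^ 4)⁻¹ = g * (g ^ 3 * z) * (g ^ 3)⁻¹ * g⁻¹ := by group
      _ = g * z * g⁻¹ := by rw [d1]; group
      _ = y := c1
  · calc g ^ 4 * y * (g ^ 4)⁻¹ = g * (g ^ 3 * y) * (g ^ 3)⁻¹ * g⁻¹ := by group
      _ = g * y * g⁻¹ := by rw [d2]; group
      _ = z * y := c2

end swap

section flip

theorem closure_eq {S T : Set G} (h1 : ∀ x ∈ S, x ∈ Subgroup.closure T) (h2 : ∀ x ∈ T, x ∈ Subgroup.closure S) :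
    Subgroup.closure S = Subgroup.closure T :=
  le_antisymm ((Subgroup.closure_le _).2 h1) ((Subgroup.closure_le _).2 h2)

theorem mem_of_inv_mem {H : Subgroup G} {x : G} (hx : x⁻¹ ∈ H) : x ∈ H := by
  have := H.inv_mem hx
  rwa [inv_inv] at this

/-- the change of coordinates `k, l, x₂ → l⁻¹, k⁻¹, x₂⁻¹` -/
theorem flip (h : Case9c Q z i j k l x₁ x₂ y) : Case9c Q z i j l⁻¹ k⁻¹ x₁ x₂⁻¹ y := by
  have hz := h.large.z_inv
  have hzz := h.large.z_sq
  have hkz : k * z = z * k := h.large.comm_z _ (PlusHom.mem_k h.toPlus)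
  have hlz : l * z = z * l := h.large.comm_z _ (PlusHom.mem_l h.toPlus)
  have ck : Commute k z := hkz
  have cl : Commute l z := hlz
  have c1 : Commute k i := h.ki
  have c2 : Commute l i := h.li
  have c3 : Commute k j := h.kj
  have c4 : Commute l j := h.lj
  have conj_inv' : ∀ {c a b : G}, c * a * c⁻¹ = b → c * a⁻¹ * c⁻¹ = b⁻¹ := by
    rintro c a b rfl; group
  have conj_back : ∀ {c a b : G}, c * a * c⁻¹ = b → c⁻¹ * b * c⁻¹⁻¹ = a := by
    rintro c a b rfl; group
  exact
    { large := h.large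
      card := h.card
      gen := by
        rw [h.gen]
        apply closure_eq
        · rintro x (rfl | rfl | rfl | rfl)
          · exact Subgroup.subset_closure (by simp)
          · exact Subgroup.subset_closure (by simp)
          · exact mem_of_inv_mem (Subgroup.subset_closure (by simp))
          · exact mem_of_inv_mem (Subgroup.subset_closure (by simp))
        · rintro x (rfl | rfl | rfl | rfl)
          · exact Subgroup.subset_closure (by simp)
          · exact Subgroup.subset_closure (by simp)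
          · exact Subgroup.inv_mem _ (Subgroup.subset_closure (by simp))
          · exact Subgroup.inv_mem _ (Subgroup.subset_closure (by simp))
      ii := h.ii
      jj := h.jj
      kk := by rw [← mul_inv_rev, h.ll, hz]
      ll := by rw [← mul_inv_rev, h.kk, hz]
      ji := h.ji
      lk := by
        rw [← mul_inv_rev, ← mul_inv_rev, h.lk, mul_inv_rev, hz]
        exact (ck.mul_left cl).inv_left.eq.symm
      ki := c2.inv_left.eq
      li := c1.inv_left.eq
      kj := c4.inv_left.eq
      lj := c3.inv_left.eq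
      x₁3 := h.x₁3
      x₂3 := by rw [inv_pow, h.x₂3, inv_one]
      x₁_act := ⟨h.x₁_act.z, h.x₁_act.i, h.x₁_act.j, conj_inv' h.x₁_act.l, conj_inv' h.x₁_act.k⟩
      x₂_act := by
        refine ⟨conj_back h.x₂_act.z, conj_back h.x₂_act.i, conj_back h.x₂_act.j, ?_, ?_⟩
        · exact conj_back (conj_inv' h.x₂_act.k)
        · have e0 : l⁻¹ * k⁻¹ = (k * l)⁻¹ := (mul_inv_rev k l).symm
          rw [e0]
          apply conj_back
          apply conj_inv'
          have : k = l * (k * l) := by
            calc k = k * (z * z) := by rw [hzz, mul_one]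
              _ = k * (l * l) * z := by rw [h.ll]; group
              _ = k * l * (l * z) := by group
              _ = k * l * z * l := by rw [hlz]; group
              _ = l * (k * l) := by rw [← h.lk]; group
          calc x₂ * (k * l) * x₂⁻¹ = (x₂ * k * x₂⁻¹) * (x₂ * l * x₂⁻¹) := by group
            _ = l * (k * l) := by rw [h.x₂_act.k, h.x₂_act.l]
            _ = k := this.symm
      y_act := by
        refine ⟨h.y_act.z, h.y_act.i, h.y_act.j, ?_, ?_⟩
        · rw [conj_inv' h.y_act.l, mul_inv_rev, hz]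
          exact ck.inv_left.eq.symm
        · rw [conj_inv' h.y_act.k, mul_inv_rev, hz]
          exact cl.inv_left.eq.symm
      xx := ((show Commute x₁ x₂ from h.xx).inv_right).eq
      y1 := h.y1
      y2 := conj_inv' h.y2
      yy := h.yy
      cent := by
        rw [h.cent]
        apply closure_eq
        · rintro x (rfl | rfl | rfl | rfl | rfl | rfl | rfl)
          · exact Subgroup.subset_closure (by simp)
          · exact Subgroup.subset_closure (by simp)
          · exact mem_of_inv_mem (Subgroup.subset_closure (by simp))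
          · exact mem_of_inv_mem (Subgroup.subset_closure (by simp))
          · exact Subgroup.subset_closure (by simp)
          · exact mem_of_inv_mem (Subgroup.subset_closure (by simp))
          · exact Subgroup.subset_closure (by simp)
        · rintro x (rfl | rfl | rfl | rfl | rfl | rfl | rfl)
          · exact Subgroup.subset_closure (by simp)
          · exact Subgroup.subset_closure (by simp)
          · exact Subgroup.inv_mem _ (Subgroup.subset_closure (by simp))
          · exact Subgroup.inv_mem _ (Subgroup.subset_closure (by simp))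
          · exact Subgroup.subset_closure (by simp)
          · exact Subgroup.inv_mem _ (Subgroup.subset_closure (by simp))
          · exact Subgroup.subset_closure (by simp)
      card_cent := h.card_cent }

/-- `d` in the new coordinates -/
theorem flip_d (h : Case9c Q z i j k l x₁ x₂ y) (hy : y * y = 1) :
    i * j * (l⁻¹ * k⁻¹) = i * j * (k * l) * z := by
  have h1 := nn h hy
  have h2 : (k * l)⁻¹ = k * l * z := by
    rw [inv_eq_iff_mul_eq_one, ← mul_assoc, h1, h.large.z_sq]
  rw [← mul_inv_rev, h2]; group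

end flip

section tau

variable (h : Case9c Q z i j k l x₁ x₂ y) (hy : y * y = 1) {g : G} (g3 : g ^ 3 = 1) (gz : g * z * g⁻¹ = y)
  (gy : g * y * g⁻¹ = z * y)

include h hy g3 gz gy

theorem gzy : g * (z * y) * g⁻¹ = z := by
  calc g * (z * y) * g⁻¹ = (g * z * g⁻¹) * (g * y * g⁻¹) := by group
    _ = (y * y) * z := by rw [gz, gy, zy h hy]; group
    _ = z := by rw [hy, one_mul]

/-- `g a g⁻¹` commutes with `z, y` if `a` does -/
theorem conj_E {a : G} (haz : a * z = z * a) (hay : a * y = y * a) :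
    (g * a * g⁻¹) * z = z * (g * a * g⁻¹) ∧ (g * a * g⁻¹) * y = y * (g * a * g⁻¹) := by
  have e1 := gzy h hy g3 gz gy
  have hazy : a * (z * y) = z * y * a := ((show Commute a z from haz).mul_right (show Commute a y from hay)).eq
  constructor
  · calc g * a * g⁻¹ * z = g * a * g⁻¹ * (g * (z * y) * g⁻¹) := by rw [e1]
      _ = g * (a * (z * y)) * g⁻¹ := by group
      _ = g * (z * y * a) * g⁻¹ := by rw [hazy]
      _ = (g * (z * y) * g⁻¹) * (g * a * g⁻¹) := by group
      _ = z * (g * a * g⁻¹) := by rw [e1]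
  · calc g * a * g⁻¹ * y = g * a * g⁻¹ * (g * z * g⁻¹) := by rw [gz]
      _ = g * (a * z) * g⁻¹ := by group
      _ = g * (z * a) * g⁻¹ := by rw [haz]
      _ = (g * z * g⁻¹) * (g * a * g⁻¹) := by group
      _ = y * (g * a * g⁻¹) := by rw [gz]

theorem d_ne {v : G} (hv : v = 1 ∨ v = z ∨ v = y ∨ v = z * y) : i * j * (k * l) ≠ v := by
  have hT : Twist (z := z) (y := y) false := by simpa [Twist] using hy
  have hd : i * j * (k * l) = toG h (kq dm) := by rw [toG_kq, hom_dm]
  rw [hd]
  intro e
  rcases hv with hv | hv | hv | hv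
  · have e' : toG h (kq dm) = toG h k1 := by rw [e, hv, toG_k1]
    rw [toG_inj] at e'
    revert e'; decide +kernel
  · have e' : toG h (kq dm) = toG h (kq zz) := by rw [e, hv, toG_kq h zz, hom_zz]
    rw [toG_inj] at e'
    revert e'; decide +kernel
  · have e' : toG h (kq dm) = toG h ky := by rw [e, hv, toG_ky]
    rw [toG_inj] at e'
    revert e'; decide +kernel
  · have e' : toG h (kq dm) = toG h (Cent.mul false (kq zz) ky) := by
      rw [e, hv, toG_mul h hT, toG_kq, toG_ky, hom_zz]
    rw [toG_inj] at e'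
    revert e'; decide +kernel

omit h hy g3 gz gy in
theorem V_cases {v : G} (hzz : z * z = 1) (hyy : y * y = 1) (hzy : z * y = y * z)
    (hv : v = 1 ∨ v = z ∨ v = y ∨ v = z * y) : v * v = 1 ∧ v * z = z * v ∧ v * y = y * v := by
  rcases hv with rfl | rfl | rfl | rfl
  · simp
  · exact ⟨hzz, rfl, hzy⟩
  · exact ⟨hyy, hzy.symm, rfl⟩
  · refine ⟨?_, ?_, ?_⟩
    · calc z * y * (z * y) = z * (y * z) * y := by group
        _ = (z * z) * (y * y) := by rw [← hzy]; group
        _ = 1 := by rw [hzz, hyy, one_mul]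
    · calc z * y * z = z * (y * z) := by group
        _ = z * (z * y) := by rw [hzy]
    · calc z * y * y = (y * z) * y := by rw [hzy]
        _ = y * (z * y) := by group

/-- the fixed point of `g` -/
theorem exists_fix : ∃ D, (D = i * j * (k * l) ∨ D = i * j * (k * l) * z) ∧ g * D = D * g := by
  obtain ⟨d, hd⟩ : ∃ d, d = i * j * (k * l) := ⟨_, rfl⟩
  have dz' : d * z = z * d := by rw [hd]; exact dz h hy
  have dy' : d * y = y * d := by rw [hd]; exact dy h hy
  have gzy' := gzy h hy g3 gz gy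
  have hzz := h.large.z_sq
  have hzy := zy h hy
  have nz' := nz h hy
  have ny' := ny h hy
  have nd' := nd h hy
  rw [← hd] at nd' ⊢
  obtain ⟨n, hn⟩ : ∃ n, n = k * l := ⟨_, rfl⟩
  rw [← hn] at nz' ny' nd'
  have czy : Commute (z * y) z := (Commute.refl z).mul_left hzy.symm
  have czy' : Commute (z * y) y := (show Commute z y from hzy).mul_left (Commute.refl y)
  -- `g d g⁻¹ = d v`
  obtain ⟨c1, c2⟩ := conj_E h hy g3 gz gy dz' dy'
  obtain ⟨v, hv, e⟩ := mem_E h hy c1 c2
  rw [← hd] at e
  have e1 : g * d * g⁻¹ = d * v := by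
    rcases e with e | e
    · exfalso
      have gi1 : g⁻¹ * z * g = z * y := by
        calc g⁻¹ * z * g = g⁻¹ * (g * (z * y) * g⁻¹) * g := by rw [gzy']
          _ = z * y := by group
      have gi2 : g⁻¹ * y * g = z := by rw [← gz]; group
      have h1 : d = g⁻¹ * v * g := by rw [← e]; group
      have h2 : g⁻¹ * v * g = 1 ∨ g⁻¹ * v * g = z ∨ g⁻¹ * v * g = y ∨ g⁻¹ * v * g = z * y := by
        rcases hv with hv | hv | hv | hv <;> rw [hv]
        · left; group
        · right; right; right; exact gi1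
        · right; left; exact gi2
        · right; right; left
          calc g⁻¹ * (z * y) * g = (g⁻¹ * z * g) * (g⁻¹ * y * g) := by group
            _ = z * (y * z) := by rw [gi1, gi2]; group
            _ = (z * z) * y := by rw [← hzy]; group
            _ = y := by rw [hzz, one_mul]
      rw [← h1, hd] at h2
      exact d_ne h hy g3 gz gy h2 rfl
    · exact e
  -- a fixed point `d w`
  obtain ⟨w, hw, hgw⟩ : ∃ w, (w = 1 ∨ w = z ∨ w = y ∨ w = z * y) ∧ g * (d * w) * g⁻¹ = d * w := by
    have e2 : ∀ w, g * (d * w) * g⁻¹ = d * (v * (g * w * g⁻¹)) := by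
      intro w
      calc g * (d * w) * g⁻¹ = (g * d * g⁻¹) * (g * w * g⁻¹) := by group
        _ = d * (v * (g * w * g⁻¹)) := by rw [e1]; group
    rcases hv with hv | hv | hv | hv
    · exact ⟨1, Or.inl rfl, by rw [e2, hv]; group⟩
    · refine ⟨y, Or.inr (Or.inr (Or.inl rfl)), ?_⟩
      rw [e2, gy, hv, ← mul_assoc z z y, hzz, one_mul]
    · refine ⟨z * y, Or.inr (Or.inr (Or.inr rfl)), ?_⟩
      rw [e2, gzy', hv, hzy]
    · refine ⟨z, Or.inr (Or.inl rfl), ?_⟩
      rw [e2, gz, hv, mul_assoc, hy, mul_one]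
  have hcomm : g * (d * w) = d * w * g := by
    calc g * (d * w) = g * (d * w) * g⁻¹ * g := by group
      _ = d * w * g := by rw [hgw]
  obtain ⟨-, wz, wy⟩ := V_cases hzz hy hzy hw
  have Dz : (d * w) * z = z * (d * w) := ((show Commute d z from dz').mul_left wz).eq
  have Dy : (d * w) * y = y * (d * w) := ((show Commute d y from dy').mul_left wy).eq
  -- `n D n⁻¹` is also fixed
  have hnD : g * (n * (d * w) * n⁻¹) = n * (d * w) * n⁻¹ * g := by
    have niz : n⁻¹ * z * n = z := by
      calc n⁻¹ * z * n = n⁻¹ * (z * n) := by group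
        _ = z := by rw [← nz']; group
    have niy : n⁻¹ * y * n = z * y := by
      calc n⁻¹ * y * n = n⁻¹ * ((z * z) * y * n) := by rw [hzz]; group
        _ = n⁻¹ * (z * (z * y * n)) := by group
        _ = n⁻¹ * (z * n * y) := by rw [← ny']; group
        _ = z * y := by rw [← nz']; group
    have nzc : n * z * n⁻¹ = z := by rw [nz']; group
    have nyc : n * y * n⁻¹ = z * y := by rw [ny']; group
    obtain ⟨e, he⟩ : ∃ e, e = g * (n * g * n⁻¹) := ⟨_, rfl⟩
    have ez : e * z = z * e := by
      calc e * z = g * n * g * (n⁻¹ * z * n) * n⁻¹ := by rw [he]; group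
        _ = g * n * (g * z * g⁻¹) * g * n⁻¹ := by rw [niz]; group
        _ = g * (n * y * n⁻¹) * n * g * n⁻¹ := by rw [gz]; group
        _ = (g * (z * y) * g⁻¹) * g * n * g * n⁻¹ := by rw [nyc]; group
        _ = z * e := by rw [gzy', he]; group
    have ey : e * y = y * e := by
      calc e * y = g * n * g * (n⁻¹ * y * n) * n⁻¹ := by rw [he]; group
        _ = g * n * (g * (z * y) * g⁻¹) * g * n⁻¹ := by rw [niy]; group
        _ = g * (n * z * n⁻¹) * n * g * n⁻¹ := by rw [gzy']; group
        _ = (g * z * g⁻¹) * g * n * g * n⁻¹ := by rw [nzc]; group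
        _ = y * e := by rw [gz, he]; group
    have Fz : (n * (d * w) * n⁻¹) * z = z * (n * (d * w) * n⁻¹) := by
      calc n * (d * w) * n⁻¹ * z = n * (d * w) * (n⁻¹ * z * n) * n⁻¹ := by group
        _ = n * ((d * w) * z) * n⁻¹ := by rw [niz]; group
        _ = (n * z * n⁻¹) * (n * (d * w) * n⁻¹) := by rw [Dz]; group
        _ = z * (n * (d * w) * n⁻¹) := by rw [nzc]
    have Fy : (n * (d * w) * n⁻¹) * y = y * (n * (d * w) * n⁻¹) := by
      have Dzy : (d * w) * (z * y) = (z * y) * (d * w) :=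
        ((show Commute (d * w) z from Dz).mul_right (show Commute (d * w) y from Dy)).eq
      have nzyc : n * (z * y) * n⁻¹ = y := by
        calc n * (z * y) * n⁻¹ = (n * z * n⁻¹) * (n * y * n⁻¹) := by group
          _ = (z * z) * y := by rw [nzc, nyc]; group
          _ = y := by rw [hzz, one_mul]
      calc n * (d * w) * n⁻¹ * y = n * (d * w) * (n⁻¹ * y * n) * n⁻¹ := by group
        _ = n * ((d * w) * (z * y)) * n⁻¹ := by rw [niy]; group
        _ = (n * (z * y) * n⁻¹) * (n * (d * w) * n⁻¹) := by rw [Dzy]; group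
        _ = y * (n * (d * w) * n⁻¹) := by rw [nzyc]
    have hc1 : Commute e (n * (d * w) * n⁻¹) := comm_E h hy ez ey Fz Fy
    have hc2 : Commute (n * g * n⁻¹) (n * (d * w) * n⁻¹) := by
      show n * g * n⁻¹ * (n * (d * w) * n⁻¹) = n * (d * w) * n⁻¹ * (n * g * n⁻¹)
      calc n * g * n⁻¹ * (n * (d * w) * n⁻¹) = n * (g * (d * w)) * n⁻¹ := by group
        _ = _ := by rw [hcomm]; group
    have hg' : g = e * (n * g * n⁻¹)⁻¹ := by rw [he]; group
    have := hc1.mul_left hc2.inv_left
    rw [← hg'] at this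
    exact this.eq
  have bad : n * (d * w) * n⁻¹ = d * w * z → False := by
    intro e
    rw [e] at hnD
    have h1 : Commute g (d * w) := hcomm
    have h2 : Commute g (d * w * z) := hnD
    have h3 : Commute g z := by
      have := h1.inv_right.mul_right h2
      have e3 : (d * w)⁻¹ * (d * w * z) = z := by group
      rwa [e3] at this
    apply y_ne_z h hy
    rw [← gz, h3.eq]; group
  have nw : ∀ w', n * (d * w') * n⁻¹ = d * (n * w' * n⁻¹) := by
    intro w'
    calc n * (d * w') * n⁻¹ = (n * d) * w' * n⁻¹ := by group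
      _ = d * (n * w' * n⁻¹) := by rw [nd']; group
  rcases hw with hw | hw | hw | hw
  · rw [hw] at hcomm
    exact ⟨d, Or.inl rfl, by simpa using hcomm⟩
  · rw [hw] at hcomm
    exact ⟨_, Or.inr rfl, hcomm⟩
  · exfalso
    apply bad
    rw [nw, hw]
    have : n * y * n⁻¹ = z * y := by rw [ny']; group
    rw [this, hzy]; group
  · exfalso
    apply bad
    rw [nw, hw]
    have : n * (z * y) * n⁻¹ = y := by
      calc n * (z * y) * n⁻¹ = (n * z) * n⁻¹ * (n * y) * n⁻¹ := by group
        _ = (z * z) * y := by rw [nz', ny']; group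
        _ = y := by rw [hzz, one_mul]
    rw [this]
    calc d * y = d * ((z * z) * y) := by rw [hzz, one_mul]
      _ = d * (z * (z * y)) := by group
      _ = d * (z * y * z) := by rw [czy.eq]
      _ = d * (z * y) * z := by group

/-- adjusting `g` by `y` so that `k l y g` is an involution -/
theorem exists_adjust (gd : g * (i * j * (k * l)) = i * j * (k * l) * g) :
    ∃ g', Tau z i j k l y g' := by
  obtain ⟨d, hd⟩ : ∃ d, d = i * j * (k * l) := ⟨_, rfl⟩
  have dz' : d * z = z * d := by rw [hd]; exact dz h hy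
  have dy' : d * y = y * d := by rw [hd]; exact dy h hy
  have dd' : d * d = 1 := by rw [hd]; exact dd h hy
  have gzy' := gzy h hy g3 gz gy
  have hzz := h.large.z_sq
  have hzy := zy h hy
  have nz' := nz h hy
  have ny' := ny h hy
  have nd' := nd h hy
  have nn' := nn h hy
  have gd0 := gd
  rw [← hd] at nd' gd
  have gi1 : g⁻¹ * z * g = z * y := by
    calc g⁻¹ * z * g = g⁻¹ * (g * (z * y) * g⁻¹) * g := by rw [gzy']
      _ = z * y := by group
  have gi2 : g⁻¹ * y * g = z := by rw [← gz]; group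
  have gi3 : g⁻¹ * (z * y) * g = y := by
    calc g⁻¹ * (z * y) * g = (g⁻¹ * z * g) * (g⁻¹ * y * g) := by group
      _ = z * (y * z) := by rw [gi1, gi2]; group
      _ = (z * z) * y := by rw [← hzy]; group
      _ = y := by rw [hzz, one_mul]
  obtain ⟨s, hs⟩ : ∃ s, s = k * l * y := ⟨_, rfl⟩
  have ss : s * s = 1 := by
    calc s * s = k * l * y * (k * l) * y := by rw [hs]; group
      _ = z * y * (k * l) * (k * l) * y := by rw [ny']
      _ = z * y * (k * l * (k * l)) * y := by group
      _ = z * (y * z) * y := by rw [nn']; group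
      _ = (z * z) * (y * y) := by rw [← hzy]; group
      _ = 1 := by rw [hzz, hy, one_mul]
  have sinv : s⁻¹ = s := inv_eq_of_mul_eq_one_right ss
  have sz : s * z = z * s := by
    calc s * z = k * l * (y * z) := by rw [hs]; group
      _ = (k * l * z) * y := by rw [← hzy]; group
      _ = z * s := by rw [nz', hs]; group
  have sy : s * y = z * y * s := by
    calc s * y = (k * l * y) * y := by rw [hs]
      _ = z * y * s := by rw [ny', hs]; group
  have sd : s * d = d * s := by
    calc s * d = k * l * (y * d) := by rw [hs]; group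
      _ = (k * l * d) * y := by rw [← dy']; group
      _ = d * s := by rw [nd', hs]; group
  have szc : s * z * s⁻¹ = z := by rw [sz]; group
  have syc : s * y * s⁻¹ = z * y := by rw [sy]; group
  have szyc : s * (z * y) * s⁻¹ = y := by
    calc s * (z * y) * s⁻¹ = (s * z * s⁻¹) * (s * y * s⁻¹) := by group
      _ = (z * z) * y := by rw [szc, syc]; group
      _ = y := by rw [hzz, one_mul]
  -- `e = g (s g s⁻¹)`
  obtain ⟨e, he⟩ : ∃ e, e = g * (s * g * s⁻¹) := ⟨_, rfl⟩
  have siz : s⁻¹ * z * s = z := by rw [mul_assoc, ← sz]; group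
  have siy : s⁻¹ * y * s = z * y := by rw [sinv]; rw [sinv] at syc; exact syc
  have ez : e * z = z * e := by
    calc e * z = g * s * g * (s⁻¹ * z * s) * s⁻¹ := by rw [he]; group
      _ = g * s * (g * z * g⁻¹) * g * s⁻¹ := by rw [siz]; group
      _ = g * (s * y * s⁻¹) * s * g * s⁻¹ := by rw [gz]; group
      _ = (g * (z * y) * g⁻¹) * g * s * g * s⁻¹ := by rw [syc]; group
      _ = z * e := by rw [gzy', he]; group
  have ey : e * y = y * e := by
    calc e * y = g * s * g * (s⁻¹ * y * s) * s⁻¹ := by rw [he]; group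
      _ = g * s * (g * (z * y) * g⁻¹) * g * s⁻¹ := by rw [siy]; group
      _ = g * (s * z * s⁻¹) * s * g * s⁻¹ := by rw [gzy']; group
      _ = (g * z * g⁻¹) * g * s * g * s⁻¹ := by rw [szc]; group
      _ = y * e := by rw [gz, he]; group
  have hsgs : s * g * s⁻¹ = g⁻¹ * e := by rw [he]; group
  have hs3 : (g⁻¹ * e) ^ 3 = 1 := by
    rw [← hsgs]
    rw [conj_pow, g3]; group
  obtain ⟨v, hv, hev⟩ := mem_E h hy ez ey
  rw [← hd] at hev
  -- `(g⁻¹ v) ^ 3 = 1`
  have hv3 : (g⁻¹ * v) ^ 3 = 1 := by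
    have e0 : (g⁻¹ * v) ^ 3 = (g⁻¹ * v * g) * (g⁻¹ * (g⁻¹ * v * g) * g) * (g⁻¹ * g⁻¹ * g⁻¹ * v) := by
      rw [pow_succ, pow_two]; group
    have e1 : g⁻¹ * g⁻¹ * g⁻¹ = 1 := by
      have : g⁻¹ * g⁻¹ * g⁻¹ = (g ^ 3)⁻¹ := by group
      rw [this, g3, inv_one]
    rw [e0, e1, one_mul]
    rcases hv with hv | hv | hv | hv <;> rw [hv]
    · group
    · rw [gi1, gi3]
      calc z * y * y * z = z * (y * y) * z := by group
        _ = 1 := by rw [hy, mul_one, hzz]
    · rw [gi2, gi1]
      calc z * (z * y) * y = (z * z) * (y * y) := by group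
        _ = 1 := by rw [hzz, hy, one_mul]
    · rw [gi3, gi2]
      calc y * z * (z * y) = y * (z * z) * y := by group
        _ = 1 := by rw [hzz, mul_one, hy]
  have he' : e = v := by
    rcases hev with hev | hev
    · exact hev
    · exfalso
      have cgd : Commute (g⁻¹) d := (show Commute g d from gd).inv_left
      obtain ⟨-, vz, vy⟩ := V_cases hzz hy hzy hv
      have cvd : Commute v d := by
        rcases hv with hv | hv | hv | hv <;> rw [hv]
        · exact Commute.one_left _
        · exact dz'.symm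
        · exact dy'.symm
        · exact (show Commute z d from dz'.symm).mul_left (show Commute y d from dy'.symm)
      have h1 : g⁻¹ * e = (g⁻¹ * v) * d := by
        rw [hev]
        calc g⁻¹ * (d * v) = g⁻¹ * (v * d) := by rw [cvd.eq]
          _ = _ := by group
      rw [h1, (cgd.mul_left cvd).mul_pow, hv3, one_mul] at hs3
      have h2 : d = 1 := by
        calc d = d ^ 3 * (d * d)⁻¹ := by group
          _ = 1 := by rw [hs3, dd']; group
      exact d_ne h hy g3 gz gy (Or.inl rfl) (hd ▸ h2)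
  rw [he'] at hsgs
  -- `v` is `1` or `z y`
  have hv' : g * (s * v * s⁻¹) * g⁻¹ = v := by
    have h1 : s * (s * g * s⁻¹) * s⁻¹ = g := by
      calc s * (s * g * s⁻¹) * s⁻¹ = (s * s) * g * (s * s)⁻¹ := by group
        _ = g := by rw [ss]; group
    rw [hsgs] at h1
    have h2 : s * (g⁻¹ * v) * s⁻¹ = (s * g * s⁻¹)⁻¹ * (s * v * s⁻¹) := by group
    rw [h2, hsgs] at h1
    have h3 : v⁻¹ * (g * (s * v * s⁻¹)) = g := by
      calc v⁻¹ * (g * (s * v * s⁻¹)) = (g⁻¹ * v)⁻¹ * (s * v * s⁻¹) := by group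
        _ = g := h1
    calc g * (s * v * s⁻¹) * g⁻¹ = v * (v⁻¹ * (g * (s * v * s⁻¹))) * g⁻¹ := by group
      _ = v := by rw [h3]; group
  have hyn := y_ne_one h hy
  have hcase : v = 1 ∨ v = z * y := by
    rcases hv with hv | hv | hv | hv
    · exact Or.inl hv
    · exfalso
      rw [hv, szc, gz] at hv'
      exact y_ne_z h hy hv'
    · exfalso
      rw [hv, syc, gzy'] at hv'
      exact y_ne_z h hy hv'.symm
    · exact Or.inr hv
  rcases hcase with hcase | hcase <;> rw [hcase] at hsgs
  · refine ⟨g, g3, gz, gy, gd0, ?_⟩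
    rw [← hs]
    calc s * g * (s * g) = (s * g * s⁻¹) * (s * s) * g := by group
      _ = 1 := by rw [hsgs, ss]; group
  · have yinv : y⁻¹ = y := inv_eq_of_mul_eq_one_right hy
    refine ⟨y * g * y⁻¹, ?_, ?_, ?_, ?_, ?_⟩
    · rw [conj_pow, g3]; group
    · have e1 : y⁻¹ * z * y = z := by rw [mul_assoc, hzy]; group
      calc y * g * y⁻¹ * z * (y * g * y⁻¹)⁻¹ = y * (g * (y⁻¹ * z * y) * g⁻¹) * y⁻¹ := by group
        _ = y := by rw [e1, gz]; group
    · calc y * g * y⁻¹ * y * (y * g * y⁻¹)⁻¹ = y * (g * y * g⁻¹) * y⁻¹ := by group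
        _ = y * (z * y) * y⁻¹ := by rw [gy]
        _ = y * z := by group
        _ = z * y := hzy.symm
    · rw [← hd]
      have c1 : Commute y d := dy'.symm
      exact ((c1.mul_left (show Commute g d from gd)).mul_left c1.inv_left).eq
    · rw [← hs]
      have e2 : s * (y * g * y⁻¹) * s⁻¹ = z * y * g⁻¹ := by
        calc s * (y * g * y⁻¹) * s⁻¹ = (s * y * s⁻¹) * (s * g * s⁻¹) * (s * y * s⁻¹)⁻¹ := by group
          _ = z * y * g⁻¹ := by rw [syc, hsgs]; group
      have e3 : z * y * g⁻¹ = (y * g * y⁻¹)⁻¹ := by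
        have : z * g⁻¹ = g⁻¹ * y := by
          calc z * g⁻¹ = g⁻¹ * (g * z * g⁻¹) := by group
            _ = g⁻¹ * y := by rw [gz]
        calc z * y * g⁻¹ = y * (z * g⁻¹) := by rw [hzy]; group
          _ = y * g⁻¹ * y := by rw [this]; group
          _ = y * g⁻¹ * y⁻¹ := by rw [yinv]
          _ = (y * g * y⁻¹)⁻¹ := by group
      calc s * (y * g * y⁻¹) * (s * (y * g * y⁻¹)) =
          (s * (y * g * y⁻¹) * s⁻¹) * (s * s) * (y * g * y⁻¹) := by group
        _ = 1 := by rw [e2, ss, e3]; group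

end tau

/-- **The normaliser of the torus**: the element `g`, after a change of coordinates. -/
theorem exists_tau [Finite G] [IsSimpleGroup G] (h : Case9c Q z i j k l x₁ x₂ y) :
    ∃ k' l' x₂' g, Case9c Q z i j k' l' x₁ x₂' y ∧ y * y = 1 ∧ Tau z i j k' l' y g := by
  have hy := yy_one h
  obtain ⟨g, g3, gz, gy⟩ := exists_cyc h
  obtain ⟨D, hD, hgD⟩ := exists_fix h hy g3 gz gy
  rcases hD with rfl | rfl
  · obtain ⟨g', hg'⟩ := exists_adjust h hy g3 gz gy hgD
    exact ⟨k, l, x₂, g', h, hy, hg'⟩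
  · have h' := flip h
    rw [← flip_d h hy] at hgD
    obtain ⟨g', hg'⟩ := exists_adjust h' hy g3 gz gy hgD
    exact ⟨l⁻¹, k⁻¹, x₂⁻¹, g', h', hy, hg'⟩

end Cfsg.Agent.GTwoThree.Tau
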