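import Cfsg.Agent.GTwoThree.Pattern
import Cfsg.Agent.GTwoThree.Core
import Cfsg.Agent.GTwoThree.Model
import Cfsg.Agent.GTwoThree.Tau
import Cfsg.Agent.GTwoThree.Closing
import Cfsg.Agent.LargeExtra.W2.ThreeG.Relation
import Cfsg.Agent.LargeExtra.W2.CharKill.Main

/-!
# Recognition of `G₂(3)` (case `9c` of S1759)

Local 3-analysis: helper865, helper860; fusion, torus normaliser, closing: helper614; model: helper640;
pattern kills, coset table, assembly: helper938.
-/

set_option autoImplicit false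
set_option linter.unusedSectionVars false

namespace Cfsg.Agent.GTwoThree

open Cfsg.Agent.Co2Type.Quad Cfsg.Agent.LargeExtra.Model Cfsg.Agent.LargeExtra.Pres
open Cfsg.Agent.LargeExtra Cfsg.Agent.LargeExtra.Base Cfsg.Agent.LargeExtra.W2 Cfsg.Agent.LargeExtra.W2.PlusHom
open Cfsg.Agent.GTwoThree.Cent Cfsg.Agent.GTwoThree.Fusion Cfsg.Agent.GTwoThree.Pre Cfsg.Agent.GTwoThree.PatDec
open Cfsg.Agent.GTwoThree.Pattern

variable {G : Type*} [Group G] {Q : Subgroup G} {z i j k l x₁ x₂ y : G}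

/-- `y` may be replaced by `z y` -/
theorem case_zy (h : Case9c Q z i j k l x₁ x₂ y) : Case9c Q z i j k l x₁ x₂ (z * y) where
  toPlus := h.toPlus
  x₁3 := h.x₁3
  x₂3 := h.x₂3
  x₁_act := h.x₁_act
  x₂_act := h.x₂_act
  y_act := by
    have hz : ∀ q ∈ Q, z * q * z⁻¹ = q := by
      intro q hq
      rw [← h.large.comm_z q hq]; group
    have key : ∀ v w : G, y * v * y⁻¹ = w → w ∈ Q → z * y * v * (z * y)⁻¹ = w := by
      intro v w e hw
      calc z * y * v * (z * y)⁻¹ = z * (y * v * y⁻¹) * z⁻¹ := by group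
        _ = w := by rw [e, hz w hw]
    have mz : z ∈ Q := h.large.z_mem
    have mi : i ∈ Q := PlusHom.mem_i h.toPlus
    have mj : j ∈ Q := PlusHom.mem_j h.toPlus
    have mk : k ∈ Q := PlusHom.mem_k h.toPlus
    have ml : l ∈ Q := PlusHom.mem_l h.toPlus
    exact ⟨key _ _ h.y_act.z mz, key _ _ h.y_act.i (Q.mul_mem mj mz), key _ _ h.y_act.j (Q.mul_mem mi mz),
      key _ _ h.y_act.k (Q.mul_mem ml mz), key _ _ h.y_act.l (Q.mul_mem mk mz)⟩
  xx := h.xx
  y1 := by
    have hz : z * x₁⁻¹ * z⁻¹ = x₁⁻¹ := by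
      have h1 : Commute x₁ z := x1_z h
      rw [← h1.inv_left.eq]; group
    calc z * y * x₁ * (z * y)⁻¹ = z * (y * x₁ * y⁻¹) * z⁻¹ := by group
      _ = x₁⁻¹ := by rw [h.y1, hz]
  y2 := by
    have hz : z * x₂⁻¹ * z⁻¹ = x₂⁻¹ := by
      have h1 : Commute x₂ z := x2_z h
      rw [← h1.inv_left.eq]; group
    calc z * y * x₂ * (z * y)⁻¹ = z * (y * x₂ * y⁻¹) * z⁻¹ := by group
      _ = x₂⁻¹ := by rw [h.y2, hz]
  yy := by
    have h1 : z * y * (z * y) = (z * z) * (y * y) := by
      calc z * y * (z * y) = z * (y * z) * y := by simp only [mul_assoc]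
        _ = _ := by rw [y_z h]; simp only [mul_assoc]
    rw [h1, h.large.z_sq, one_mul]
    exact h.yy
  cent := by
    rw [h.cent]
    have hz : ∀ w : G, z ∈ Subgroup.closure ({i, j, k, l, x₁, x₂, w} : Set G) := by
      intro w
      rw [← h.ii]
      exact mul_mem (Subgroup.subset_closure (by simp)) (Subgroup.subset_closure (by simp))
    apply le_antisymm
    · rw [Subgroup.closure_le]
      intro v hv
      have hv' : v = i ∨ v = j ∨ v = k ∨ v = l ∨ v = x₁ ∨ v = x₂ ∨ v = y := by simpa using hv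
      rcases hv' with rfl | rfl | rfl | rfl | rfl | rfl | rfl
      iterate 6 exact Subgroup.subset_closure (by simp)
      have h1 : z * v ∈ Subgroup.closure ({i, j, k, l, x₁, x₂, z * v} : Set G) :=
        Subgroup.subset_closure (by simp)
      have h2 := mul_mem (inv_mem (hz (z * v))) h1
      simpa using h2
    · rw [Subgroup.closure_le]
      intro v hv
      have hv' : v = i ∨ v = j ∨ v = k ∨ v = l ∨ v = x₁ ∨ v = x₂ ∨ v = z * y := by simpa using hv
      rcases hv' with rfl | rfl | rfl | rfl | rfl | rfl | rfl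
      iterate 6 exact Subgroup.subset_closure (by simp)
      exact mul_mem (hz y) (Subgroup.subset_closure (by simp))
  card_cent := h.card_cent

/-- `O2` for `x₁`, `x₂` -/
theorem O2_of [Finite G] (h : Case9c Q z i j k l x₁ x₂ y) (hy : y * y = 1) (x : G) (hx : x = x₁ ∨ x = x₂) :
    O2 z x := by
  have hodd : ∀ g : G, g ^ 3 = 1 → Odd (orderOf g) := by
    intro g hg
    have h1 := orderOf_dvd_of_pow_eq_one hg
    rcases (Nat.dvd_prime Nat.prime_three).mp h1 with h2 | h2
    · rw [h2]; decide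
    · rw [h2]; decide
  intro g g' hg hg' zg zg' g3 g3'
  have := LargeExtra.W2.ThreeG.Main.commutator_mem h hy x hx hg.eq zg (hodd g g3) hg'.eq zg' (hodd g' g3')
  rwa [commutatorElement_def] at this

/-- `C_G(z) ∩ C_G(r) ∩ C_G(a) = ⟨z⟩` -/
theorem core_E (h : Case9c Q z i j k l x₁ x₂ y) (hy : y * y = 1) (x : G) (hxz : Commute x z)
    (hxr : Commute x (z * y)) (hxa : Commute x x₁) : x = 1 ∨ x = z := by
  obtain ⟨u, rfl⟩ := exists_code h hxz.eq
  have hxy : Commute (toG h u) y := by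
    have h1 : z * (z * y) = y := by rw [← mul_assoc, h.large.z_sq, one_mul]
    have h2 := hxz.mul_right hxr
    rwa [h1] at h2
  have e1 : mul false u ky = mul false ky u := by
    rw [← toG_inj h, mulG h hy, mulG h hy, toG_ky]; exact hxy.eq
  have e2 : mul false u ka = mul false ka u := by
    rw [← toG_inj h, mulG h hy, mulG h hy, toG_ka h]; exact hxa.eq
  rcases dec_core u e1 e2 with rfl | rfl
  · left; exact toG_k1 h
  · right; exact toG_kz h

/-- `C_G(z)` is generated by `a, b, c, d, r` -/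
theorem cent_le (h : Case9c Q z i j k l x₁ x₂ y) (hy : y * y = 1) {H : Subgroup G} (ha : x₁ ∈ H)
    (hb : i * j * z ∈ H) {c : G} (hc : c ∈ H) (hcc : c = x₂ ∨ c = cj (k * l * z) x₂) (hd : k * l * z ∈ H)
    (hr : z * y ∈ H) : Subgroup.centralizer ({z} : Set G) ≤ H := by
  have hz : z ∈ H := by
    rw [← bb_eq h hy]; exact H.mul_mem hb hb
  have hyH : y ∈ H := by
    have h1 : y = z * (z * y) := by rw [← mul_assoc, h.large.z_sq, one_mul]
    rw [h1]; exact H.mul_mem hz hr
  have hx2 : x₂ ∈ H := by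
    rcases hcc with rfl | rfl
    · exact hc
    · have h1 : x₂ = (k * l * z)⁻¹ * cj (k * l * z) x₂ * (k * l * z) := by unfold cj; group
      rw [h1]; exact H.mul_mem (H.mul_mem (H.inv_mem hd) hc) hd
  have hi : i ∈ H := by
    have h1 : mul false (mul false ka kb) kz = mul false (kq mi) ka := by decide +kernel
    have h2 := tr h hy h1
    simp only [mulG h hy, toG_ka h, toG_kb h, toG_kz h, toG_kq, hom_i] at h2
    have h3 : i = x₁ * (i * j * z) * z * x₁⁻¹ := by rw [h2]; group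
    rw [h3]
    exact H.mul_mem (H.mul_mem (H.mul_mem ha hb) hz) (H.inv_mem ha)
  have hj : j ∈ H := by
    have h1 := h.x₁_act.i
    rw [← h1]
    exact H.mul_mem (H.mul_mem ha hi) (H.inv_mem ha)
  have hk : k ∈ H := by
    have h1 : mul false (mul false kc kd) kz = mul false (kq PlusHom.mk) kc := by decide +kernel
    have h2 := tr h hy h1
    simp only [mulG h hy, toG_kc h, toG_kd h, toG_kz h, toG_kq, hom_k] at h2
    have h3 : k = x₂ * (k * l * z) * z * x₂⁻¹ := by rw [h2]; group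
    rw [h3]
    exact H.mul_mem (H.mul_mem (H.mul_mem hx2 hd) hz) (H.inv_mem hx2)
  have hl : l ∈ H := by
    have h1 := h.x₂_act.k
    rw [← h1]
    exact H.mul_mem (H.mul_mem hx2 hk) (H.inv_mem hx2)
  rw [h.cent, Subgroup.closure_le]
  intro v hv
  have hv' : v = i ∨ v = j ∨ v = k ∨ v = l ∨ v = x₁ ∨ v = x₂ ∨ v = y := by simpa using hv
  rcases hv' with rfl | rfl | rfl | rfl | rfl | rfl | rfl
  · exact hi
  · exact hj
  · exact hk
  · exact hl
  · exact ha
  · exact hx2
  · exact hyH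

/-- the relations hold for suitable coordinates -/
theorem exists_rels [Finite G] [IsSimpleGroup G] (h : Case9c Q z i j k l x₁ x₂ y) :
    ∃ k l x₂ c g, Case9c Q z i j k l x₁ x₂ y ∧ y * y = 1 ∧ (c = x₂ ∨ c = cj (k * l * z) x₂) ∧
      Rel x₁ (i * j * z) c (k * l * z) (z * y) (i * j * g) := by
  obtain ⟨k, l, x₂, g, h, hy, hg⟩ := Tau.exists_tau h
  have P := pre h hy hg.g3 hg.gz hg.gy hg.gd hg.sg
  have hcls : ∀ t : G, orderOf t = 2 → IsConj z t := by
    intro t ht
    have h1 : t * t = 1 := by rw [← pow_two, ← ht, pow_orderOf_eq_one]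
    have h2 : t ≠ 1 := by
      rintro rfl
      rw [orderOf_one] at ht
      omega
    obtain ⟨g, hg⟩ := Sub.isConj_z h h1 h2
    exact isConj_iff.mpr ⟨g, hg⟩
  have hne := LargeExtra.W2.CharKill.not_le h hy hcls
  have h' := case_zy h
  have hzy : z * y * (z * y) = 1 := P.rr
  have hyz : y * z = z * y := y_z h
  have hg0 : g * (z * y) * g⁻¹ = z := by
    calc g * (z * y) * g⁻¹ = (g * z * g⁻¹) * (g * y * g⁻¹) := by group
      _ = y * (z * y) := by rw [hg.gz, hg.gy]
      _ = z := by rw [← mul_assoc, hyz, mul_assoc, hy, mul_one]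
  have hg1 : g⁻¹ * z * g⁻¹⁻¹ = z * y := by
    nth_rewrite 1 [← hg0]; group
  have hg2 : g⁻¹ * (z * y) * g⁻¹⁻¹ = z * (z * y) := by
    rw [← mul_assoc z z y, h.large.z_sq, one_mul, ← hg.gy]; group
  obtain ⟨A₁, a1, a2, a3, a4, -⟩ := LargeExtra.W2.ThreeG.Main.exists_torus h' hzy hg1 hg2 hne x₁ (Or.inl rfl)
  obtain ⟨A₂, b1, b2, b3, b4, -⟩ := LargeExtra.W2.ThreeG.Main.exists_torus h' hzy hg1 hg2 hne x₂ (Or.inr rfl)
  have hx1 := LargeExtra.W2.ThreeG.Main.x1_ne h
  obtain ⟨c, hc, R⟩ := exists_rel h hy P hx1 (O2_of h hy x₁ (Or.inl rfl)) (O2_of h hy x₂ (Or.inr rfl))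
    a1 a2 a4 a3 b1 b2 b4 b3
  exact ⟨k, l, x₂, c, g, h, hy, hc, R⟩

/-- the subgroup generated by the letters contains `C_G(z)` and is isomorphic to `G₂(3)` -/
theorem exists_subgroup [Finite G] [IsSimpleGroup G] (h : Case9c Q z i j k l x₁ x₂ y) :
    ∃ H : Subgroup G, Subgroup.centralizer ({z} : Set G) ≤ H ∧ Nonempty (H ≃* Lie.chevG2.group (ZMod 3)) := by
  obtain ⟨k, l, x₂, c, g, h, hy, hc, R⟩ := exists_rels h
  have hx1 := LargeExtra.W2.ThreeG.Main.x1_ne h
  have hF : Nat.card (ZMod 3) = 3 := by simp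
  have hsimple : IsSimpleGroup (Lie.chevG2.group (ZMod 3)) := (S1055.result (Closing.exists_ne hF)).1
  obtain ⟨a', b', c', d', r', t', R', ha', hgen'⟩ := Model.model
  have hbb := bb_eq h hy
  refine ⟨Subgroup.closure {x₁, i * j * z, c, k * l * z, z * y, i * j * g}, ?_, ?_⟩
  · exact cent_le h hy (Subgroup.subset_closure (by simp)) (Subgroup.subset_closure (by simp))
      (Subgroup.subset_closure (by simp)) hc (Subgroup.subset_closure (by simp)) (Subgroup.subset_closure (by simp))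
  · refine Core.iso_of_simple R hx1 ?_ R' ha' hgen'
    intro x c1 c2 c3
    rw [hbb] at c1 ⊢
    exact core_E h hy x c1 c2 c3

/-- **Recognition of `G₂(3)`.** -/
theorem recognize [Finite G] [IsSimpleGroup G] (h : Case9c Q z i j k l x₁ x₂ y) :
    ∃ (F : Type) (_ : Field F) (_ : Fintype F), Fintype.card F = 3 ∧ Nonempty (G ≃* Lie.chevG2.group F) := by
  obtain ⟨H, hH, e⟩ := exists_subgroup h
  exact ⟨ZMod 3, inferInstance, inferInstance, ZMod.card 3,
    Closing.equiv_of_equiv h H hH (by simp) e⟩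

end Cfsg.Agent.GTwoThree
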