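import Cfsg.Agent.GTwoThree.Rel

/-!
# The base point of the table: the normalizer of `⟨a⟩`
-/

set_option autoImplicit false
set_option linter.unusedSimpArgs false

namespace Cfsg.Agent.GTwoThree

open Cfsg.Agent.SporRec.J1.Machine

section

variable {J : Type*} [Group J] {a b c d r t : J}

/-- the normalizer of `⟨a⟩` -/
def NA (a : J) : Subgroup J := Subgroup.normalizer (Subgroup.zpowers a : Set J)

theorem mem_NA_of_conj {x : J} (h : x * a * x⁻¹ = a ∨ x * a * x⁻¹ = a⁻¹) : x ∈ NA a := by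
  have key : ∀ n : ℤ, x * a ^ n * x⁻¹ ∈ Subgroup.zpowers a := by
    intro n
    rw [← conj_zpow]
    rcases h with h | h
    · rw [h]; exact Subgroup.zpow_mem _ (Subgroup.mem_zpowers a) n
    · rw [h]; exact Subgroup.zpow_mem _ (Subgroup.inv_mem _ (Subgroup.mem_zpowers a)) n
  have key' : ∀ n : ℤ, x⁻¹ * a ^ n * x ∈ Subgroup.zpowers a := by
    intro n
    have h' : x⁻¹ * a * x = a ∨ x⁻¹ * a * x = a⁻¹ := by
      rcases h with h | h
      · left
        have := congrArg (fun y => x⁻¹ * y * x) h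
        simpa [mul_assoc] using this.symm
      · right
        have := congrArg (fun y => x⁻¹ * y⁻¹ * x) h
        simpa [mul_assoc] using this.symm
    have e : x⁻¹ * a ^ n * x = (x⁻¹ * a * x) ^ n := by
      have := conj_zpow (i := n) (a := x⁻¹) (b := a)
      rw [inv_inv] at this
      exact this.symm
    rw [e]
    rcases h' with h' | h'
    · rw [h']; exact Subgroup.zpow_mem _ (Subgroup.mem_zpowers a) n
    · rw [h']; exact Subgroup.zpow_mem _ (Subgroup.inv_mem _ (Subgroup.mem_zpowers a)) n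
  rw [NA, Subgroup.mem_normalizer_iff]
  intro y
  constructor
  · rintro ⟨n, rfl⟩
    exact key n
  · rintro ⟨n, hn⟩
    have : y = x⁻¹ * a ^ n * x := by
      simp only at hn
      rw [hn]; group
    rw [this]
    exact key' n

theorem conj_mem {x : J} (h : x ∈ NA a) : x * a * x⁻¹ ∈ Subgroup.zpowers a := by
  rw [NA, Subgroup.mem_normalizer_iff] at h
  exact (h a).mp (Subgroup.mem_zpowers a)

theorem conj_mem' {x : J} (h : x ∈ NA a) : x⁻¹ * a * x ∈ Subgroup.zpowers a := by
  have := conj_mem ((NA a).inv_mem h)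
  rwa [inv_inv] at this

/-- if `x` normalises `⟨a⟩`, everything centralising `x a x⁻¹` centralises `a` -/
theorem comm_of_NA {x u : J} (h : x ∈ NA a) (hu : u * (x * a * x⁻¹) = x * a * x⁻¹ * u) : u * a = a * u := by
  obtain ⟨n, hn⟩ := conj_mem' h
  have hn' : a ^ n = x⁻¹ * a * x := hn
  have h1 : a = (x * a * x⁻¹) ^ n := by
    rw [conj_zpow, hn']; group
  have h2 : Commute u (x * a * x⁻¹) := hu
  have h3 := h2.zpow_right n
  rw [← h1] at h3
  exact h3

theorem conj_of_mem (h3 : a ^ 3 = 1) {x : J} (h : x ∈ NA a) (ha : a ≠ 1) : x * a * x⁻¹ = a ∨ x * a * x⁻¹ = a⁻¹ := by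
  obtain ⟨n, hn⟩ := conj_mem h
  have hn' : a ^ n = x * a * x⁻¹ := hn
  have h3' : a * a * a = 1 := by simpa [pow_succ] using h3
  have key : a ^ n = a ^ (n % 3) := by
    conv_lhs => rw [← Int.emod_add_mul_ediv n 3, zpow_add, zpow_mul]
    have : a ^ (3 : ℤ) = 1 := by exact_mod_cast h3
    rw [this, one_zpow, mul_one]
  have hlt := Int.emod_lt_of_pos n (show (0 : ℤ) < 3 by norm_num)
  have hge := Int.emod_nonneg n (show (3 : ℤ) ≠ 0 by norm_num)
  rw [key] at hn'
  have hc : n % 3 = 0 ∨ n % 3 = 1 ∨ n % 3 = 2 := by omega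
  rcases hc with hc | hc | hc
  · rw [hc, zpow_zero] at hn'
    exfalso; apply ha
    have := congrArg (fun y => x⁻¹ * y * x) hn'.symm
    simpa [mul_assoc] using this
  · rw [hc, zpow_one] at hn'
    left; exact hn'.symm
  · rw [hc] at hn'
    right
    rw [← hn']
    have : a ^ (2 : ℤ) = a * a := by
      rw [show (2 : ℤ) = ((2 : ℕ) : ℤ) by norm_num, zpow_natCast, pow_two]
    rw [this]
    exact eq_inv_of_mul_eq_one_left h3'

theorem Rel.tr (h : Rel a b c d r t) : t * r * t = b * b := by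
  have tt := h.tt
  rw [← h.tz]
  simp only [mul_assoc]
  rw [canc tt, tt, mul_one]

theorem Rel.a3' (h : Rel a b c d r t) : a * (a * a) = 1 := by
  have := h.a3
  simpa [pow_succ, mul_assoc] using this

theorem Rel.sq_ne (h : Rel a b c d r t) (ha : a ≠ 1) (h2 : a = a⁻¹) : False := by
  apply ha
  have h1 : a * a = 1 := by
    nth_rewrite 2 [h2]; exact mul_inv_cancel a
  have := h.a3'
  rwa [h1, mul_one] at this

/-- `r` is an involution -/
theorem Rel.rinv (h : Rel a b c d r t) : r⁻¹ = r := inv_eq_of_mul_eq_one_right h.rr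

theorem Rel.tinv (h : Rel a b c d r t) : t⁻¹ = t := inv_eq_of_mul_eq_one_right h.tt

/-- `t` does not normalise `⟨a⟩` -/
theorem Rel.t_not_mem (h : Rel a b c d r t) (ha : a ≠ 1) : t ∉ NA a := by
  intro ht
  have hz := h.za
  have h1 : r * (t * a * t⁻¹) = t * a * t⁻¹ * r := by
    rw [← h.tz, h.tinv]
    simp only [mul_assoc]
    rw [canc h.tt, canc h.tt]
    have : b * (b * (a * t)) = a * (b * (b * t)) := by
      have := congrArg (· * t) hz
      simpa [mul_assoc] using this
    rw [this]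
  have h2 := comm_of_NA ht h1
  apply h.sq_ne ha
  have h3 := h.ra
  rw [h2, mul_assoc, h.rr, mul_one] at h3
  exact h3

theorem Rel.bsq_ne (h : Rel a b c d r t) (ha : a ≠ 1) : b * b ≠ 1 := by
  intro hb
  apply h.sq_ne ha
  have h1 := h.tz
  rw [hb, mul_one, h.tt] at h1
  have := h.ra
  rw [← h1, one_mul, mul_one] at this
  exact this

/-- `b` does not normalise `⟨a⟩` -/
theorem Rel.b_not_mem (h : Rel a b c d r t) (ha : a ≠ 1) : b ∉ NA a := by
  intro hb
  have hz := h.za
  have h3 := h.ab3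
  have h4 := h.b4'
  have e : (a * b) ^ 3 = a * (b * a * b⁻¹) * (b * b * a) * b := by
    simp only [pow_succ, pow_zero, one_mul, mul_assoc]; group
  rw [e, hz] at h3
  -- `b ^ 3 ∈ ⟨a⟩`
  have h5 : b * b * b ∈ Subgroup.zpowers a := by
    have : b * b * b = (a * (b * a * b⁻¹) * a)⁻¹ := by
      rw [eq_inv_iff_mul_eq_one]
      have h6 : a * (b * a * b⁻¹) * a * (b * b * b) = 1 := by
        rw [← h3]; simp only [mul_assoc]
      have := mul_eq_one_comm.mp h6
      exact this
    rw [this]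
    exact Subgroup.inv_mem _ (Subgroup.mul_mem _ (Subgroup.mul_mem _ (Subgroup.mem_zpowers a) (conj_mem hb))
      (Subgroup.mem_zpowers a))
  have h6 : b = (b * b * b)⁻¹ := by
    rw [eq_inv_iff_mul_eq_one]
    simpa [mul_assoc] using h4
  have h7 : b ∈ Subgroup.zpowers a := by
    rw [h6]; exact Subgroup.inv_mem _ h5
  have h8 : b * b * b = 1 := by
    obtain ⟨n, hn⟩ := h7
    have hn' : a ^ n = b := hn
    have : b * b * b = b ^ 3 := by simp only [pow_succ, pow_zero, one_mul, mul_assoc]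
    rw [this, ← hn', ← zpow_natCast, ← zpow_mul, mul_comm, zpow_mul, zpow_natCast, h.a3, one_zpow]
  have h9 : b = 1 := by
    rw [h8, inv_one] at h6
    exact h6
  apply h.bsq_ne ha
  rw [h9, mul_one]

theorem Rel.br (h : Rel a b c d r t) : b * r * b⁻¹ = r * (b * b) := by
  have h1 := h.rb
  have h2 : b * r = r * b⁻¹ := by
    rw [← h1]; simp only [mul_assoc]; rw [canc h.rr]
  rw [h2, mul_assoc]
  congr 1
  have h4 := h.b4
  have : b⁻¹ * b⁻¹ = b * b := by
    rw [← mul_inv_rev, inv_eq_iff_mul_eq_one]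
    simpa [pow_succ, mul_assoc] using h4
  exact this

/-- `b t` does not normalise `⟨a⟩` -/
theorem Rel.bt_not_mem (h : Rel a b c d r t) (ha : a ≠ 1) : b * t ∉ NA a := by
  intro ht
  have hz := h.za
  have hbz : b * (b * b) = b * b * b := by rw [mul_assoc]
  -- `r z` centralises `(bt) a (bt)⁻¹`
  have e : r * (b * b) = b * t * (b * b) * (b * t)⁻¹ := by
    rw [← h.br, ← h.tz, mul_inv_rev, h.tinv]
    simp only [mul_assoc]
  have h1 : r * (b * b) * (b * t * a * (b * t)⁻¹) = b * t * a * (b * t)⁻¹ * (r * (b * b)) := by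
    rw [e]
    have : (b * t) * (b * b) * (b * t)⁻¹ * (b * t * a * (b * t)⁻¹) = (b * t) * (b * b * a) * (b * t)⁻¹ := by group
    rw [this, hz]; group
  have h2 := comm_of_NA ht h1
  apply h.sq_ne ha
  have h3 : r * (a * r) = a⁻¹ := by rw [← mul_assoc]; exact h.ra
  -- `r z a = a r z`
  have h4 : r * a * (b * b) = a * r * (b * b) := by
    rw [mul_assoc r a, ← hz, ← mul_assoc]
    simpa [mul_assoc] using h2
  have h5 := mul_right_cancel h4
  rw [← h5, ← mul_assoc, h.rr, one_mul] at h3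
  exact h3

/-- the letters fixing the base point -/
theorem Rel.letter_mem (h : Rel a b c d r t) : ∀ g ∈ [0, 1, 3, 4, 6, 7], g < 8 ∧ g8 a b c d r t g ∈ NA a := by
  have hr : r ∈ NA a := mem_NA_of_conj (Or.inr (by rw [h.rinv]; exact h.ra))
  have ha : a ∈ NA a := mem_NA_of_conj (Or.inl (by group))
  have hc : c ∈ NA a := mem_NA_of_conj (Or.inl (by rw [← h.ac]; group))
  have hd : d ∈ NA a := mem_NA_of_conj (Or.inl (by rw [← h.ad]; group))
  have hz : b * b ∈ NA a := mem_NA_of_conj (Or.inl (by rw [h.za]; group))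
  have hk1 : t * a * t ∈ NA a := mem_NA_of_conj (Or.inl (by rw [← h.k1]; group))
  have hk3 : t * c * t ∈ NA a := mem_NA_of_conj (Or.inl (by rw [← h.k3]; group))
  have e6 : t * (r * a) * t = b * b * (t * a * t) := by
    rw [← h.tr]; simp only [mul_assoc]; rw [canc h.tt]
  have e7 : t * (r * c) * t = b * b * (t * c * t) := by
    rw [← h.tr]; simp only [mul_assoc]; rw [canc h.tt]
  intro g hg
  simp only [List.mem_cons, List.not_mem_nil, or_false] at hg
  rcases hg with rfl | rfl | rfl | rfl | rfl | rfl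
  · exact ⟨by norm_num, hr⟩
  · exact ⟨by norm_num, mul_mem hr ha⟩
  · exact ⟨by norm_num, mul_mem hr hc⟩
  · exact ⟨by norm_num, mul_mem hr hd⟩
  · refine ⟨by norm_num, ?_⟩
    change t * (r * a) * t ∈ NA a
    rw [e6]; exact mul_mem hz hk1
  · refine ⟨by norm_num, ?_⟩
    change t * (r * c) * t ∈ NA a
    rw [e7]; exact mul_mem hz hk3

end

end Cfsg.Agent.GTwoThree
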