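import Cfsg.Agent.LargeExtra.W2.PlusHom
import Cfsg.Agent.LargeExtra.W2.Iface
import Cfsg.Agent.LargeExtra.TwoCentral

/-!
# `Case9c` (centraliser of an involution of `G₂(3)`): the decidable model of `C_G(z)` (helper614)

`K = M × 3 × 3 × 2` with `toG (m, a, b, e) = hom m * x₁ ^ a * x₂ ^ b * y ^ e`; `toG (mul t u v) = toG u * toG v`,
`toG` is injective with range `C_G(z)`; `t = true` iff `y ^ 2 = z`.
-/

set_option autoImplicit false

namespace Cfsg.Agent.GTwoThree.Cent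

open Cfsg.Agent.Co2Type.Quad Cfsg.Agent.LargeExtra.Model Cfsg.Agent.LargeExtra.Pres
open Cfsg.Agent.LargeExtra.W2 Cfsg.Agent.LargeExtra.W2.PlusHom

/-- conjugation by `x₁` in the model -/
def s1 : M →* M := endo mj (mi * mj) mk ml (by decide +kernel)
/-- conjugation by `x₂` in the model -/
def s2 : M →* M := endo mi mj ml (mk * ml) (by decide +kernel)
/-- conjugation by `y` in the model -/
def sy : M →* M := endo (mj * zz) (mi * zz) (ml * zz) (mk * zz) (by decide +kernel)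

/-- iterates -/
def it (f : M →* M) : ℕ → M → M
  | 0, x => x
  | n + 1, x => f (it f n x)

/-- conjugation by `x₁ ^ a x₂ ^ b y ^ e` -/
def act (a b : Fin 3) (e : Fin 2) (x : M) : M := it s1 a.1 (it s2 b.1 (it sy e.1 x))

/-- codes of the elements of `C_G(z)` -/
abbrev K : Type := M × Fin 3 × Fin 3 × Fin 2

/-- sign -/
def sg (e : Fin 2) (a : Fin 3) : Fin 3 := if e = 0 then a else -a

/-- the cocycle -/
def tw (t : Bool) (e f : Fin 2) : M := if t = true ∧ e = 1 ∧ f = 1 then zz else 1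

/-- the product of codes -/
def mul (t : Bool) (u v : K) : K :=
  (u.1 * act u.2.1 u.2.2.1 u.2.2.2 v.1 * tw t u.2.2.2 v.2.2.2,
    u.2.1 + sg u.2.2.2 v.2.1, u.2.2.1 + sg u.2.2.2 v.2.2.1, u.2.2.2 + v.2.2.2)

/-- the code of an element of `Q` -/
def kq (m : M) : K := (m, 0, 0, 0)
/-- the code of `y` -/
def ky : K := (1, 0, 0, 1)
/-- the code of `1` -/
def k1 : K := (1, 0, 0, 0)

section

variable {G : Type*} [Group G] {Q : Subgroup G} {z i j k l x₁ x₂ y : G}

/-- the element with a given code -/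
noncomputable def toG (h : Case9c Q z i j k l x₁ x₂ y) (u : K) : G :=
  hom h.toPlus u.1 * x₁ ^ u.2.1.1 * x₂ ^ u.2.2.1.1 * y ^ u.2.2.2.1

variable (h : Case9c Q z i j k l x₁ x₂ y)

include h

theorem x1_hom (x : M) : x₁ * hom h.toPlus x = hom h.toPlus (s1 x) * x₁ := by
  rw [← mul_inv_eq_iff_eq_mul]
  apply conj_hom h.toPlus h.x₁_act
  · exact hom_j _
  · rw [map_mul, hom_i, hom_j]
  · exact hom_k _
  · exact hom_l _

theorem x2_hom (x : M) : x₂ * hom h.toPlus x = hom h.toPlus (s2 x) * x₂ := by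
  rw [← mul_inv_eq_iff_eq_mul]
  apply conj_hom h.toPlus h.x₂_act
  · exact hom_i _
  · exact hom_j _
  · exact hom_l _
  · rw [map_mul, hom_k, hom_l]

theorem y_hom (x : M) : y * hom h.toPlus x = hom h.toPlus (sy x) * y := by
  rw [← mul_inv_eq_iff_eq_mul]
  apply conj_hom h.toPlus h.y_act
  · rw [map_mul, hom_j, hom_zz]
  · rw [map_mul, hom_i, hom_zz]
  · rw [map_mul, hom_l, hom_zz]
  · rw [map_mul, hom_k, hom_zz]

omit h in
theorem it_hom {g : G} {f : M →* M} {P : Plus Q z i j k l} (hg : ∀ x, g * hom P x = hom P (f x) * g)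
    (n : ℕ) (x : M) : g ^ n * hom P x = hom P (it f n x) * g ^ n := by
  induction n with
  | zero => simp [it]
  | succ n ih =>
    rw [pow_succ', mul_assoc, ih, ← mul_assoc, hg, mul_assoc]; rfl

theorem act_hom (a b : Fin 3) (e : Fin 2) (x : M) :
    x₁ ^ a.1 * x₂ ^ b.1 * y ^ e.1 * hom h.toPlus x =
      hom h.toPlus (act a b e x) * (x₁ ^ a.1 * x₂ ^ b.1 * y ^ e.1) := by
  have h1 := it_hom (y_hom h) e.1 x
  have h2 := it_hom (x2_hom h) b.1 (it sy e.1 x)
  have h3 := it_hom (x1_hom h) a.1 (it s2 b.1 (it sy e.1 x))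
  calc x₁ ^ a.1 * x₂ ^ b.1 * y ^ e.1 * hom h.toPlus x
      = x₁ ^ a.1 * x₂ ^ b.1 * (y ^ e.1 * hom h.toPlus x) := by group
    _ = x₁ ^ a.1 * (x₂ ^ b.1 * hom h.toPlus (it sy e.1 x)) * y ^ e.1 := by rw [h1]; group
    _ = (x₁ ^ a.1 * hom h.toPlus (it s2 b.1 (it sy e.1 x))) * x₂ ^ b.1 * y ^ e.1 := by rw [h2]; group
    _ = _ := by rw [h3]; unfold act; group

omit h in
theorem pow_fin {g : G} (hg : g ^ 3 = 1) (a b : Fin 3) : g ^ (a + b : Fin 3).1 = g ^ a.1 * g ^ b.1 := by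
  rw [← pow_add, Fin.val_add]
  conv_rhs => rw [← Nat.div_add_mod (a.1 + b.1) 3, pow_add, pow_mul, hg, one_pow, one_mul]

omit h in
theorem pow_fin_neg {g : G} (hg : g ^ 3 = 1) (a : Fin 3) : g ^ (-a : Fin 3).1 = (g ^ a.1)⁻¹ := by
  rw [eq_inv_iff_mul_eq_one, ← pow_fin hg]
  simp

theorem y_x1 (a : Fin 3) : y * x₁ ^ a.1 = x₁ ^ (-a : Fin 3).1 * y := by
  rw [pow_fin_neg h.x₁3]
  have h1 : SemiconjBy y x₁ x₁⁻¹ := by
    show y * x₁ = x₁⁻¹ * y
    rw [← h.y1]; group
  have := (h1.pow_right a.1).eq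
  rw [this, inv_pow]

theorem y_x2 (a : Fin 3) : y * x₂ ^ a.1 = x₂ ^ (-a : Fin 3).1 * y := by
  rw [pow_fin_neg h.x₂3]
  have h1 : SemiconjBy y x₂ x₂⁻¹ := by
    show y * x₂ = x₂⁻¹ * y
    rw [← h.y2]; group
  have := (h1.pow_right a.1).eq
  rw [this, inv_pow]

theorem ye_x1 (e : Fin 2) (a : Fin 3) : y ^ e.1 * x₁ ^ a.1 = x₁ ^ (sg e a).1 * y ^ e.1 := by
  fin_cases e
  · simp [sg]
  · have := y_x1 h a
    simpa [sg] using this

theorem ye_x2 (e : Fin 2) (a : Fin 3) : y ^ e.1 * x₂ ^ a.1 = x₂ ^ (sg e a).1 * y ^ e.1 := by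
  fin_cases e
  · simp [sg]
  · have := y_x2 h a
    simpa [sg] using this

theorem x1_z : x₁ * z = z * x₁ := by
  have := h.x₁_act.z
  rwa [mul_inv_eq_iff_eq_mul] at this

theorem x2_z : x₂ * z = z * x₂ := by
  have := h.x₂_act.z
  rwa [mul_inv_eq_iff_eq_mul] at this

theorem y_z : y * z = z * y := by
  have := h.y_act.z
  rwa [mul_inv_eq_iff_eq_mul] at this

/-- the value of `t` -/
def Twist (t : Bool) : Prop := y * y = if t = true then z else 1

omit h in
theorem exists_twist (h : Case9c Q z i j k l x₁ x₂ y) : ∃ t, Twist (z := z) (y := y) t := by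
  rcases h.yy with h1 | h1
  · exact ⟨false, by simpa [Twist] using h1⟩
  · exact ⟨true, by simpa [Twist] using h1⟩

theorem tw_hom {t : Bool} (ht : Twist (z := z) (y := y) t) (e f : Fin 2) :
    y ^ e.1 * y ^ f.1 = hom h.toPlus (tw t e f) * y ^ (e + f : Fin 2).1 := by
  have h1 : hom h.toPlus zz = z := hom_zz _
  unfold Twist at ht
  fin_cases e <;> fin_cases f <;> cases t <;> simp [tw, h1, ht] at *

theorem tw_comm (t : Bool) (e f : Fin 2) {g : G} (hg : g * z = z * g) :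
    g * hom h.toPlus (tw t e f) = hom h.toPlus (tw t e f) * g := by
  unfold tw
  split_ifs
  · rw [hom_zz]; exact hg
  · simp

theorem toG_mul {t : Bool} (ht : Twist (z := z) (y := y) t) (u v : K) :
    toG h (mul t u v) = toG h u * toG h v := by
  obtain ⟨m, a, b, e⟩ := u
  obtain ⟨m', a', b', e'⟩ := v
  show hom h.toPlus (m * act a b e m' * tw t e e') * x₁ ^ (a + sg e a' : Fin 3).1 * x₂ ^ (b + sg e b' : Fin 3).1 *
      y ^ (e + e' : Fin 2).1 = (hom h.toPlus m * x₁ ^ a.1 * x₂ ^ b.1 * y ^ e.1) *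
      (hom h.toPlus m' * x₁ ^ a'.1 * x₂ ^ b'.1 * y ^ e'.1)
  have e0 := act_hom h a b e m'
  have e1 := ye_x1 h e a'
  have e2 := ye_x2 h e b'
  have e3 := tw_hom h ht e e'
  have c1 : ∀ a b : ℕ, x₂ ^ a * x₁ ^ b = x₁ ^ b * x₂ ^ a := fun a b =>
    (((show Commute x₁ x₂ from h.xx).pow_pow b a).eq).symm
  have c2 := tw_comm h t e e' (g := x₁ ^ (a + sg e a' : Fin 3).1 * x₂ ^ (b + sg e b' : Fin 3).1)
    ((((show Commute x₁ z from x1_z h).pow_left _).mul_left ((show Commute x₂ z from x2_z h).pow_left _)).eq)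
  rw [map_mul, map_mul]
  symm
  calc (hom h.toPlus m * x₁ ^ a.1 * x₂ ^ b.1 * y ^ e.1) * (hom h.toPlus m' * x₁ ^ a'.1 * x₂ ^ b'.1 * y ^ e'.1)
      = hom h.toPlus m * (x₁ ^ a.1 * x₂ ^ b.1 * y ^ e.1 * hom h.toPlus m') * x₁ ^ a'.1 * x₂ ^ b'.1 * y ^ e'.1 := by
        group
    _ = hom h.toPlus m * hom h.toPlus (act a b e m') * (x₁ ^ a.1 * x₂ ^ b.1) * (y ^ e.1 * x₁ ^ a'.1) *
          x₂ ^ b'.1 * y ^ e'.1 := by rw [e0]; group
    _ = hom h.toPlus m * hom h.toPlus (act a b e m') * x₁ ^ a.1 * (x₂ ^ b.1 * x₁ ^ (sg e a').1) *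
          (y ^ e.1 * x₂ ^ b'.1) * y ^ e'.1 := by rw [e1]; group
    _ = hom h.toPlus m * hom h.toPlus (act a b e m') * (x₁ ^ a.1 * x₁ ^ (sg e a').1) *
          (x₂ ^ b.1 * x₂ ^ (sg e b').1) * (y ^ e.1 * y ^ e'.1) := by rw [c1, e2]; group
    _ = hom h.toPlus m * hom h.toPlus (act a b e m') * (x₁ ^ (a + sg e a' : Fin 3).1 *
          x₂ ^ (b + sg e b' : Fin 3).1 * hom h.toPlus (tw t e e')) * y ^ (e + e' : Fin 2).1 := by
        rw [e3, pow_fin h.x₁3, pow_fin h.x₂3]; group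
    _ = _ := by rw [c2]; group

theorem toG_kq (m : M) : toG h (kq m) = hom h.toPlus m := by
  simp [toG, kq]

theorem toG_ky : toG h ky = y := by
  simp [toG, ky]

theorem toG_k1 : toG h k1 = 1 := by
  simp [toG, k1]

theorem toG_comm (u : K) : toG h u * z = z * toG h u := by
  have h1 : Commute (hom h.toPlus u.1) z := h.large.comm_z _ (hom_mem h.toPlus u.1)
  have h2 : Commute x₁ z := x1_z h
  have h3 : Commute x₂ z := x2_z h
  have h4 : Commute y z := y_z h
  exact (((h1.mul_left (h2.pow_left _)).mul_left (h3.pow_left _)).mul_left (h4.pow_left _)).eq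

/-- code of the inverse -/
theorem exists_inv {t : Bool} (ht : Twist (z := z) (y := y) t) (u : K) : ∃ v, toG h v = (toG h u)⁻¹ := by
  -- the powers of `toG u`
  have hp : ∀ n : ℕ, ∃ v, toG h v = toG h u ^ n := by
    intro n
    induction n with
    | zero => exact ⟨k1, by rw [toG_k1, pow_zero]⟩
    | succ n ih =>
      obtain ⟨v, hv⟩ := ih
      exact ⟨mul t v u, by rw [toG_mul h ht, hv, pow_succ]⟩
  -- finite order by pigeonhole
  have hfin : ∃ a b : ℕ, a < b ∧ toG h u ^ a = toG h u ^ b := by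
    choose f hf using hp
    obtain ⟨a, b, hab, he⟩ := Finite.exists_ne_map_eq_of_infinite f
    rcases lt_or_gt_of_ne hab with h1 | h1
    · exact ⟨a, b, h1, by rw [← hf, ← hf, he]⟩
    · exact ⟨b, a, h1, by rw [← hf, ← hf, he]⟩
  obtain ⟨a, b, hab, he⟩ := hfin
  obtain ⟨v, hv⟩ := hp (b - a - 1)
  refine ⟨v, ?_⟩
  rw [hv, eq_inv_iff_mul_eq_one, ← pow_succ]
  have : b - a - 1 + 1 = b - a := by omega
  rw [this]
  have h1 : toG h u ^ a * toG h u ^ (b - a) = toG h u ^ a * 1 := by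
    rw [← pow_add, mul_one, he]
    congr 1; omega
  exact mul_left_cancel h1

/-- every element of `C_G(z)` has a code -/
theorem exists_code {c : G} (hc : c * z = z * c) : ∃ u, toG h u = c := by
  obtain ⟨t, ht⟩ := exists_twist h
  have hc' : c ∈ Subgroup.closure ({i, j, k, l, x₁, x₂, y} : Set G) := by
    rw [← h.cent]; exact Subgroup.mem_centralizer_singleton_iff.2 hc
  have hgen : ∀ x ∈ ({i, j, k, l, x₁, x₂, y} : Set G), ∃ u, toG h u = x := by
    intro x hx
    have hx' : x = i ∨ x = j ∨ x = k ∨ x = l ∨ x = x₁ ∨ x = x₂ ∨ x = y := by simpa using hx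
    rcases hx' with rfl | rfl | rfl | rfl | rfl | rfl | rfl
    · exact ⟨kq mi, by rw [toG_kq, hom_i]⟩
    · exact ⟨kq mj, by rw [toG_kq, hom_j]⟩
    · exact ⟨kq mk, by rw [toG_kq, hom_k]⟩
    · exact ⟨kq ml, by rw [toG_kq, hom_l]⟩
    · exact ⟨(1, 1, 0, 0), by simp [toG]⟩
    · exact ⟨(1, 0, 1, 0), by simp [toG]⟩
    · exact ⟨ky, toG_ky h⟩
  induction hc' using Subgroup.closure_induction with
  | mem x hx => exact hgen x hx
  | one => exact ⟨k1, toG_k1 h⟩
  | mul x y' hx hy hx' hy' =>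
    have hm : ∀ w ∈ Subgroup.closure ({i, j, k, l, x₁, x₂, y} : Set G), w * z = z * w := by
      intro w hw
      rw [← h.cent] at hw
      exact Subgroup.mem_centralizer_singleton_iff.1 hw
    obtain ⟨u, hu⟩ := hx' (hm x hx)
    obtain ⟨v, hv⟩ := hy' (hm y' hy)
    exact ⟨mul t u v, by rw [toG_mul h ht, hu, hv]⟩
  | inv x hx hx' =>
    have hm : ∀ w ∈ Subgroup.closure ({i, j, k, l, x₁, x₂, y} : Set G), w * z = z * w := by
      intro w hw
      rw [← h.cent] at hw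
      exact Subgroup.mem_centralizer_singleton_iff.1 hw
    obtain ⟨u, hu⟩ := hx' (hm x hx)
    obtain ⟨v, hv⟩ := exists_inv h ht u
    exact ⟨v, by rw [hv, hu]⟩

omit [Group G] h in
theorem card_K : Nat.card K = 576 := by
  rw [Nat.card_eq_fintype_card]; decide +kernel

theorem toG_injective : Function.Injective (toG h) := by
  have hs : Function.Surjective (fun u : K => (⟨toG h u, Subgroup.mem_centralizer_singleton_iff.2 (toG_comm h u)⟩ :
      Subgroup.centralizer ({z} : Set G))) := by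
    rintro ⟨c, hc⟩
    obtain ⟨u, hu⟩ := exists_code h (Subgroup.mem_centralizer_singleton_iff.1 hc)
    exact ⟨u, Subtype.ext hu⟩
  have hfin : Finite (Subgroup.centralizer ({z} : Set G)) := Finite.of_surjective _ hs
  have hb : Function.Bijective (fun u : K => (⟨toG h u, Subgroup.mem_centralizer_singleton_iff.2 (toG_comm h u)⟩ :
      Subgroup.centralizer ({z} : Set G))) := by
    rw [Nat.bijective_iff_surjective_and_card]
    exact ⟨hs, by rw [card_K, h.card_cent]⟩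
  intro u v huv
  exact hb.1 (Subtype.ext huv)

theorem toG_inj {u v : K} : toG h u = toG h v ↔ u = v := (toG_injective h).eq_iff

end

end Cfsg.Agent.GTwoThree.Cent
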