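import Cfsg.Agent.GTwoThree.Cent
import Cfsg.Agent.LargeExtra.W2.CType

/-!
# `Case9c`: one class of involutions, the four-group `⟨z, y⟩` (helper614)

`G` finite simple: `y ^ 2 = 1`, `y` is conjugate to `z`, `C_G(z) ∩ C_G(y) = ⟨z, y, d⟩`, `d = i j k l`, and there is
`g` of order three with `z → y → z y`.
-/

set_option autoImplicit false

namespace Cfsg.Agent.GTwoThree.Fusion

open Cfsg.Agent.Co2Type.Quad Cfsg.Agent.LargeExtra.Model Cfsg.Agent.LargeExtra.Pres
open Cfsg.Agent.LargeExtra Cfsg.Agent.LargeExtra.Base Cfsg.Agent.LargeExtra.W2 Cfsg.Agent.LargeExtra.W2.PlusHom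
open Cfsg.Agent.GTwoThree.Cent

/-- the element `d = i j k l` of the model -/
def dm : M := mi * mj * (mk * ml)

set_option maxRecDepth 100000 in
theorem dec_twist : ∀ u : K, mul true u u = k1 → u = kq u.1 := by decide +kernel

set_option maxRecDepth 100000 in
theorem dec_in : ∀ u : K, mul false u u = k1 → u.2.2.2 = 0 → u = kq u.1 := by decide +kernel

set_option maxRecDepth 100000 in
theorem dec_outer : ∀ u : K, mul false u u = k1 → u.2.2.2 = 1 →
    ∃ m : M, mul false (m, -u.2.1, -u.2.2.1, 0) ky = mul false u (m, -u.2.1, -u.2.2.1, 0) := by decide +kernel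

set_option maxRecDepth 100000 in
theorem dec_dQ : ∀ m : M, m * m = 1 → m ≠ 1 → m ≠ zz → ∃ a b : Fin 3, ∃ n : M,
    mul false (n, a, b, 0) (kq dm) = mul false (kq m) (n, a, b, 0) := by decide +kernel

set_option maxRecDepth 100000 in
theorem dec_cy : ∀ u : K, mul false u ky = mul false ky u →
    ∃ e : Fin 2, u = (1, 0, 0, e) ∨ u = (zz, 0, 0, e) ∨ u = (dm, 0, 0, e) ∨ u = (dm * zz, 0, 0, e) := by
  decide +kernel

set_option maxRecDepth 100000 in
theorem dec_pq : ∀ m : M, m * m = 1 → m ≠ 1 → m ≠ zz → ∃ p q : M, p * p = 1 ∧ q * q = 1 ∧ p * m = m * p ∧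
    q * m = m * q ∧ p * q = q * p * zz := by decide +kernel

section

variable {G : Type*} [Group G] {Q : Subgroup G} {z i j k l x₁ x₂ y : G}

theorem conj_sq {g t : G} (ht : t * t = 1) : g * t * g⁻¹ * (g * t * g⁻¹) = 1 := by
  calc g * t * g⁻¹ * (g * t * g⁻¹) = g * (t * t) * g⁻¹ := by group
    _ = 1 := by rw [ht]; group

theorem noncomm (h : Case9c Q z i j k l x₁ x₂ y) : ¬ IsMulCommutative G := by
  rintro ⟨⟨hc⟩⟩
  have h1 := h.ji
  rw [hc j i] at h1
  exact h.large.z_ne (by simpa using h1)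

/-- codes of involutions -/
theorem code_sq (h : Case9c Q z i j k l x₁ x₂ y) {t : Bool} (ht : Twist (z := z) (y := y) t) {u : K}
    (hu : toG h u * toG h u = 1) : mul t u u = k1 := by
  rw [← toG_inj h, toG_mul h ht, hu, toG_k1]

/-- Case II: a conjugate `a ≠ z` of `z` in `Q` gives an outer involution in `Q ^ g`. -/
theorem outer_of_pair (h : Case9c Q z i j k l x₁ x₂ y) {A : Subgroup G} {a : G} (p : Pair Q z A a) :
    ∃ t ∈ A, t * t = 1 ∧ t * z = z * t ∧ t ∉ Q := by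
  obtain ⟨g, g1, g2, g3, -⟩ := p.isConj
  obtain ⟨m, hm⟩ := exists_hom h.toPlus p.a_mem
  have ha2 : a * a = 1 := by
    rw [← g1]; exact conj_sq h.large.z_sq
  have hm2 : m * m = 1 := by
    rw [← hom_eq_iff h.toPlus, map_mul, hm, ha2, map_one]
  have hm1 : m ≠ 1 := by
    rintro rfl
    rw [map_one] at hm
    apply h.large.z_ne
    have : z = g⁻¹ * a * g := by rw [← g1]; group
    rw [this, ← hm]; group
  have hmz : m ≠ zz := by
    rintro rfl
    rw [hom_zz] at hm
    exact p.ne hm.symm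
  obtain ⟨p', q', e1, e2, e3, e4, e5⟩ := dec_pq m hm2 hm1 hmz
  have hinv : ∀ n : M, n * n = 1 → n * m = m * n →
      g * hom h.toPlus n * g⁻¹ ∈ A ∧ (g * hom h.toPlus n * g⁻¹) * (g * hom h.toPlus n * g⁻¹) = 1 ∧
      (g * hom h.toPlus n * g⁻¹) * z = z * (g * hom h.toPlus n * g⁻¹) := by
    intro n hn hnm
    refine ⟨?_, ?_, ?_⟩
    · rw [g3]
      exact ⟨_, hom_mem h.toPlus n, rfl⟩
    · apply conj_sq
      rw [← map_mul, hn, map_one]
    · have : hom h.toPlus n * a = a * hom h.toPlus n := by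
        rw [← hm, ← map_mul, ← map_mul, hnm]
      calc g * hom h.toPlus n * g⁻¹ * z = g * hom h.toPlus n * g⁻¹ * (g * a * g⁻¹) := by rw [g2]
        _ = g * (hom h.toPlus n * a) * g⁻¹ := by group
        _ = g * (a * hom h.toPlus n) * g⁻¹ := by rw [this]
        _ = (g * a * g⁻¹) * (g * hom h.toPlus n * g⁻¹) := by group
        _ = z * (g * hom h.toPlus n * g⁻¹) := by rw [g2]
  obtain ⟨a1, a2, a3⟩ := hinv p' e1 e3
  obtain ⟨b1, b2, b3⟩ := hinv q' e2 e4
  by_cases hp : g * hom h.toPlus p' * g⁻¹ ∈ Q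
  · by_cases hq : g * hom h.toPlus q' * g⁻¹ ∈ Q
    · exfalso
      have h1 : hom h.toPlus p' * hom h.toPlus q' = hom h.toPlus q' * hom h.toPlus p' * z := by
        rw [← map_mul, e5, map_mul, map_mul, hom_zz]
      have h2 : g * hom h.toPlus p' * g⁻¹ * (g * hom h.toPlus q' * g⁻¹) =
          g * hom h.toPlus q' * g⁻¹ * (g * hom h.toPlus p' * g⁻¹) * a := by
        rw [← g1]
        calc g * hom h.toPlus p' * g⁻¹ * (g * hom h.toPlus q' * g⁻¹)
            = g * (hom h.toPlus p' * hom h.toPlus q') * g⁻¹ := by group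
          _ = _ := by rw [h1]; group
      rcases h.large.comm _ hp _ hq with h3 | h3
      · rw [h3] at h2
        have h4 : a = 1 := by simpa using h2
        apply p.la.z_ne h4
      · rw [h3] at h2
        exact p.ne (mul_left_cancel h2).symm
    · exact ⟨_, b1, b2, b3, hq⟩
  · exact ⟨_, a1, a2, a3, hp⟩

/-- outer involutions are conjugate to `y` (untwisted case) -/
theorem exists_outer_conj (h : Case9c Q z i j k l x₁ x₂ y) (hy : y * y = 1) {t : G} (ht : t * t = 1)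
    (htz : t * z = z * t) (htQ : t ∉ Q) : ∃ c, c * z = z * c ∧ c * y * c⁻¹ = t := by
  have hT : Twist (z := z) (y := y) false := by simpa [Twist] using hy
  obtain ⟨u, rfl⟩ := exists_code h htz
  have h1 := code_sq h hT ht
  have h2 : u.2.2.2 = 1 := by
    by_contra hne
    have h3 : u.2.2.2 = 0 := by omega
    have h4 := dec_in u h1 h3
    apply htQ
    rw [h4, toG_kq]
    exact hom_mem _ _
  obtain ⟨m, hm⟩ := dec_outer u h1 h2
  refine ⟨toG h (m, -u.2.1, -u.2.2.1, 0), toG_comm h _, ?_⟩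
  rw [← toG_inj h, toG_mul h hT, toG_mul h hT, toG_ky] at hm
  rw [hm]; group

theorem hom_dm (P : Plus Q z i j k l) : hom P dm = i * j * (k * l) := by
  simp only [dm, map_mul, hom_i, hom_j, hom_k, hom_l]

/-- noncentral involutions of `Q` are conjugate to `d` -/
theorem exists_conj_d (h : Case9c Q z i j k l x₁ x₂ y) (hy : y * y = 1) {t : G} (ht : t * t = 1)
    (htQ : t ∈ Q) (ht1 : t ≠ 1) (htz : t ≠ z) : ∃ c, c * z = z * c ∧ c * (i * j * (k * l)) * c⁻¹ = t := by
  have hT : Twist (z := z) (y := y) false := by simpa [Twist] using hy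
  obtain ⟨m, rfl⟩ := exists_hom h.toPlus htQ
  have hm2 : m * m = 1 := by
    rw [← hom_eq_iff h.toPlus, map_mul, ht, map_one]
  have hm1 : m ≠ 1 := by
    rintro rfl
    exact ht1 (map_one _)
  have hmz : m ≠ zz := by
    rintro rfl
    exact htz (hom_zz _)
  obtain ⟨a, b, n, hn⟩ := dec_dQ m hm2 hm1 hmz
  refine ⟨toG h (n, a, b, 0), toG_comm h _, ?_⟩
  rw [← toG_inj h, toG_mul h hT, toG_mul h hT, toG_kq, toG_kq, hom_dm] at hn
  rw [hn]; group

/-- `|C_Q(t)| = 4` for outer involutions `t`. -/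
theorem card_outer (h : Case9c Q z i j k l x₁ x₂ y) {t : G} (ht : t * t = 1)
    (htz : t * z = z * t) (htQ : t ∉ Q) : Nat.card ↥(Q ⊓ Subgroup.centralizer ({t} : Set G)) = 4 := by
  rcases h.yy with hy | hy
  · obtain ⟨c, hc, rfl⟩ := exists_outer_conj h hy ht htz htQ
    have h4 : Nat.card ↥(Q ⊓ Subgroup.centralizer ({y} : Set G)) = 4 :=
      CType.card_four h.toPlus (y_z h) hy (Or.inr h.y_act.i) (Or.inr h.y_act.k)
    rw [← h4]
    symm
    refine Nat.card_congr (Equiv.ofBijective (fun q : ↥(Q ⊓ Subgroup.centralizer ({y} : Set G)) =>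
      (⟨c * q.1 * c⁻¹, h.large.conj_mem c hc _ q.2.1, ?_⟩ :
        ↥(Q ⊓ Subgroup.centralizer ({c * y * c⁻¹} : Set G)))) ⟨?_, ?_⟩)
    · have hq := Subgroup.mem_centralizer_singleton_iff.1 q.2.2
      apply Subgroup.mem_centralizer_singleton_iff.2
      calc c * q.1 * c⁻¹ * (c * y * c⁻¹) = c * (q.1 * y) * c⁻¹ := by group
        _ = _ := by rw [hq]; group
    · intro q q' hqq
      have h1 : c * q.1 * c⁻¹ = c * q'.1 * c⁻¹ := congrArg Subtype.val hqq
      exact Subtype.ext (mul_left_cancel (mul_right_cancel h1))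
    · rintro ⟨q, hq, hqc⟩
      have hcz : c⁻¹ * z = z * c⁻¹ := by
        calc c⁻¹ * z = c⁻¹ * (z * c) * c⁻¹ := by group
          _ = z * c⁻¹ := by rw [← hc]; group
      have h1 : c⁻¹ * q * c ∈ Q := by
        have := h.large.conj_mem c⁻¹ hcz q hq
        rwa [inv_inv] at this
      have h2 : c⁻¹ * q * c ∈ Subgroup.centralizer ({y} : Set G) := by
        apply Subgroup.mem_centralizer_singleton_iff.2
        have h3 : q * (c * y * c⁻¹) = c * y * c⁻¹ * q := Subgroup.mem_centralizer_singleton_iff.1 hqc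
        calc c⁻¹ * q * c * y = c⁻¹ * (q * (c * y * c⁻¹)) * c := by group
          _ = _ := by rw [h3]; group
      refine ⟨⟨c⁻¹ * q * c, h1, h2⟩, Subtype.ext ?_⟩
      show c * (c⁻¹ * q * c) * c⁻¹ = q
      group
  · exfalso
    have hT : Twist (z := z) (y := y) true := by simpa [Twist] using hy
    obtain ⟨u, rfl⟩ := exists_code h htz
    have h1 := dec_twist u (code_sq h hT ht)
    apply htQ
    rw [h1, toG_kq]
    exact hom_mem _ _

variable [Finite G] [IsSimpleGroup G]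

/-- Case II holds. -/
theorem exists_pair (h : Case9c Q z i j k l x₁ x₂ y) : ∃ (A : Subgroup G) (a : G), Pair Q z A a := by
  by_cases hI : ∀ g : G, g * z * g⁻¹ ∈ Q → g * z * g⁻¹ = z
  · exfalso
    refine case_one_dead (noncomm h) h.large h.card hI fun g hg hgQ => ?_
    exact card_outer h (conj_sq h.large.z_sq) hg hgQ
  · push Not at hI
    obtain ⟨g, hg1, hg2⟩ := hI
    exact ⟨_, _, Base.pair_of_conj h.large hg1 hg2⟩

/-- `y ^ 2 = 1` -/
theorem yy_one (h : Case9c Q z i j k l x₁ x₂ y) : y * y = 1 := by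
  rcases h.yy with hy | hy
  · exact hy
  · exfalso
    obtain ⟨A, a, p⟩ := exists_pair h
    obtain ⟨t, -, ht, htz, htQ⟩ := outer_of_pair h p
    have hT : Twist (z := z) (y := y) true := by simpa [Twist] using hy
    obtain ⟨u, rfl⟩ := exists_code h htz
    have h1 := dec_twist u (code_sq h hT ht)
    apply htQ
    rw [h1, toG_kq]
    exact hom_mem _ _

/-- `z` is conjugate to `y` and to `d` -/
theorem exists_conj (h : Case9c Q z i j k l x₁ x₂ y) :
    (∃ g, g * z * g⁻¹ = y) ∧ ∃ g, g * z * g⁻¹ = i * j * (k * l) := by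
  have hy := yy_one h
  obtain ⟨A, a, p⟩ := exists_pair h
  obtain ⟨t, htA, ht, htz, htQ⟩ := outer_of_pair h p
  obtain ⟨g, g1, g2, g3, -⟩ := p.isConj
  obtain ⟨c, hc, hct⟩ := exists_outer_conj h hy ht htz htQ
  have ha2 : a * a = 1 := by
    rw [← g1]; exact conj_sq h.large.z_sq
  have ha1 : a ≠ 1 := p.la.z_ne
  obtain ⟨e, he, hed⟩ := exists_conj_d h hy ha2 p.a_mem ha1 p.ne
  -- `z ~ a ~ d`
  have hd : e⁻¹ * g * z * (e⁻¹ * g)⁻¹ = i * j * (k * l) := by
    calc e⁻¹ * g * z * (e⁻¹ * g)⁻¹ = e⁻¹ * (g * z * g⁻¹) * e := by group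
      _ = e⁻¹ * (e * (i * j * (k * l)) * e⁻¹) * e := by rw [g1, hed]
      _ = _ := by group
  refine ⟨?_, _, hd⟩
  -- `t ~ d`
  rw [g3] at htA
  obtain ⟨s, hs, hst⟩ := htA
  have hst' : g * s * g⁻¹ = t := hst
  have hs2 : s * s = 1 := by
    have : s = g⁻¹ * t * g⁻¹⁻¹ := by rw [← hst']; group
    rw [this]; exact conj_sq ht
  have ht1 : t ≠ 1 := by
    rintro rfl
    exact htQ Q.one_mem
  have hs1 : s ≠ 1 := by
    rintro rfl
    apply ht1
    rw [← hst']; group
  have hsz : s ≠ z := by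
    rintro rfl
    apply htQ
    rw [← hst', g1]
    exact p.a_mem
  obtain ⟨f, hf, hfd⟩ := exists_conj_d h hy hs2 hs hs1 hsz
  refine ⟨c⁻¹ * g * f * (e⁻¹ * g), ?_⟩
  calc c⁻¹ * g * f * (e⁻¹ * g) * z * (c⁻¹ * g * f * (e⁻¹ * g))⁻¹
      = c⁻¹ * (g * (f * (e⁻¹ * g * z * (e⁻¹ * g)⁻¹) * f⁻¹) * g⁻¹) * c := by group
    _ = c⁻¹ * t * c := by rw [hd, hfd, hst']
    _ = y := by rw [← hct]; group

/-- every involution commuting with `z` is conjugate to `z` -/
theorem one_class (h : Case9c Q z i j k l x₁ x₂ y) {t : G} (ht : t * t = 1) (ht1 : t ≠ 1)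
    (htz : t * z = z * t) : ∃ g, g * z * g⁻¹ = t := by
  have hy := yy_one h
  obtain ⟨⟨g1, hg1⟩, g2, hg2⟩ := exists_conj h
  by_cases htQ : t ∈ Q
  · by_cases htz' : t = z
    · exact ⟨1, by rw [htz']; group⟩
    · obtain ⟨c, -, hc⟩ := exists_conj_d h hy ht htQ ht1 htz'
      refine ⟨c * g2, ?_⟩
      rw [← hc, ← hg2]; group
  · obtain ⟨c, -, hc⟩ := exists_outer_conj h hy ht htz htQ
    refine ⟨c * g1, ?_⟩
    rw [← hc, ← hg1]; group

end

end Cfsg.Agent.GTwoThree.Fusion
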