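import Cfsg.Agent.GTwoThree.Pre

/-!
# Killing the wrong patterns
-/

set_option autoImplicit false
set_option linter.unusedSectionVars false

namespace Cfsg.Agent.GTwoThree.Pre

section Gen

variable {J : Type*} [Group J]

/-- commutators of `z`-inverted elements of `C(x)` of order three lie in `⟨x⟩` -/
def O2 (z x : J) : Prop := ∀ g h : J, Commute g x → Commute h x → cj z g = g⁻¹ → cj z h = h⁻¹ →
  g ^ 3 = 1 → h ^ 3 = 1 → g * h * g⁻¹ * h⁻¹ ∈ Subgroup.zpowers x

theorem O2.cj {z x : J} (w : J) (h : O2 z x) : O2 (cj w z) (cj w x) := by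
  intro g k hg hk zg zk g3 k3
  have e : ∀ y : J, Pre.cj w (Pre.cj w⁻¹ y) = y := by intro y; unfold Pre.cj; group
  have e' : ∀ y : J, Pre.cj w⁻¹ (Pre.cj w y) = y := by intro y; unfold Pre.cj; group
  have cm : ∀ y : J, Commute y (Pre.cj w x) → Commute (Pre.cj w⁻¹ y) x := by
    intro y hy
    have := cj_comm w⁻¹ hy
    rwa [e'] at this
  have iv : ∀ y : J, Pre.cj (Pre.cj w z) y = y⁻¹ → Pre.cj z (Pre.cj w⁻¹ y) = (Pre.cj w⁻¹ y)⁻¹ := by
    intro y hy
    have := congrArg (Pre.cj w⁻¹) hy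
    rw [cj_inv] at this
    rw [← this]; unfold Pre.cj; group
  have := h (Pre.cj w⁻¹ g) (Pre.cj w⁻¹ k) (cm g hg) (cm k hk) (iv g zg) (iv k zk)
    (by rw [cj_pow, g3, cj_one]) (by rw [cj_pow, k3, cj_one])
  obtain ⟨n, hn⟩ := this
  refine ⟨n, ?_⟩
  have hn' : x ^ n = Pre.cj w⁻¹ g * Pre.cj w⁻¹ k * (Pre.cj w⁻¹ g)⁻¹ * (Pre.cj w⁻¹ k)⁻¹ := hn
  show (Pre.cj w x) ^ n = g * k * g⁻¹ * k⁻¹
  rw [cj_zpow, hn']
  unfold Pre.cj; group

/-- elements of `⟨x, y, w⟩` -/
theorem exists_xyw {x y w : J} (xy : Commute x y) (xw : Commute x w) (yw : Commute y w) {v : J}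
    (hv : v ∈ Subgroup.closure {x, y, w}) : ∃ i j k : ℤ, v = x ^ i * y ^ j * w ^ k := by
  induction hv using Subgroup.closure_induction with
  | mem v hv =>
    rcases hv with rfl | rfl | rfl
    · exact ⟨1, 0, 0, by simp⟩
    · exact ⟨0, 1, 0, by simp⟩
    · exact ⟨0, 0, 1, by simp⟩
  | one => exact ⟨0, 0, 0, by simp⟩
  | mul u v _ _ hu hv =>
    obtain ⟨i, j, k, rfl⟩ := hu
    obtain ⟨i', j', k', rfl⟩ := hv
    refine ⟨i + i', j + j', k + k', ?_⟩
    have c1 := (xw.zpow_zpow i' k).eq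
    have c2 := (yw.zpow_zpow j' k).eq
    have c3 := (xy.zpow_zpow i' j).eq
    rw [zpow_add, zpow_add, zpow_add]
    calc x ^ i * y ^ j * w ^ k * (x ^ i' * y ^ j' * w ^ k')
        = x ^ i * y ^ j * (w ^ k * x ^ i') * y ^ j' * w ^ k' := by simp only [mul_assoc]
      _ = x ^ i * (y ^ j * x ^ i') * (w ^ k * y ^ j') * w ^ k' := by rw [← c1]; simp only [mul_assoc]
      _ = _ := by rw [← c2, ← c3]; simp only [mul_assoc]
  | inv u _ hu =>
    obtain ⟨i, j, k, rfl⟩ := hu
    refine ⟨-i, -j, -k, ?_⟩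
    have c1 := (xw.zpow_zpow (-i) (-k)).eq
    have c2 := (yw.zpow_zpow (-j) (-k)).eq
    have c3 := (xy.zpow_zpow (-i) (-j)).eq
    simp only [mul_inv_rev, ← zpow_neg]
    rw [← mul_assoc, ← c2, mul_assoc, ← c1, ← mul_assoc, ← c3]

/-- an element of `⟨x, y, w⟩` centralised by `u`, which inverts `x, y` and centralises `w` -/
theorem mem_of_fixed {x y w u : J} (x3 : x ^ 3 = 1) (y3 : y ^ 3 = 1) (xy : Commute x y) (xw : Commute x w)
    (yw : Commute y w) (ux : cj u x = x⁻¹) (uy : cj u y = y⁻¹) (uw : cj u w = w) {v : J}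
    (hv : v ∈ Subgroup.closure {x, y, w}) (uv : cj u v = v) : v ∈ Subgroup.zpowers w := by
  obtain ⟨i, j, k, rfl⟩ := exists_xyw xy xw yw hv
  rw [cj_mul, cj_mul, ← cj_zpow, ← cj_zpow, ← cj_zpow, ux, uy, uw] at uv
  have h1 := mul_right_cancel uv
  have c := (xy.zpow_zpow i j)
  have h2 : x ^ i * y ^ j * (x ^ i * y ^ j) = 1 := by
    nth_rewrite 1 [← h1]
    rw [inv_zpow, inv_zpow, c.eq]
    rw [← mul_inv_rev, inv_mul_cancel]
  have h3 : (x ^ i * y ^ j) ^ 3 = 1 := by
    rw [c.mul_pow, ← zpow_natCast, ← zpow_natCast, ← zpow_mul, ← zpow_mul, mul_comm i, mul_comm j, zpow_mul, zpow_mul,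
      zpow_natCast, zpow_natCast, x3, y3, one_zpow, one_zpow, mul_one]
  have h4 : x ^ i * y ^ j = 1 := by
    rw [pow_succ, pow_two, h2, one_mul] at h3
    exact h3
  rw [h4, one_mul]
  exact Subgroup.zpow_mem _ (Subgroup.mem_zpowers w) k

/-- conjugation maps the closure into itself -/
theorem cj_mem_closure {m : J} {S : Set J} (h : ∀ x ∈ S, cj m x ∈ Subgroup.closure S) {v : J}
    (hv : v ∈ Subgroup.closure S) : cj m v ∈ Subgroup.closure S := by
  induction hv using Subgroup.closure_induction with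
  | mem v hv => exact h v hv
  | one => rw [cj_one]; exact Subgroup.one_mem _
  | mul u v _ _ hu hv => rw [cj_mul]; exact Subgroup.mul_mem _ hu hv
  | inv u _ hu => rw [cj_inv]; exact Subgroup.inv_mem _ hu

/-- `u w = w v` -/
theorem cj_of_eq {u w v x : J} (e : u * w = w * v) : cj u (cj w x) = cj w (cj v x) := by
  rw [cj_cj, e, cj_cj]

theorem cj_inv_of {u w v x : J} (e : u * w = w * v) (hx : cj v x = x⁻¹) : cj u (cj w x) = (cj w x)⁻¹ := by
  rw [cj_of_eq e, hx, cj_inv]

theorem cj_fix_of {u w v x : J} (e : u * w = w * v) (hx : cj v x = x) : cj u (cj w x) = cj w x := by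
  rw [cj_of_eq e, hx]

theorem mem_zpow_of_cube {x : J} (h3 : x ^ 3 = 1) {n : ℤ} (h1 : x ^ n ≠ 1) : x ∈ Subgroup.zpowers (x ^ n) := by
  have key : x ^ n = x ^ (n % 3) := by
    conv_lhs => rw [← Int.emod_add_mul_ediv n 3, zpow_add, zpow_mul]
    have : x ^ (3 : ℤ) = 1 := by exact_mod_cast h3
    rw [this, one_zpow, mul_one]
  have hlt := Int.emod_lt_of_pos n (show (0 : ℤ) < 3 by norm_num)
  have hge := Int.emod_nonneg n (show (3 : ℤ) ≠ 0 by norm_num)
  have hc : n % 3 = 0 ∨ n % 3 = 1 ∨ n % 3 = 2 := by omega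
  rw [key] at h1 ⊢
  rcases hc with hc | hc | hc
  · rw [hc, zpow_zero] at h1; exact absurd rfl h1
  · rw [hc, zpow_one]; exact Subgroup.mem_zpowers x
  · rw [hc]
    refine ⟨2, ?_⟩
    show (x ^ (2 : ℤ)) ^ (2 : ℤ) = x
    rw [← zpow_mul]
    have : x ^ (2 * 2 : ℤ) = x ^ 3 * x := by
      rw [← pow_succ]; norm_num
    rw [this, h3, one_mul]

end Gen

variable {J : Type*} [Group J] {a b c d r t : J} (h : Pre a b c d r t)

include h

theorem a_not_mem (hz : b * b ≠ 1) : a ∉ Subgroup.zpowers c := by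
  rintro ⟨n, hn⟩
  have hn' : c ^ n = a := hn
  have h1 : Commute b a := by
    rw [← hn']; exact (show Commute b c from h.bc).zpow_right n
  have h2 := h.b_eq
  rw [cj_fix h1] at h2
  have h3 : b = 1 := by
    rw [h2]
    have := h.a3
    simpa [pow_succ, mul_assoc] using this
  apply hz
  rw [h3, mul_one]

/-! conjugating words -/

theorem ee : b * d * (b * d) = 1 := by
  calc b * d * (b * d) = b * (d * b) * d := by simp only [mul_assoc]
    _ = b * b * (d * d) := by rw [← h.bd]; simp only [mul_assoc]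
    _ = 1 := by rw [← h.bd2]; exact h.b4'

theorem cj_e_a : cj (b * d) a = cj b a := by
  rw [← cj_cj, cj_fix (show Commute d a from h.ad.symm)]

theorem cj_e_c : cj (b * d) c = cj d c := by
  rw [h.bd, ← cj_cj, cj_fix (show Commute b c from h.bc)]

theorem binv_e : b⁻¹ * (b * d) = d := by group

/-- `b⁻¹ t e = d t` -/
theorem bte : b⁻¹ * t * (b * d) = d * t := by
  rw [mul_assoc, h.te, ← mul_assoc, h.binv_e]

theorem cj_t_z : cj t (b * b) = r := by unfold cj; rw [h.tinv]; exact h.tz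

/-- `d r = r z d`... as conjugation: `d r d⁻¹ = z r` -/
theorem cj_d_r : cj d r = b * b * r := by
  unfold cj
  have h1 : d * r = r * d⁻¹ := by
    have := h.rd
    calc d * r = r * (r * d * r) := by rw [← mul_assoc, ← mul_assoc, h.rr, one_mul]
      _ = r * d⁻¹ := by rw [this]
  have h2 : d⁻¹ * d⁻¹ = b * b := by rw [← mul_inv_rev, ← h.bd2, h.zinv]
  rw [h1, mul_assoc, h2, h.rz.eq]

theorem cj_b_r : cj b r = b * b * r := by
  unfold cj
  have h1 : b * r = r * b⁻¹ := by
    have := h.rb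
    calc b * r = r * (r * b * r) := by rw [← mul_assoc, ← mul_assoc, h.rr, one_mul]
      _ = r * b⁻¹ := by rw [this]
  have h2 : b⁻¹ * b⁻¹ = b * b := by rw [← mul_inv_rev, h.zinv]
  rw [h1, mul_assoc, h2, h.rz.eq]

theorem cj_dt_z : cj (d * t) (b * b) = b * b * r := by
  rw [← cj_cj, h.cj_t_z, h.cj_d_r]

theorem cj_zr {x : J} (h1 : cj (b * b) x = x) (h2 : cj r x = x⁻¹) : cj (b * b * r) x = x⁻¹ := by
  rw [← cj_cj, h2, cj_inv, h1]

/-- `r (d t) = (d t) (z r)` -/
theorem r_dt : r * (d * t) = d * t * (b * b * r) := by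
  have h1 := h.cj_d_r
  -- `d r d⁻¹ = z r`, so `r d = d ⋯`
  have h2 : cj (d * t) (b * b * r) = r := by
    rw [cj_mul, h.cj_dt_z, ← cj_cj]
    have : cj t r = b * b := by
      rw [← h.cj_t_z, cj_cj, h.tt]; unfold cj; group
    rw [this, cj_fix h.dz.symm]
    calc b * b * r * (b * b) = b * b * (b * b * r) := by rw [mul_assoc, h.rz.eq]
      _ = r := by rw [← mul_assoc, h.b4', one_mul]
  unfold cj at h2
  nth_rewrite 1 [← h2]
  group

theorem T3 : (cj t c) ^ 3 = 1 := by rw [cj_pow, h.c3, cj_one]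

theorem A3 (w : J) : (cj w a) ^ 3 = 1 := by rw [cj_pow, h.a3, cj_one]

theorem C3 (w : J) : (cj w c) ^ 3 = 1 := by rw [cj_pow, h.c3, cj_one]

theorem r_A60 : cj r (cj (d * t) a) = (cj (d * t) a)⁻¹ :=
  cj_inv_of h.r_dt (h.cj_zr h.cj_za h.cj_ra)

theorem r_T : cj r (cj t c) = cj t c :=
  cj_fix_of (show r * t = t * (b * b) from h.tz'.symm) h.cj_zc

theorem z_T : cj (b * b) (cj t c) = (cj t c)⁻¹ :=
  cj_inv_of (show b * b * t = t * r from h.tr'.symm) h.cj_rc

theorem zr_T : cj (b * b * r) (cj t c) = (cj t c)⁻¹ := by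
  rw [← cj_cj, h.r_T, h.z_T]

/-- (F1) -/
theorem F1 (k3 : Commute a (cj t c)) : Commute (cj (d * t) a) (cj t c) := by
  have h1 := cj_comm (d * t * d) k3
  have e1 : cj (d * t * d) a = cj (d * t) a := by
    rw [← cj_cj, cj_fix (show Commute d a from h.ad.symm)]
  have e2 : cj (d * t * d) (cj t c) = cj t c := by
    rw [h.dtd, cj_cj, mul_assoc, h.tt, mul_one, ← cj_cj, cj_fix (show Commute b c from h.bc)]
  rwa [e1, e2] at h1

/-- (F2) -/
theorem F2 (k3 : Commute a (cj t c)) : Commute (cj (d * t) a) (cj d c) := by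
  have h1 := cj_comm (d * t) k3
  have e2 : cj (d * t) (cj t c) = cj d c := by
    rw [cj_cj, mul_assoc, h.tt, mul_one]
  rwa [e2] at h1

theorem a_c' : Commute a (cj d c) := by
  have := cj_comm d (show Commute a c from h.ac)
  rwa [cj_fix (show Commute d a from h.ad.symm)] at this

theorem r_c' : cj r (cj d c) = (cj d c)⁻¹ := by
  have e : r * d = d * (b * b * r) := by
    have h2 : cj d (b * b * r) = r := by
      rw [cj_mul, cj_fix h.dz.symm, h.cj_d_r, ← mul_assoc, h.b4', one_mul]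
    unfold cj at h2
    nth_rewrite 1 [← h2]; group
  exact cj_inv_of e (h.cj_zr h.cj_zc h.cj_rc)

theorem z_c' : cj (b * b) (cj d c) = cj d c :=
  cj_fix_of h.dz.eq h.cj_zc

theorem zr_c' : cj (b * b * r) (cj d c) = (cj d c)⁻¹ := h.cj_zr h.z_c' h.r_c'

theorem zr_a' : cj (b * b * r) (cj b a) = (cj b a)⁻¹ := by
  refine h.cj_zr (cj_fix_of h.bz.eq h.cj_za) ?_
  have e : r * b = b * (b * b * r) := by
    have h2 : cj b (b * b * r) = r := by
      rw [cj_mul, cj_fix h.bz.symm, h.cj_b_r, ← mul_assoc, h.b4', one_mul]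
    unfold cj at h2
    nth_rewrite 1 [← h2]; group
  exact cj_inv_of e (h.cj_zr h.cj_za h.cj_ra)

/-- the `O2` conditions used -/
theorem O2_T (o : O2 (b * b) c) : O2 r (cj t c) := by
  have := o.cj t
  rwa [h.cj_t_z] at this

theorem O2_A60 (o : O2 (b * b) a) : O2 (b * b * r) (cj (d * t) a) := by
  have := o.cj (d * t)
  rwa [h.cj_dt_z] at this

theorem mul_of_comm {x y : J} {S : Subgroup J} (hy : y ∈ S) (hxy : x * y * x⁻¹ * y⁻¹ ∈ S) : cj x y ∈ S := by
  have : cj x y = x * y * x⁻¹ * y⁻¹ * y := by unfold cj; group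
  rw [this]
  exact S.mul_mem hxy hy

/-- Kill `[a, a^t] = [c, c^t] = 1` (with `[a, c^t] = 1`). -/
theorem kill3 (hz : b * b ≠ 1) (oa : O2 (b * b) a) (oc : O2 (b * b) c) (k3 : Commute a (cj t c))
    (k1 : Commute a (cj t a)) (k2 : Commute c (cj t c)) : False := by
  set A := cj (d * t) a with hA
  set T := cj t c with hT
  set C' := cj d c with hC'
  have f1 : Commute A T := h.F1 k3
  have f2 : Commute A C' := h.F2 k3
  have aA : Commute a A := by
    have := cj_comm d k1
    rwa [cj_fix (show Commute d a from h.ad.symm), cj_cj] at this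
  have cA : c * A * c⁻¹ * A⁻¹ ∈ Subgroup.zpowers T :=
    h.O2_T oc c A k2 f1 h.cj_rc h.r_A60 h.c3 (h.A3 _)
  have c'T : C' * T * C'⁻¹ * T⁻¹ ∈ Subgroup.zpowers A :=
    h.O2_A60 oa C' T f2.symm f1.symm h.zr_c' h.zr_T (h.C3 _) (h.C3 _)
  set S : Set J := {a, A, T} with hS
  have ma : a ∈ Subgroup.closure S := Subgroup.subset_closure (by simp [hS])
  have mA : A ∈ Subgroup.closure S := Subgroup.subset_closure (by simp [hS])
  have mT : T ∈ Subgroup.closure S := Subgroup.subset_closure (by simp [hS])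
  have hTle : Subgroup.zpowers T ≤ Subgroup.closure S := by rwa [Subgroup.zpowers_le]
  have hAle : Subgroup.zpowers A ≤ Subgroup.closure S := by rwa [Subgroup.zpowers_le]
  have hc : ∀ v ∈ Subgroup.closure S, cj c v ∈ Subgroup.closure S := by
    intro v hv
    apply cj_mem_closure _ hv
    intro x hx
    rcases hx with rfl | rfl | rfl
    · rw [cj_fix (show Commute c x from h.ac.symm)]; exact ma
    · exact h.mul_of_comm mA (hTle cA)
    · rw [cj_fix k2]; exact mT
  have hc' : ∀ v ∈ Subgroup.closure S, cj C' v ∈ Subgroup.closure S := by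
    intro v hv
    apply cj_mem_closure _ hv
    intro x hx
    rcases hx with rfl | rfl | rfl
    · rw [cj_fix h.a_c'.symm]; exact ma
    · rw [cj_fix f2.symm]; exact mA
    · exact h.mul_of_comm mT (hAle c'T)
  have hd : cj d A ∈ Subgroup.closure S := by
    have e := h.d_eq
    rw [e, ← cj_cj, ← cj_cj]
    exact hc _ (hc' _ (hc _ mA))
  have hd2 : cj d A = (cj t a)⁻¹ := by
    rw [hA, cj_cj, ← mul_assoc, ← h.bd2, ← h.tr', ← cj_cj, h.cj_ra, cj_inv]
  rw [hd2] at hd
  have hta := Subgroup.inv_mem _ hd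
  rw [inv_inv] at hta
  have hf : cj r (cj t a) = cj t a :=
    cj_fix_of (show r * t = t * (b * b) from h.tz'.symm) h.cj_za
  have hm := mem_of_fixed h.a3 (h.A3 _) aA k3 f1 h.cj_ra h.r_A60 h.r_T hta hf
  obtain ⟨n, hn⟩ := hm
  have hn' : (cj t c) ^ n = cj t a := hn
  rw [cj_zpow] at hn'
  exact h.a_not_mem hz ⟨n, cj_inj hn'⟩

/-- Kill `[a, a^{te}] = [c, c^{te}] = 1` (with `[a, c^t] = 1`). -/
theorem kill2 (hz : b * b ≠ 1) (oa : O2 (b * b) a) (oc : O2 (b * b) c) (k3 : Commute a (cj t c))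
    (k1 : Commute a (cj (t * (b * d)) a)) (k2 : Commute c (cj (t * (b * d)) c)) : False := by
  set A := cj (d * t) a with hA
  set T := cj t c with hT
  set C' := cj d c with hC'
  set A' := cj b a with hA'
  have f1 : Commute A T := h.F1 k3
  have f2 : Commute A C' := h.F2 k3
  have cT : Commute C' T := by
    have := cj_comm (b * d) k2
    rw [h.cj_e_c, cj_cj, ← mul_assoc, ← h.te, mul_assoc, h.ee, mul_one] at this
    exact this
  have aA' : Commute A' A := by
    have h1 := cj_comm b⁻¹ k1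
    have e1 : cj b⁻¹ a = A' := by
      have : b⁻¹ = b * (b * b) := by rw [h.binv, mul_assoc]
      rw [this, ← cj_cj, h.cj_za]
    have e2 : cj b⁻¹ (cj (t * (b * d)) a) = A := by
      rw [cj_cj, ← mul_assoc, h.bte]
    rwa [e1, e2] at h1
  have a'c' : Commute A' C' := by
    have h1 := cj_comm b h.a_c'
    have e1 : cj b (cj d c) = cj d c := by
      rw [cj_cj, h.cj_e_c]
    rwa [e1] at h1
  have aA : a * A * a⁻¹ * A⁻¹ ∈ Subgroup.zpowers T :=
    h.O2_T oc a A k3 f1 h.cj_ra h.r_A60 h.a3 (h.A3 _)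
  have a'T : A' * T * A'⁻¹ * T⁻¹ ∈ Subgroup.zpowers A :=
    h.O2_A60 oa A' T aA' f1.symm h.zr_a' h.zr_T (h.A3 _) (h.C3 _)
  set S : Set J := {C', T, A} with hS
  have mC : C' ∈ Subgroup.closure S := Subgroup.subset_closure (by simp [hS])
  have mA : A ∈ Subgroup.closure S := Subgroup.subset_closure (by simp [hS])
  have mT : T ∈ Subgroup.closure S := Subgroup.subset_closure (by simp [hS])
  have hTle : Subgroup.zpowers T ≤ Subgroup.closure S := by rwa [Subgroup.zpowers_le]
  have hAle : Subgroup.zpowers A ≤ Subgroup.closure S := by rwa [Subgroup.zpowers_le]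
  have ha : ∀ v ∈ Subgroup.closure S, cj a v ∈ Subgroup.closure S := by
    intro v hv
    apply cj_mem_closure _ hv
    intro x hx
    rcases hx with rfl | rfl | rfl
    · rw [cj_fix h.a_c']; exact mC
    · rw [cj_fix k3]; exact mT
    · exact h.mul_of_comm mA (hTle aA)
  have ha' : ∀ v ∈ Subgroup.closure S, cj A' v ∈ Subgroup.closure S := by
    intro v hv
    apply cj_mem_closure _ hv
    intro x hx
    rcases hx with rfl | rfl | rfl
    · rw [cj_fix a'c']; exact mC
    · exact h.mul_of_comm mT (hAle a'T)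
    · rw [cj_fix aA']; exact mA
  have hb : cj b T ∈ Subgroup.closure S := by
    have e := h.b_eq
    rw [e, ← cj_cj, ← cj_cj]
    exact ha _ (ha' _ (ha _ mT))
  have hbT : cj b T = cj (b * t) c := by rw [hT, cj_cj]
  have hu : b * b * r * (b * t) = b * t * (b * b) := by
    have h2 : cj (b * t) (b * b) = b * b * r := by
      rw [← cj_cj, h.cj_t_z, h.cj_b_r]
    rw [← h2]; unfold cj; group
  have hf : cj (b * b * r) (cj b T) = cj b T := by
    rw [hbT]
    exact cj_fix_of hu h.cj_zc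
  have hfA : cj (b * b * r) A = A := by
    have hu : b * b * r * (d * t) = d * t * (b * b) := by
      rw [← h.cj_dt_z]; unfold cj; group
    exact cj_fix_of hu h.cj_za
  have hm := mem_of_fixed (h.C3 _) (h.C3 _) cT f2.symm f1.symm h.zr_c' h.zr_T hfA hb hf
  obtain ⟨n, hn⟩ := hm
  have hn' : A ^ n = cj b T := hn
  rw [hbT] at hn'
  -- conjugate by `(b t)⁻¹`
  have h3 := congrArg (cj (b * t)⁻¹) hn'
  rw [cj_cj, inv_mul_cancel, ← cj_zpow, hA, cj_cj] at h3
  have e1 : (b * t)⁻¹ * (d * t) = r * (b * d) := by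
    have e0 : b⁻¹ * d = b * b * (b * d) := by
      rw [h.binv]; simp only [mul_assoc]
    calc (b * t)⁻¹ * (d * t) = t⁻¹ * (b⁻¹ * d) * t := by group
      _ = t * (b * b) * ((b * d) * t) := by rw [e0, h.tinv]; simp only [mul_assoc]
      _ = r * (t * (t * (b * d))) := by rw [h.tz', ← h.te]; simp only [mul_assoc]
      _ = r * (b * d) := by rw [← mul_assoc t t, h.tt, one_mul]
  have e2 : cj (r * (b * d)) a = (cj b a)⁻¹ := by
    rw [← cj_cj, h.cj_e_a]
    have e : r * b = b * (b * b * r) := by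
      have h2 : cj b (b * b * r) = r := by
        rw [cj_mul, cj_fix h.bz.symm, h.cj_b_r, ← mul_assoc, h.b4', one_mul]
      unfold cj at h2
      nth_rewrite 1 [← h2]; group
    exact cj_inv_of e (h.cj_zr h.cj_za h.cj_ra)
  rw [e1, e2] at h3
  have e3 : cj 1 c = c := by unfold cj; group
  rw [e3] at h3
  apply h.c_not_mem' hz
  rw [← h3]
  exact Subgroup.zpow_mem _ (Subgroup.inv_mem _ (Subgroup.mem_zpowers _)) n

/-- Kill `[a, a^{te}] = [c, c^t] = 1` (with `[a, c^t] = 1`). -/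
theorem kill1 (hz : b * b ≠ 1) (ha1 : a ≠ 1) (oa : O2 (b * b) a) (oc : O2 (b * b) c) (k3 : Commute a (cj t c))
    (k1 : Commute a (cj (t * (b * d)) a)) (k2 : Commute c (cj t c)) : False := by
  set L := cj (t * (b * d)) a with hL
  set T := cj t c with hT
  set C := cj (b⁻¹ * t) c with hC
  have hL' : L = cj (t * b) a := by rw [hL, ← cj_cj, h.cj_e_a, cj_cj]
  have hbtb : b⁻¹ * t * b⁻¹ = t * b * t := by
    have := congrArg (·⁻¹) h.btb
    simp only [mul_inv_rev, h.tinv, inv_inv] at this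
    simpa [mul_assoc] using this
  have hC' : cj (t * b) T = C := by
    rw [hT, cj_cj, ← hbtb, ← cj_cj, cj_fix (show Commute b⁻¹ c from (show Commute b c from h.bc).inv_left)]
  have cL : Commute C L := by
    have := cj_comm (t * b) k3
    rw [← hL', hC'] at this
    exact this.symm
  have cT : Commute C T := by
    have h1 := cj_comm (t * b) k2
    have e1 : cj (t * b) c = T := by rw [← cj_cj, cj_fix (show Commute b c from h.bc)]
    rw [e1, hC'] at h1
    exact h1.symm
  have rC : cj r C = C⁻¹ := by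
    have e : r * (b⁻¹ * t) = b⁻¹ * t * (b * b * r) := by
      have h2 : cj (b⁻¹ * t) (b * b * r) = r := by
        have e1 : cj t r = b * b := by
          rw [← h.cj_t_z, cj_cj, h.tt]; unfold cj; group
        have e2 : cj b⁻¹ r = b * b * r := by
          have : b⁻¹ = b * (b * b) := by rw [h.binv, mul_assoc]
          rw [this, ← cj_cj, cj_fix h.rz, h.cj_b_r]
        rw [cj_mul, ← cj_cj, ← cj_cj, h.cj_t_z, e1, e2, cj_fix h.bz.symm.inv_left]
        calc b * b * r * (b * b) = b * b * (b * b * r) := by rw [mul_assoc, h.rz.eq]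
          _ = r := by rw [← mul_assoc, h.b4', one_mul]
      unfold cj at h2
      nth_rewrite 1 [← h2]; group
    exact cj_inv_of e (h.cj_zr h.cj_zc h.cj_rc)
  have oL : O2 r L := by
    have := oa.cj (t * (b * d))
    have e : cj (t * (b * d)) (b * b) = r := by
      have e0 : cj (b * d) (b * b) = b * b := cj_fix (h.bz.mul_right h.dz).symm
      rw [← cj_cj, e0, h.cj_t_z]
    rwa [e] at this
  have m1 : a * C * a⁻¹ * C⁻¹ ∈ Subgroup.zpowers L := oL a C k1 cL h.cj_ra rC h.a3 (h.C3 _)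
  have m2 : a * C * a⁻¹ * C⁻¹ ∈ Subgroup.zpowers T := h.O2_T oc a C k3 cT h.cj_ra rC h.a3 (h.C3 _)
  have m0 : a * C * a⁻¹ * C⁻¹ = 1 := by
    obtain ⟨m, hm⟩ := m1
    obtain ⟨n, hn⟩ := m2
    have hm' : L ^ m = a * C * a⁻¹ * C⁻¹ := hm
    have hn' : T ^ n = a * C * a⁻¹ * C⁻¹ := hn
    rw [← hm', hL', ← cj_cj, hT, cj_zpow, cj_zpow] at hn'
    have h3 := cj_inj hn'
    by_cases hc : c ^ n = 1
    · rw [← hn, ]
      show T ^ n = 1
      rw [hT, cj_zpow, hc, cj_one]
    · exfalso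
      apply h.c_not_mem' hz
      have h4 := mem_zpow_of_cube h.c3 hc
      rw [h3] at h4
      have h5 : Subgroup.zpowers (cj b a ^ m) ≤ Subgroup.zpowers (cj b a) := by
        rw [Subgroup.zpowers_le]
        exact Subgroup.zpow_mem _ (Subgroup.mem_zpowers _) m
      exact h5 h4
  have aC : Commute a C := by
    show a * C = C * a
    rw [mul_inv_eq_one, mul_inv_eq_iff_eq_mul] at m0
    exact m0
  have aD : Commute a (cj (d * t) c) := by
    have := cj_comm d k3
    rwa [cj_fix (show Commute d a from h.ad.symm), cj_cj] at this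
  have e1 : cj (b⁻¹ * t) d = C * cj (d * t) c * C := by
    conv_lhs => rw [h.d_eq]
    rw [cj_mul, cj_mul, ← h.cj_e_c, cj_cj, h.bte]
  have a1 : Commute a (cj (b⁻¹ * t) d) := by
    rw [e1]; exact (aC.mul_right aD).mul_right aC
  have a2 : Commute a (b * b * r) := by
    have h2 := a1.mul_right a1
    rw [← cj_mul, ← h.bd2, ← cj_cj, h.cj_t_z] at h2
    have e2 : cj b⁻¹ r = b * b * r := by
      have : b⁻¹ = b * (b * b) := by rw [h.binv, mul_assoc]
      rw [this, ← cj_cj, cj_fix h.rz, h.cj_b_r]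
    rwa [e2] at h2
  have h5 := h.cj_zr h.cj_za h.cj_ra
  rw [cj_fix a2.symm] at h5
  apply ha1
  have h6 : a * a = 1 := by nth_rewrite 2 [h5]; exact mul_inv_cancel a
  have h7 := h.a3
  rwa [pow_succ, pow_two, h6, one_mul] at h7

/-- relabelling `c → d c d⁻¹` -/
theorem relabel : Pre a b (cj d c) d r t where
  a3 := h.a3
  c3 := h.C3 _
  b4 := h.b4
  bd2 := h.bd2
  rr := h.rr
  tt := h.tt
  ac := h.a_c'.eq
  ad := h.ad
  bc := by
    have := cj_comm d (show Commute b c from h.bc)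
    rw [cj_fix (show Commute d b from h.bd.symm)] at this
    exact this.eq
  bd := h.bd
  ab3 := h.ab3
  cd3 := by
    have : cj d c * d = cj d (c * d) := by rw [cj_mul]; unfold cj; group
    rw [this, cj_pow, h.cd3, cj_one]
  za := h.za
  zc := by
    have := cj_comm d h.cz
    rw [cj_fix h.dz.symm] at this
    exact this.eq
  ra := h.ra
  rb := h.rb
  rc := by
    have := h.r_c'
    unfold cj at this ⊢
    rwa [h.rinv] at this
  rd := h.rd
  bt3 := h.bt3
  te := h.te
  tz := h.tz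

end Cfsg.Agent.GTwoThree.Pre
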