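import Cfsg.Agent.GTwoThree.Fusion

/-!
# `G₂(3)`: from the local data to the relations

`a = x₁`, `b = i j z`, `c = x₂`, `d = k l z`, `r = z y`, `t = i j g`.
-/

set_option autoImplicit false
set_option linter.unusedSectionVars false

namespace Cfsg.Agent.GTwoThree.PatDec

open Cfsg.Agent.Co2Type.Quad Cfsg.Agent.LargeExtra.Model Cfsg.Agent.LargeExtra.Pres
open Cfsg.Agent.LargeExtra Cfsg.Agent.LargeExtra.Base Cfsg.Agent.LargeExtra.W2 Cfsg.Agent.LargeExtra.W2.PlusHom
open Cfsg.Agent.GTwoThree.Cent Cfsg.Agent.GTwoThree.Fusion

/-- codes -/
def ka : K := (1, 1, 0, 0)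
def kb : K := kq (mi * mj * zz)
def kc : K := (1, 0, 1, 0)
def kd : K := kq (mk * ml * zz)
def kz : K := kq zz
def kr : K := (zz, 0, 0, 1)
def ka2 : K := (1, 2, 0, 0)
def kc2 : K := (1, 0, 2, 0)
/-- code of `b a b⁻¹` -/
def ka' : K := mul false (mul false kb ka) (kq (mi * mj))
/-- code of `d c d⁻¹` -/
def kc' : K := mul false (mul false kd kc) (kq (mk * ml))

/-- the 25 elements of order `1, 3` inverted by `r` -/
def L25 : List K :=
  [k1, ka, mul false ka ka, ka', mul false ka' ka'].flatMap fun u =>
    [k1, kc, mul false kc kc, kc', mul false kc' kc'].map fun v => mul false u v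

/-- ninth power -/
def p9 (u : K) : K :=
  let v := mul false u u
  let w := mul false v v
  mul false (mul false w w) u

/-- small powers -/
def pw (u : K) (m : Fin 3) : K := if m = 0 then k1 else if m = 1 then u else mul false u u

set_option maxRecDepth 100000 in
theorem dec_L25 : ∀ u : K, mul false (mul false kr u) (mul false kr u) = k1 → p9 u = k1 → u ∈ L25 := by
  decide +kernel

/-- `⟨u, v⟩` contains `ka` or `ka'` and `kc` or `kc'` -/
def genOk (u v : K) : Bool :=
  (decide (∃ m n : Fin 3, mul false (pw u m) (pw v n) = ka) || decide (∃ m n : Fin 3, mul false (pw u m) (pw v n) = ka')) &&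
  (decide (∃ m n : Fin 3, mul false (pw u m) (pw v n) = kc) || decide (∃ m n : Fin 3, mul false (pw u m) (pw v n) = kc'))

set_option maxRecDepth 100000 in
theorem dec_gen : (L25.all fun u => decide (u = k1) || L25.all fun v => decide (v = k1) || (decide (v = u) ||
    (decide (v = mul false u u) || (!(decide (mul false u v ∈ L25)) || genOk u v)))) = true := by
  decide +kernel

set_option maxRecDepth 100000 in
/-- `C(z) ∩ C(r) ∩ C(a) = ⟨z⟩` -/
theorem dec_core : ∀ u : K, mul false u ky = mul false ky u → mul false u ka = mul false ka u → u = k1 ∨ u = kz := by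
  decide +kernel

/-! relations inside `C(z)` -/

theorem rel_a3 : mul false (mul false ka ka) ka = k1 := by decide +kernel
theorem rel_c3 : mul false (mul false kc kc) kc = k1 := by decide +kernel
theorem rel_bb : mul false kb kb = kz := by decide +kernel
theorem rel_dd : mul false kd kd = kz := by decide +kernel
theorem rel_zz : mul false kz kz = k1 := by decide +kernel
theorem rel_ac : mul false ka kc = mul false kc ka := by decide +kernel
theorem rel_ad : mul false ka kd = mul false kd ka := by decide +kernel
theorem rel_bc : mul false kb kc = mul false kc kb := by decide +kernel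
theorem rel_bd : mul false kb kd = mul false kd kb := by decide +kernel
theorem rel_bde : mul false kb kd = kq dm := by decide +kernel
theorem rel_za : mul false kz ka = mul false ka kz := by decide +kernel
theorem rel_zc : mul false kz kc = mul false kc kz := by decide +kernel
theorem rel_ab3 : mul false (mul false (mul false ka kb) (mul false ka kb)) (mul false ka kb) = k1 := by decide +kernel
theorem rel_cd3 : mul false (mul false (mul false kc kd) (mul false kc kd)) (mul false kc kd) = k1 := by decide +kernel
theorem rel_rr : mul false kr kr = k1 := by decide +kernel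
theorem rel_ra : mul false (mul false (mul false kr ka) kr) ka = k1 := by decide +kernel
theorem rel_rb : mul false (mul false (mul false kr kb) kr) kb = k1 := by decide +kernel
theorem rel_rc : mul false (mul false (mul false kr kc) kr) kc = k1 := by decide +kernel
theorem rel_rd : mul false (mul false (mul false kr kd) kr) kd = k1 := by decide +kernel

end Cfsg.Agent.GTwoThree.PatDec
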