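import Cfsg.Agent.GTwoThree.Kill
import Cfsg.Agent.GTwoThree.PatDec

/-!
# `G₂(3)`: from the local data to the relations

`a = x₁`, `b = i j z`, `c = x₂`, `d = k l z`, `r = z y`, `t = i j g`.
-/

set_option autoImplicit false
set_option linter.unusedSectionVars false

namespace Cfsg.Agent.GTwoThree.Pattern

open Cfsg.Agent.Co2Type.Quad Cfsg.Agent.LargeExtra.Model Cfsg.Agent.LargeExtra.Pres
open Cfsg.Agent.LargeExtra Cfsg.Agent.LargeExtra.Base Cfsg.Agent.LargeExtra.W2 Cfsg.Agent.LargeExtra.W2.PlusHom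
open Cfsg.Agent.GTwoThree.Cent Cfsg.Agent.GTwoThree.Fusion Cfsg.Agent.GTwoThree.Pre Cfsg.Agent.GTwoThree.PatDec

theorem sq_of_comm {G : Type*} [Group G] {x u : G} (c : x * u = u * x) (hx : x * x = 1) (hu : u * u = 1) :
    x * u * (x * u) = 1 := by
  calc x * u * (x * u) = x * (u * x) * u := by simp only [mul_assoc]
    _ = (x * x) * (u * u) := by rw [← c]; simp only [mul_assoc]
    _ = 1 := by rw [hx, hu, one_mul]

section

variable {G : Type*} [Group G] {Q : Subgroup G} {z i j k l x₁ x₂ y : G}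
variable (h : Case9c Q z i j k l x₁ x₂ y) (hy : y * y = 1)

include h in
theorem toG_ka : toG h ka = x₁ := by simp [toG, ka]

include h in
theorem toG_kc : toG h kc = x₂ := by simp [toG, kc]

include h in
theorem toG_kb : toG h kb = i * j * z := by
  rw [kb, toG_kq, map_mul, map_mul, hom_i, hom_j, hom_zz]

include h in
theorem toG_kd : toG h kd = k * l * z := by
  rw [kd, toG_kq, map_mul, map_mul, hom_k, hom_l, hom_zz]

include h in
theorem toG_kz : toG h kz = z := by rw [kz, toG_kq, hom_zz]

include h in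
theorem toG_kr : toG h kr = z * y := by simp [toG, kr, hom_zz]

include h hy

theorem twist : Twist (z := z) (y := y) false := by simpa [Twist] using hy

theorem mulG (u v : K) : toG h (mul false u v) = toG h u * toG h v := toG_mul h (twist h hy) u v

theorem tr {u v : K} (e : u = v) : toG h u = toG h v := by rw [e]

theorem bb_eq : i * j * z * (i * j * z) = z := by
  rw [← toG_kb h, ← mulG h hy, rel_bb, toG_kz]

theorem dd_eq : k * l * z * (k * l * z) = z := by
  rw [← toG_kd h, ← mulG h hy, rel_dd, toG_kz]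

theorem zz_eq : z * z = 1 := h.large.z_sq

theorem bd_eq : i * j * z * (k * l * z) = i * j * (k * l) := by
  rw [← toG_kb h, ← toG_kd h, ← mulG h hy, rel_bde, toG_kq, hom_dm]

theorem dd_code : toG h kd * toG h kd = z := by rw [← mulG h hy, rel_dd, toG_kz]

theorem ij_sq : i * j * (i * j) = z := by
  have h1 := bb_eq h hy
  have hz : Commute (i * j) z := by
    have h2 : Commute (hom h.toPlus (mi * mj)) z := h.large.comm_z _ (hom_mem h.toPlus _)
    rwa [map_mul, hom_i, hom_j] at h2
  have h3 : i * j * z * (i * j * z) = i * j * (i * j) * (z * z) := by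
    calc i * j * z * (i * j * z) = i * j * (z * (i * j)) * z := by simp only [mul_assoc]
      _ = i * j * ((i * j) * z) * z := by rw [← hz.eq]
      _ = _ := by simp only [mul_assoc]
  rw [h3, zz_eq h hy, mul_one] at h1
  exact h1

variable {g : G} (g3 : g ^ 3 = 1) (gz : g * z * g⁻¹ = y) (gy : g * y * g⁻¹ = z * y)
  (ge : g * (i * j * (k * l)) = i * j * (k * l) * g) (g2 : k * l * y * g * (k * l * y * g) = 1)

include g3 gz gy ge g2

/-- the local relations -/
theorem pre : Pre x₁ (i * j * z) x₂ (k * l * z) (z * y) (i * j * g) := by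
  have A := toG_ka h
  have B := toG_kb h
  have C := toG_kc h
  have D := toG_kd h
  have R := toG_kr h
  have Z := toG_kz h
  have Y := toG_ky h
  have M := mulG h hy
  have O := toG_k1 h
  have IJ : toG h (kq (mi * mj)) = i * j := by rw [toG_kq, map_mul, hom_i, hom_j]
  have KL : toG h (kq (PlusHom.mk * ml)) = k * l := by rw [toG_kq, map_mul, hom_k, hom_l]
  have E : toG h (kq dm) = i * j * (k * l) := by rw [toG_kq, hom_dm]
  have zz : z * z = 1 := zz_eq h hy
  have eqi : ∀ x : G, z * y * x * (z * y) * x = 1 → z * y * x * (z * y) = x⁻¹ := fun x hx =>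
    eq_inv_of_mul_eq_one_left hx
  have hbb := bb_eq h hy
  have hz : i * j * z = z * (i * j) := by
    have h1 : mul false (kq (mi * mj)) kz = mul false kz (kq (mi * mj)) := by decide +kernel
    simpa only [M, IJ, Z] using tr h hy h1
  have hbt : i * j * z * (i * j * g) = g := by
    calc i * j * z * (i * j * g) = z * (i * j * (i * j)) * g := by rw [hz]; simp only [mul_assoc]
      _ = g := by rw [ij_sq h hy, zz, one_mul]
  have hebd := bd_eq h hy
  have hce : i * j * (i * j * (k * l)) = i * j * (k * l) * (i * j) := by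
    have h1 : mul false (kq (mi * mj)) (kq dm) = mul false (kq dm) (kq (mi * mj)) := by decide +kernel
    simpa only [M, IJ, E] using tr h hy h1
  have hcy : i * j * y * (i * j)⁻¹ = z * y := by
    have h1 : mul false (kq (mi * mj)) ky = mul false kr (kq (mi * mj)) := by decide +kernel
    have h2 : i * j * y = z * y * (i * j) := by simpa only [M, IJ, Y, R] using tr h hy h1
    rw [h2]; group
  have htt : i * j * g * (i * j * g) = 1 := by
    -- `i j g = e y (k l y g)`
    have hw : i * j * (k * l) * y * (k * l * y) = i * j := by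
      have h1 : mul false (mul false (kq dm) ky) (mul false (kq (PlusHom.mk * ml)) ky) = kq (mi * mj) := by
        decide +kernel
      simpa only [M, IJ, E, KL, Y] using tr h hy h1
    have hw2 : i * j * (k * l) * (k * l * y) = k * l * y * (i * j * (k * l)) := by
      have h1 : mul false (kq dm) (mul false (kq (PlusHom.mk * ml)) ky) =
        mul false (mul false (kq (PlusHom.mk * ml)) ky) (kq dm) := by decide +kernel
      simpa only [M, E, KL, Y] using tr h hy h1
    have hw3 : k * l * y * (z * y) = y * (k * l * y) := by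
      have h1 : mul false (mul false (kq (PlusHom.mk * ml)) ky) kr =
        mul false ky (mul false (kq (PlusHom.mk * ml)) ky) := by decide +kernel
      simpa only [M, E, KL, Y, R] using tr h hy h1
    have hw4 : i * j * (k * l) * y * (i * j * (k * l) * y) = 1 := by
      have h1 : mul false (mul false (kq dm) ky) (mul false (kq dm) ky) = k1 := by decide +kernel
      simpa only [M, E, Y, O] using tr h hy h1
    have c1 : i * j * (k * l) * (k * l * y * g) = k * l * y * g * (i * j * (k * l)) := by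
      calc i * j * (k * l) * (k * l * y * g) = i * j * (k * l) * (k * l * y) * g := by simp only [mul_assoc]
        _ = k * l * y * (i * j * (k * l) * g) := by rw [hw2]; simp only [mul_assoc]
        _ = _ := by rw [← ge]; simp only [mul_assoc]
    have c2 : y * (k * l * y * g) = k * l * y * g * y := by
      calc y * (k * l * y * g) = y * (k * l * y) * g := by simp only [mul_assoc]
        _ = k * l * y * (z * y) * g := by rw [hw3]
        _ = k * l * y * (g * y * g⁻¹) * g := by rw [gy]
        _ = _ := by group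
    have e1 : i * j * g = i * j * (k * l) * y * (k * l * y * g) := by
      nth_rewrite 1 [← hw]; simp only [mul_assoc]
    have c3 : i * j * (k * l) * y * (k * l * y * g) = k * l * y * g * (i * j * (k * l) * y) := by
      rw [mul_assoc (i * j * (k * l)), c2, ← mul_assoc, c1, mul_assoc]
    rw [e1]
    exact sq_of_comm c3 hw4 g2
  refine
    { a3 := h.x₁3, c3 := h.x₂3, b4 := ?_, bd2 := ?_, rr := ?_, tt := htt, ac := h.xx, ad := ?_, bc := ?_, bd := ?_,
      ab3 := ?_, cd3 := ?_, za := ?_, zc := ?_, ra := ?_, rb := ?_, rc := ?_, rd := ?_, bt3 := ?_, te := ?_, tz := ?_ }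
  · have : (i * j * z) ^ 4 = (i * j * z * (i * j * z)) * (i * j * z * (i * j * z)) := by
      simp only [pow_succ, pow_zero, one_mul, mul_assoc]
    rw [this, hbb, zz]
  · rw [hbb, dd_eq h hy]
  · simpa only [M, R, O] using tr h hy rel_rr
  · simpa only [M, A, D] using tr h hy rel_ad
  · simpa only [M, B, C] using tr h hy rel_bc
  · simpa only [M, B, D] using tr h hy rel_bd
  · have e : (x₁ * (i * j * z)) ^ 3 = x₁ * (i * j * z) * (x₁ * (i * j * z)) * (x₁ * (i * j * z)) := by
      simp only [pow_succ, pow_zero, one_mul]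
    rw [e]
    simpa only [M, A, B, O] using tr h hy rel_ab3
  · have e : (x₂ * (k * l * z)) ^ 3 = x₂ * (k * l * z) * (x₂ * (k * l * z)) * (x₂ * (k * l * z)) := by
      simp only [pow_succ, pow_zero, one_mul]
    rw [e]
    simpa only [M, C, D, O] using tr h hy rel_cd3
  · rw [hbb]; simpa only [M, A, Z] using tr h hy rel_za
  · rw [hbb]; simpa only [M, C, Z] using tr h hy rel_zc
  · exact eqi _ (by simpa only [M, R, A, O] using tr h hy rel_ra)
  · exact eqi _ (by simpa only [M, R, B, O] using tr h hy rel_rb)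
  · exact eqi _ (by simpa only [M, R, C, O] using tr h hy rel_rc)
  · exact eqi _ (by simpa only [M, R, D, O] using tr h hy rel_rd)
  · rw [hbt, g3]
  · rw [hebd]
    calc i * j * g * (i * j * (k * l)) = i * j * (g * (i * j * (k * l))) := by simp only [mul_assoc]
      _ = i * j * (i * j * (k * l)) * g := by rw [ge]; simp only [mul_assoc]
      _ = i * j * (k * l) * (i * j * g) := by rw [hce]; simp only [mul_assoc]
  · rw [hbb]
    have hti : (i * j * g)⁻¹ = i * j * g := inv_eq_of_mul_eq_one_right htt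
    calc i * j * g * z * (i * j * g) = i * j * g * z * (i * j * g)⁻¹ := by rw [hti]
      _ = i * j * (g * z * g⁻¹) * (i * j)⁻¹ := by group
      _ = z * y := by rw [gz, hcy]

end

/-- three elements cannot fill a subgroup of order nine -/
theorem exists_two {G : Type*} [Group G] {A : Subgroup G} (h9 : Nat.card A = 9) :
    ∃ p ∈ A, p ≠ 1 ∧ ∃ q ∈ A, q ≠ 1 ∧ q ≠ p ∧ q ≠ p * p := by
  have hc : (A : Set G).ncard = 9 := by rw [← h9, ← Nat.card_coe_set_eq]; rfl
  have key : ∀ p : G, ∃ q ∈ A, q ∉ ({1, p, p * p} : Set G) := by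
    intro p
    have h3 : ({1, p, p * p} : Set G).ncard ≤ 3 := by
      refine (Set.ncard_insert_le _ _).trans ?_
      have := Set.ncard_insert_le p ({p * p} : Set G)
      rw [Set.ncard_singleton] at this
      omega
    obtain ⟨q, hq1, hq2⟩ := Set.exists_mem_notMem_of_ncard_lt_ncard (s := ({1, p, p * p} : Set G)) (t := (A : Set G))
      (by omega) (Set.toFinite _)
    exact ⟨q, hq1, hq2⟩
  obtain ⟨p, hp, hp1⟩ := key 1
  obtain ⟨q, hq, hq1⟩ := key p
  simp only [Set.mem_insert_iff, Set.mem_singleton_iff, not_or] at hp1 hq1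
  exact ⟨p, hp, hp1.1, q, hq, hq1.1, hq1.2.1, hq1.2.2⟩

theorem pow_nine {G : Type*} [Group G] {A : Subgroup G} (h9 : Nat.card A = 9) {p : G} (hp : p ∈ A) :
    p ^ 9 = 1 := by
  have : (⟨p, hp⟩ : A) ^ Nat.card A = 1 := pow_card_eq_one'
  rw [h9] at this
  exact congrArg Subtype.val this

section

variable {G : Type*} [Group G] {Q : Subgroup G} {z i j k l x₁ x₂ y : G}
variable (h : Case9c Q z i j k l x₁ x₂ y) (hy : y * y = 1) {g : G}
  (P : Pre x₁ (i * j * z) x₂ (k * l * z) (z * y) (i * j * g))

include h hy P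

/-- codes of the `t`-conjugates of the elements of `P_r` -/
theorem exists_code' {p : G} (hr : p * (z * y) = z * y * p) (hz : z * p * z⁻¹ = p⁻¹) (h9 : p ^ 9 = 1) :
    ∃ u ∈ L25, toG h u = cj (i * j * g) p := by
  set t := i * j * g with ht
  have hzb := bb_eq h hy
  have etr : cj t (z * y) = z := by
    have h1 := P.cj_t_z
    rw [hzb] at h1
    rw [← h1, cj_cj, P.tt]; unfold cj; group
  have ez : cj t z = z * y := by
    have h1 := P.cj_t_z
    rwa [hzb] at h1
  have hq : cj t p * z = z * cj t p := by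
    have := cj_comm t (show Commute p (z * y) from hr)
    rw [etr] at this
    exact this.eq
  have hqi : cj (z * y) (cj t p) = (cj t p)⁻¹ := by
    rw [← ez]
    unfold cj
    calc t * z * t⁻¹ * (t * p * t⁻¹) * (t * z * t⁻¹)⁻¹ = t * (z * p * z⁻¹) * t⁻¹ := by group
      _ = _ := by rw [hz]; group
  obtain ⟨u, hu⟩ := exists_code h hq
  refine ⟨u, dec_L25 u ?_ ?_, hu⟩
  · rw [← toG_inj h, mulG h hy, mulG h hy, toG_kr h, hu, toG_k1 h]
    have h1 : z * y * cj t p * (z * y)⁻¹ = (cj t p)⁻¹ := hqi
    have h2 : z * y * cj t p = (cj t p)⁻¹ * (z * y) := by rw [← h1]; group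
    rw [h2]
    calc (cj t p)⁻¹ * (z * y) * ((cj t p)⁻¹ * (z * y)) = (cj t p)⁻¹ * ((z * y) * (cj t p)⁻¹ * (z * y)) := by
          simp only [mul_assoc]
      _ = 1 := by
          have h3 : z * y * (cj t p)⁻¹ * (z * y)⁻¹ = cj t p := by
            have := congrArg (·⁻¹) h1
            simp only [inv_inv] at this
            calc z * y * (cj t p)⁻¹ * (z * y)⁻¹ = (z * y * cj t p * (z * y)⁻¹)⁻¹ := by group
              _ = cj t p := this
          have h4 : (z * y)⁻¹ = z * y := P.rinv
          rw [h4] at h3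
          rw [h3, inv_mul_cancel]
  · rw [← toG_inj h]
    have e : toG h (p9 u) = toG h u ^ 9 := by
      simp only [p9, mulG h hy, pow_succ, pow_zero, one_mul, mul_assoc]
    rw [e, hu, cj_pow, h9, cj_one, toG_k1 h]

theorem toG_pw (u : K) (m : Fin 3) : toG h (pw u m) = toG h u ^ m.1 := by
  fin_cases m
  · simp [pw, toG_k1 h]
  · simp [pw]
  · simp [pw, mulG h hy, pow_two]

theorem toG_ka' : toG h ka' = cj (i * j * z) x₁ := by
  have IJ : toG h (kq (mi * mj)) = i * j := by rw [toG_kq, map_mul, hom_i, hom_j]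
  rw [ka', mulG h hy, mulG h hy, toG_kb h, toG_ka h, IJ]
  unfold cj
  congr 1
  rw [eq_inv_iff_mul_eq_one]
  have hz : i * j * z = z * (i * j) := by
    have h1 : mul false (kq (mi * mj)) kz = mul false kz (kq (mi * mj)) := by decide +kernel
    simpa only [mulG h hy, IJ, toG_kz h] using tr h hy h1
  calc i * j * (i * j * z) = i * j * (i * j) * z := by simp only [mul_assoc]
    _ = 1 := by rw [ij_sq h hy, h.large.z_sq]

theorem toG_kc' : toG h kc' = cj (k * l * z) x₂ := by
  have KL : toG h (kq (PlusHom.mk * ml)) = k * l := by rw [toG_kq, map_mul, hom_k, hom_l]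
  rw [kc', mulG h hy, mulG h hy, toG_kd h, toG_kc h, KL]
  unfold cj
  congr 1
  rw [eq_inv_iff_mul_eq_one]
  have h1 : mul false (kq (PlusHom.mk * ml)) kd = k1 := by decide +kernel
  simpa only [mulG h hy, KL, toG_kd h, toG_k1 h] using tr h hy h1

/-- the patterns -/
theorem pattern {A : Subgroup G} (h9 : Nat.card A = 9) (hr : ∀ p ∈ A, p * (z * y) = z * y * p)
    (hz : ∀ p ∈ A, z * p * z⁻¹ = p⁻¹) {x : G} (hx : ∀ p ∈ A, p * x = x * p) :
    (Commute x (cj (i * j * g) x₁) ∨ Commute x (cj (i * j * g) (cj (i * j * z) x₁))) ∧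
    (Commute x (cj (i * j * g) x₂) ∨ Commute x (cj (i * j * g) (cj (k * l * z) x₂))) := by
  obtain ⟨p, hp, hp1, q, hq, hq1, hqp, hqpp⟩ := exists_two h9
  obtain ⟨u, hu, hup⟩ := exists_code' h hy P (hr p hp) (hz p hp) (pow_nine h9 hp)
  obtain ⟨v, hv, hvq⟩ := exists_code' h hy P (hr q hq) (hz q hq) (pow_nine h9 hq)
  have hpq := A.mul_mem hp hq
  obtain ⟨w, hw, hwpq⟩ := exists_code' h hy P (hr _ hpq) (hz _ hpq) (pow_nine h9 hpq)
  set t := i * j * g with ht
  have hw' : mul false u v = w := by
    rw [← toG_inj h, mulG h hy, hup, hvq, hwpq, cj_mul]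
  have e1 : u ≠ k1 := by
    rintro rfl
    rw [toG_k1 h, ← cj_one t] at hup
    exact hp1 (cj_inj hup).symm
  have e2 : v ≠ k1 := by
    rintro rfl
    rw [toG_k1 h, ← cj_one t] at hvq
    exact hq1 (cj_inj hvq).symm
  have e3 : v ≠ u := by
    rintro rfl
    rw [hvq] at hup
    exact hqp (cj_inj hup)
  have e4 : v ≠ mul false u u := by
    rintro rfl
    rw [mulG h hy, hup, ← cj_mul] at hvq
    exact hqpp (cj_inj hvq).symm
  have hgen : genOk u v = true := by
    have h1 := dec_gen
    rw [List.all_eq_true] at h1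
    have h2 := h1 u hu
    rw [Bool.or_eq_true, List.all_eq_true] at h2
    rcases h2 with h2 | h2
    · exact absurd (of_decide_eq_true h2) e1
    have h3 := h2 v hv
    rw [Bool.or_eq_true, Bool.or_eq_true, Bool.or_eq_true, Bool.or_eq_true] at h3
    rcases h3 with h3 | h3 | h3 | h3 | h3
    · exact absurd (of_decide_eq_true h3) e2
    · exact absurd (of_decide_eq_true h3) e3
    · exact absurd (of_decide_eq_true h3) e4
    · rw [hw'] at h3
      simp [hw] at h3
    · exact h3
  have key : ∀ w : K, (∃ m n : Fin 3, mul false (pw u m) (pw v n) = w) → Commute x (cj t (toG h w)) := by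
    rintro w ⟨m, n, e⟩
    have h1 : toG h w = cj t (p ^ m.1 * q ^ n.1) := by
      rw [← e, mulG h hy, toG_pw h hy P, toG_pw h hy P, hup, hvq, cj_pow, cj_pow, cj_mul]
    rw [h1, cj_cj, P.tt]
    have h2 : p ^ m.1 * q ^ n.1 ∈ A := A.mul_mem (A.pow_mem hp _) (A.pow_mem hq _)
    have h3 : cj 1 (p ^ m.1 * q ^ n.1) = p ^ m.1 * q ^ n.1 := by unfold cj; group
    rw [h3]
    exact (show Commute (p ^ m.1 * q ^ n.1) x from hx _ h2).symm
  rw [genOk, Bool.and_eq_true, Bool.or_eq_true, Bool.or_eq_true, decide_eq_true_iff, decide_eq_true_iff,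
    decide_eq_true_iff, decide_eq_true_iff] at hgen
  constructor
  · rcases hgen.1 with h1 | h1
    · left; have := key _ h1; rwa [toG_ka h] at this
    · right; have := key _ h1; rwa [toG_ka' h hy P] at this
  · rcases hgen.2 with h1 | h1
    · left; have := key _ h1; rwa [toG_kc h] at this
    · right; have := key _ h1; rwa [toG_kc' h hy P] at this

/-- the relations, for `c = x₂` or `c = d x₂ d⁻¹` -/
theorem exists_rel (hx1 : x₁ ≠ 1) (o1 : O2 z x₁) (o2 : O2 z x₂)
    {A₁ : Subgroup G} (h9 : Nat.card A₁ = 9) (hr : ∀ p ∈ A₁, p * (z * y) = z * y * p)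
    (hz : ∀ p ∈ A₁, z * p * z⁻¹ = p⁻¹) (hx : ∀ p ∈ A₁, p * x₁ = x₁ * p)
    {A₂ : Subgroup G} (h9' : Nat.card A₂ = 9) (hr' : ∀ p ∈ A₂, p * (z * y) = z * y * p)
    (hz' : ∀ p ∈ A₂, z * p * z⁻¹ = p⁻¹) (hx' : ∀ p ∈ A₂, p * x₂ = x₂ * p) :
    ∃ c : G, (c = x₂ ∨ c = cj (k * l * z) x₂) ∧ Rel x₁ (i * j * z) c (k * l * z) (z * y) (i * j * g) := by
  obtain ⟨pa, pc⟩ := pattern h hy P h9 hr hz hx
  obtain ⟨-, pcc⟩ := pattern h hy P h9' hr' hz' hx'
  have hzb := bb_eq h hy
  have hz1 : i * j * z * (i * j * z) ≠ 1 := by rw [hzb]; exact h.large.z_ne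
  have oa : O2 (i * j * z * (i * j * z)) x₁ := by rwa [hzb]
  have oc : O2 (i * j * z * (i * j * z)) x₂ := by rwa [hzb]
  have main : ∀ c : G, Pre x₁ (i * j * z) c (k * l * z) (z * y) (i * j * g) → O2 (i * j * z * (i * j * z)) c →
      (Commute x₁ (cj (i * j * g) x₁) ∨ Commute x₁ (cj (i * j * g) (cj (i * j * z) x₁))) →
      Commute x₁ (cj (i * j * g) c) →
      (Commute c (cj (i * j * g) c) ∨ Commute c (cj (i * j * g) (cj (k * l * z) c))) →
      Rel x₁ (i * j * z) c (k * l * z) (z * y) (i * j * g) := by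
    intro c P oc pa k3 pcc
    have ea : cj (i * j * g) (cj (i * j * z) x₁) = cj (i * j * g * (i * j * z * (k * l * z))) x₁ := by
      rw [← P.cj_e_a, cj_cj]
    have ec : cj (i * j * g) (cj (k * l * z) c) = cj (i * j * g * (i * j * z * (k * l * z))) c := by
      rw [← P.cj_e_c, cj_cj]
    rw [ea] at pa
    rw [ec] at pcc
    rcases pa with pa | pa <;> rcases pcc with pc' | pc'
    · exact (P.kill3 hz1 oa oc k3 pa pc').elim
    · exact P.toRel pa pc' k3
    · exact (P.kill1 hz1 hx1 oa oc k3 pa pc').elim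
    · exact (P.kill2 hz1 oa oc k3 pa pc').elim
  rcases pc with k3 | k3
  · exact ⟨x₂, Or.inl rfl, main x₂ P oc pa k3 pcc⟩
  · refine ⟨cj (k * l * z) x₂, Or.inr rfl, main _ P.relabel ?_ pa k3 ?_⟩
    · have := oc.cj (k * l * z)
      rwa [cj_fix P.dz.symm] at this
    · have e0 : ∀ x : G, cj (i * j * z * (k * l * z)) (cj (i * j * g) x) =
          cj (i * j * g) (cj (i * j * z * (k * l * z)) x) := by
        intro x; rw [cj_cj, cj_cj, P.te]
      have e1 := P.cj_e_c
      have e2 := P.relabel.cj_e_c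
      rcases pcc with h1 | h1
      · left
        have := cj_comm (i * j * z * (k * l * z)) h1
        rwa [e0, e1] at this
      · right
        have := cj_comm (i * j * z * (k * l * z)) h1
        rwa [e0, e1, e2] at this

end

end Cfsg.Agent.GTwoThree.Pattern
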