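import Cfsg.Agent.GTwoThree.Base

/-!
# The local relations of `G₂(3)` and the choice of the pattern

`Pre a b c d r t`: all relations of `Rel` but the three between root elements. The commutator relations are obtained by
killing the wrong patterns.
-/

set_option autoImplicit false

namespace Cfsg.Agent.GTwoThree

/-- the local relations -/
structure Pre {J : Type*} [Group J] (a b c d r t : J) : Prop where
  a3 : a ^ 3 = 1
  c3 : c ^ 3 = 1
  b4 : b ^ 4 = 1
  bd2 : b * b = d * d
  rr : r * r = 1
  tt : t * t = 1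
  ac : a * c = c * a
  ad : a * d = d * a
  bc : b * c = c * b
  bd : b * d = d * b
  ab3 : (a * b) ^ 3 = 1
  cd3 : (c * d) ^ 3 = 1
  za : b * b * a = a * (b * b)
  zc : b * b * c = c * (b * b)
  ra : r * a * r = a⁻¹
  rb : r * b * r = b⁻¹
  rc : r * c * r = c⁻¹
  rd : r * d * r = d⁻¹
  bt3 : (b * t) ^ 3 = 1
  te : t * (b * d) = b * d * t
  tz : t * (b * b) * t = r

namespace Pre

/-- conjugation -/
def cj {J : Type*} [Group J] (w x : J) : J := w * x * w⁻¹

section Cj

variable {J : Type*} [Group J]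

theorem cj_comm (w : J) {x y : J} (h : Commute x y) : Commute (cj w x) (cj w y) := by
  have h' : x * y = y * x := h
  show w * x * w⁻¹ * (w * y * w⁻¹) = w * y * w⁻¹ * (w * x * w⁻¹)
  calc w * x * w⁻¹ * (w * y * w⁻¹) = w * (x * y) * w⁻¹ := by group
    _ = _ := by rw [h']; group

theorem cj_cj (w v x : J) : cj w (cj v x) = cj (w * v) x := by unfold cj; group

theorem cj_fix {w x : J} (h : Commute w x) : cj w x = x := by
  unfold cj; rw [h.eq]; group

theorem cj_mul (w x y : J) : cj w (x * y) = cj w x * cj w y := by unfold cj; group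

theorem cj_inv (w x : J) : cj w x⁻¹ = (cj w x)⁻¹ := by unfold cj; group

theorem cj_one (w : J) : cj w 1 = 1 := by unfold cj; group

theorem cj_inj {w x y : J} (h : cj w x = cj w y) : x = y := by
  unfold cj at h
  exact mul_left_cancel (mul_right_cancel h)

theorem cj_pow (w x : J) (n : ℕ) : cj w x ^ n = cj w (x ^ n) := by unfold cj; exact conj_pow

theorem cj_zpow (w x : J) (n : ℤ) : cj w x ^ n = cj w (x ^ n) := by unfold cj; exact conj_zpow

end Cj

variable {J : Type*} [Group J] {a b c d r t : J} (h : Pre a b c d r t)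

include h

theorem rinv : r⁻¹ = r := inv_eq_of_mul_eq_one_right h.rr

theorem tinv : t⁻¹ = t := inv_eq_of_mul_eq_one_right h.tt

theorem toRel (k1 : Commute a (cj t a)) (k2 : Commute c (cj (t * (b * d)) c)) (k3 : Commute a (cj t c)) :
    Rel a b c d r t where
  a3 := h.a3
  c3 := h.c3
  b4 := h.b4
  bd2 := h.bd2
  rr := h.rr
  tt := h.tt
  ac := h.ac
  ad := h.ad
  bc := h.bc
  bd := h.bd
  ab3 := h.ab3
  cd3 := h.cd3
  za := h.za
  zc := h.zc
  ra := h.ra
  rb := h.rb
  rc := h.rc
  rd := h.rd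
  bt3 := h.bt3
  te := h.te
  tz := h.tz
  k1 := by have := k1.eq; unfold cj at this; rwa [h.tinv] at this
  k2 := k2.eq
  k3 := by have := k3.eq; unfold cj at this; rwa [h.tinv] at this

theorem b4' : b * b * (b * b) = 1 := by
  have := h.b4
  simpa [pow_succ, mul_assoc] using this

/-- `z = b * b` is an involution or trivial -/
theorem zinv : (b * b)⁻¹ = b * b := inv_eq_of_mul_eq_one_right h.b4'

theorem binv : b⁻¹ = b * b * b := by
  rw [inv_eq_iff_mul_eq_one, ← h.b4']; simp only [mul_assoc]

theorem cz : Commute (b * b) c := h.zc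

theorem az : Commute (b * b) a := h.za

theorem bz : Commute (b * b) b := by
  show b * b * b = b * (b * b)
  rw [mul_assoc]

theorem dz : Commute (b * b) d := by
  show b * b * d = d * (b * b)
  rw [h.bd2, mul_assoc]

theorem rz : Commute (b * b) r := by
  show b * b * r = r * (b * b)
  have h1 : r * b * r * (r * b * r) = b⁻¹ * b⁻¹ := by rw [h.rb]
  have h2 : r * b * r * (r * b * r) = r * (b * b) * r := by
    calc r * b * r * (r * b * r) = r * b * (r * r) * b * r := by simp only [mul_assoc]
      _ = _ := by rw [h.rr]; simp only [mul_assoc, one_mul]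
  have h3 : b⁻¹ * b⁻¹ = b * b := by rw [← mul_inv_rev, h.zinv]
  rw [h2, h3] at h1
  calc b * b * r = r * (b * b) * r * r := by rw [h1]
    _ = _ := by rw [mul_assoc, h.rr, mul_one]

theorem tr : t * r * t = b * b := by
  rw [← h.tz]
  calc t * (t * (b * b) * t) * t = (t * t) * (b * b) * (t * t) := by simp only [mul_assoc]
    _ = _ := by rw [h.tt, one_mul, mul_one]

/-- `t r = z t` -/
theorem tr' : t * r = b * b * t := by
  rw [← h.tr, mul_assoc (t * r), h.tt, mul_one]

theorem tz' : t * (b * b) = r * t := by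
  rw [← h.tz, mul_assoc (t * (b * b)), h.tt, mul_one]

/-- `r d = d⁻¹ r` -/
theorem rd' : r * d = d⁻¹ * r := by
  rw [← h.rd, mul_assoc (r * d), h.rr, mul_one]

theorem rb' : r * b = b⁻¹ * r := by
  rw [← h.rb, mul_assoc (r * b), h.rr, mul_one]

theorem cj_ra : cj r a = a⁻¹ := by unfold cj; rw [h.rinv]; exact h.ra

theorem cj_rc : cj r c = c⁻¹ := by unfold cj; rw [h.rinv]; exact h.rc

theorem cj_za : cj (b * b) a = a := cj_fix h.az

theorem cj_zc : cj (b * b) c = c := cj_fix h.cz

/-- `e = b d` commutes with `t` -/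
theorem te' : t * (b * d) * t = b * d := by
  rw [h.te, mul_assoc, h.tt, mul_one]

/-- `b t b = t b⁻¹ t` -/
theorem btb : b * t * b = t * b⁻¹ * t := by
  have h1 : b * t * b * (t * b * t) = 1 := by
    have := h.bt3
    simpa [pow_succ, mul_assoc] using this
  have h2 : b * t * b = (t * b * t)⁻¹ := eq_inv_of_mul_eq_one_left h1
  rw [h2, mul_inv_rev, mul_inv_rev, h.tinv, mul_assoc]

/-- the braid relation `d t d = t b t` -/
theorem dtd : d * t * d = t * b * t := by
  have h0 : d = b⁻¹ * (b * d) := by group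
  have hbe : Commute b (b * d) := by
    show b * (b * d) = b * d * b
    rw [mul_assoc b d b, ← h.bd]
  have hee : b * d * (b * d) = 1 := by
    calc b * d * (b * d) = b * (d * b) * d := by simp only [mul_assoc]
      _ = b * b * (d * d) := by rw [← h.bd]; simp only [mul_assoc]
      _ = 1 := by rw [← h.bd2]; exact h.b4'
  have h1 : b⁻¹ * t * b⁻¹ = t * b * t := by
    have := congrArg (·⁻¹) h.btb
    simp only [mul_inv_rev, h.tinv, inv_inv] at this
    simpa [mul_assoc] using this
  calc d * t * d = b⁻¹ * (b * d) * t * (b⁻¹ * (b * d)) := by rw [← h0]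
    _ = b⁻¹ * ((b * d) * t) * b⁻¹ * (b * d) := by simp only [mul_assoc]
    _ = b⁻¹ * (t * (b * d)) * b⁻¹ * (b * d) := by rw [h.te]
    _ = b⁻¹ * t * ((b * d) * b⁻¹) * (b * d) := by simp only [mul_assoc]
    _ = b⁻¹ * t * (b⁻¹ * (b * d)) * (b * d) := by rw [hbe.inv_left.eq]
    _ = b⁻¹ * t * b⁻¹ * (b * d * (b * d)) := by simp only [mul_assoc]
    _ = t * b * t := by rw [hee, mul_one, h1]

/-- `b = a a' a` with `a' = b a b⁻¹` -/
theorem b_eq : b = a * cj b a * a := by
  have h1 : a * cj b a * a * (b * b * b) = 1 := by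
    have h3 := h.ab3
    calc a * cj b a * a * (b * b * b) = a * b * a * b⁻¹ * (a * (b * b)) * b := by unfold cj; simp only [mul_assoc]
      _ = a * b * a * b⁻¹ * (b * b * a) * b := by rw [h.za]
      _ = (a * b) ^ 3 := by simp only [pow_succ, pow_zero, one_mul]; group
      _ = 1 := h3
  have h2 : a * cj b a * a = (b * b * b)⁻¹ := eq_inv_of_mul_eq_one_left h1
  rw [h2, ← h.binv, inv_inv]

/-- `d = c c' c` with `c' = d c d⁻¹` -/
theorem d_eq : d = c * cj d c * c := by
  have hz := h.zc
  rw [h.bd2] at hz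
  have h1 : c * cj d c * c * (d * d * d) = 1 := by
    have h3 := h.cd3
    calc c * cj d c * c * (d * d * d) = c * d * c * d⁻¹ * (c * (d * d)) * d := by unfold cj; simp only [mul_assoc]
      _ = c * d * c * d⁻¹ * (d * d * c) * d := by rw [hz]
      _ = (c * d) ^ 3 := by simp only [pow_succ, pow_zero, one_mul]; group
      _ = 1 := h3
  have h2 : c * cj d c * c = (d * d * d)⁻¹ := eq_inv_of_mul_eq_one_left h1
  have h4 : d⁻¹ = d * d * d := by
    rw [inv_eq_iff_mul_eq_one]
    have := h.b4'
    rw [h.bd2] at this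
    rw [← this]; simp only [mul_assoc]
  rw [h2, ← h4, inv_inv]

/-- `c` is not a power of `a` -/
theorem c_not_mem (hz : b * b ≠ 1) : c ∉ Subgroup.zpowers a := by
  rintro ⟨n, hn⟩
  have hn' : a ^ n = c := hn
  have h1 : Commute d c := by
    rw [← hn']; exact (show Commute d a from h.ad.symm).zpow_right n
  have h2 := h.d_eq
  rw [cj_fix h1] at h2
  have h3 : d = 1 := by
    rw [h2]
    have := h.c3
    simpa [pow_succ, mul_assoc] using this
  apply hz
  rw [h.bd2, h3, mul_one]

theorem c_not_mem' (hz : b * b ≠ 1) : c ∉ Subgroup.zpowers (cj b a) := by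
  rintro ⟨n, hn⟩
  have hn' : cj b a ^ n = c := hn
  apply h.c_not_mem hz
  refine ⟨n, ?_⟩
  show a ^ n = c
  rw [cj_zpow] at hn'
  have h1 : cj b c = c := cj_fix h.bc
  rw [← h1] at hn'
  exact cj_inj hn'

end Pre

end Cfsg.Agent.GTwoThree
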