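import Cfsg.Agent.SporRec.J1.Machine

/-!
# Strict (continuation passing) version of the coset enumeration machine

`Cfsg.Agent.SporRec.J1.Machine` with all tries kept in constructor form during kernel evaluation.
-/

set_option autoImplicit false

namespace Cfsg.Agent.GTwoThree.Strict

open Cfsg.Agent.SporRec.J1.Machine

/-- force a number -/
def wn {β : Sort*} (n : ℕ) (c : ℕ → β) : β := match n with
  | 0 => c 0
  | m + 1 => c (m + 1)

theorem wn_eq {β : Sort*} (n : ℕ) (c : ℕ → β) : wn n c = c n := by
  cases n <;> rfl

/-- strict `set` -/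
def setC {β : Sort*} : ℕ → Tr → ℕ → ℕ → (Tr → β) → β
  | 0, t, _, _, c => c t
  | n + 1, .leaf, k, w, c => cond (Nat.beq k 0) (c (.node .leaf w .leaf))
      (cond (Nat.beq (k % 2) 1) (wn (k / 2) fun k' => setC n .leaf k' w fun l => c (.node l 0 .leaf))
        (wn (k / 2 - 1) fun k' => setC n .leaf k' w fun r => c (.node .leaf 0 r)))
  | n + 1, .node l v r, k, w, c => cond (Nat.beq k 0) (c (.node l w r))
      (cond (Nat.beq (k % 2) 1) (wn (k / 2) fun k' => setC n l k' w fun l' => c (.node l' v r))
        (wn (k / 2 - 1) fun k' => setC n r k' w fun r' => c (.node l v r')))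

theorem setC_eq {β : Type*} (n : ℕ) : ∀ (t : Tr) (k w : ℕ) (c : Tr → β), setC n t k w c = c (set n t k w) := by
  induction n with
  | zero => intro t k w c; rfl
  | succ n ih =>
    intro t k w c
    cases t with
    | leaf =>
      simp only [setC, SporRec.J1.Machine.set, wn_eq, ih]
      cases Nat.beq k 0 <;> cases Nat.beq (k % 2) 1 <;> rfl
    | node l v r =>
      simp only [setC, SporRec.J1.Machine.set, wn_eq, ih]
      cases Nat.beq k 0 <;> cases Nat.beq (k % 2) 1 <;> rfl

/-- strict lookup in a trie -/
def getC : Tr → ℕ → ℕ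
  | .leaf, _ => 0
  | .node l v r, k => cond (Nat.beq k 0) v
      (cond (Nat.beq (k % 2) 1) (wn (k / 2) (getC l)) (wn (k / 2 - 1) (getC r)))

theorem getC_eq (t : Tr) : ∀ k, getC t k = get t k := by
  induction t with
  | leaf => intro k; rfl
  | node l v r ihl ihr =>
    intro k
    simp only [getC, SporRec.J1.Machine.get, wn_eq, ihl, ihr]

/-- strict `norm` -/
def normC (al : Tr) : ℕ → ℕ → ℕ
  | 0, n => n
  | f + 1, n => match getC al n with
    | 0 => n
    | m + 1 => normC al f m

theorem normC_eq (al : Tr) (f : ℕ) : ∀ n, normC al f n = norm al f n := by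
  induction f with
  | zero => intro n; rfl
  | succ f ih =>
    intro n
    simp only [normC, SporRec.J1.Machine.norm, getC_eq]
    split <;> simp_all

/-- strict `look` -/
def lookC (s : St) (n g : ℕ) : ℕ :=
  match wn (8 * n + g) (getC s.edges) with
  | 0 => 0
  | m + 1 => normC s.als 8 m + 1

theorem lookC_eq (s : St) (n g : ℕ) : lookC s n g = look s n g := by
  simp only [lookC, look, wn_eq, getC_eq]
  split <;> simp_all [normC_eq]

/-- strict `trace` -/
def traceC (s : St) : ℕ → List ℕ → ℕ
  | n, [] => n + 1
  | n, g :: w => match lookC s n g with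
    | 0 => 0
    | m + 1 => traceC s m w

theorem traceC_eq (s : St) : ∀ (w : List ℕ) (n : ℕ), traceC s n w = trace s n w := by
  intro w
  induction w with
  | nil => intro n; rfl
  | cons g w ih =>
    intro n
    simp only [traceC, trace, lookC_eq]
    split <;> simp_all

/-- strict `upd` -/
def updC {β : Sort*} (s : St) (n x m : ℕ) (c : St → β) : β :=
  wn (normC s.als 8 n) fun n' => wn (normC s.als 8 m) fun m' =>
  match lookC s n' x with
  | 0 => wn (8 * n' + x) fun k => setC 14 s.edges k (m' + 1) fun e => c ⟨e, s.als⟩
  | e + 1 => cond (Nat.beq e m') (c s)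
      (cond (Nat.blt e m') (setC 14 s.als m' (e + 1) fun a => c ⟨s.edges, a⟩)
        (setC 14 s.als e (m' + 1) fun a => c ⟨s.edges, a⟩))

theorem updC_eq {β : Type*} (s : St) (n x m : ℕ) (c : St → β) : updC s n x m c = c (upd s n x m) := by
  simp only [updC, upd, wn_eq, normC_eq, lookC_eq, setC_eq]
  generalize look s (norm s.als 8 n) x = q
  cases q with
  | zero => rfl
  | succ e =>
    simp only
    cases Nat.beq e (norm s.als 8 m) <;> cases Nat.blt e (norm s.als 8 m) <;> rfl

/-- strict `step` -/
def stepC {β : Sort*} (rules : List (ℕ × List ℕ)) (s : St) (o : Op) (c : St → β) : β := match o with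
  | .R n r => match rules[r]? with
    | none => c s
    | some (x, v) => match traceC s n v with
      | 0 => c s
      | b + 1 => updC s n x b fun s' => updC s' b x n c
  | .X q g => match wn (8 * q + g) (getC s.edges) with
    | 0 => c s
    | m + 1 => updC s q g m fun s' => updC s' m g q c

theorem stepC_eq {β : Type*} (rules : List (ℕ × List ℕ)) (s : St) (o : Op) (c : St → β) :
    stepC rules s o c = c (step rules s o) := by
  cases o with
  | R n r =>
    simp only [stepC, step, traceC_eq, updC_eq, upd2]
    generalize rules[r]? = q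
    cases q with
    | none => rfl
    | some p =>
      obtain ⟨x, v⟩ := p
      simp only
      generalize trace s n v = q
      cases q <;> rfl
  | X q g =>
    simp only [stepC, step, wn_eq, getC_eq, updC_eq, upd2]
    generalize get s.edges (8 * q + g) = q'
    cases q' <;> rfl

/-- strict `run` -/
def runC {β : Sort*} (rules : List (ℕ × List ℕ)) : List Op → St → (St → β) → β
  | [], s, c => c s
  | o :: os, s, c => stepC rules s o fun s' => runC rules os s' c

theorem runC_eq {β : Type*} (rules : List (ℕ × List ℕ)) : ∀ (os : List Op) (s : St) (c : St → β),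
    runC rules os s c = c (run rules os s) := by
  intro os
  induction os with
  | nil => intro s c; rfl
  | cons o os ih =>
    intro s c
    simp only [runC, run, stepC_eq, ih]

/-- strict `initAux` -/
def initAuxC {β : Sort*} : List (ℕ × ℕ) → ℕ → Tr → (Tr → β) → β
  | [], _, t, c => c t
  | (p, g) :: l, n, t, c => wn (8 * p + g) fun k => wn (8 * n + g) fun k' => wn (n + 1) fun n' =>
      setC 14 t k n' fun t' => setC 14 t' k' (p + 1) fun t'' => initAuxC l n' t'' c

theorem initAuxC_eq {β : Type*} : ∀ (l : List (ℕ × ℕ)) (n : ℕ) (t : Tr) (c : Tr → β),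
    initAuxC l n t c = c (initAux l n t) := by
  intro l
  induction l with
  | nil => intro n t c; rfl
  | cons pg l ih =>
    obtain ⟨p, g⟩ := pg
    intro n t c
    simp only [initAuxC, initAux, wn_eq, setC_eq, ih]

/-- strict `initLoops` -/
def initLoopsC {β : Sort*} : List ℕ → Tr → (Tr → β) → β
  | [], t, c => c t
  | g :: l, t, c => setC 14 t g 1 fun t' => initLoopsC l t' c

theorem initLoopsC_eq {β : Type*} : ∀ (l : List ℕ) (t : Tr) (c : Tr → β),
    initLoopsC l t c = c (initLoops l t) := by
  intro l
  induction l with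
  | nil => intro t c; rfl
  | cons g l ih =>
    intro t c
    simp only [initLoopsC, initLoops, setC_eq, ih]

/-- strict evaluation of the final state -/
def evalC {β : Sort*} (rules : List (ℕ × List ℕ)) (loops : List ℕ) (tree : List (ℕ × ℕ)) (ops : List Op)
    (c : St → β) : β :=
  initLoopsC loops .leaf fun t => initAuxC tree 1 t fun t' => runC rules ops ⟨t', .leaf⟩ c

theorem evalC_eq {β : Type*} (rules : List (ℕ × List ℕ)) (loops : List ℕ) (tree : List (ℕ × ℕ)) (ops : List Op)
    (c : St → β) : evalC rules loops tree ops c = c (run rules ops (init loops tree)) := by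
  simp only [evalC, initLoopsC_eq, initAuxC_eq, runC_eq, init]

end Cfsg.Agent.GTwoThree.Strict
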