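import Cfsg.Agent.GTwoThree.Fusion

/-!
# `Case9c` for a subgroup containing `C_G(z)`; one class of involutions (helper614)
-/

set_option autoImplicit false

namespace Cfsg.Agent.GTwoThree.Sub

open Cfsg.Agent.Co2Type.Quad Cfsg.Agent.LargeExtra Cfsg.Agent.LargeExtra.W2 Cfsg.Agent.LargeExtra.W2.PlusHom
open Cfsg.Agent.GTwoThree.Cent Cfsg.Agent.GTwoThree.Fusion

variable {G : Type*} [Group G] {Q : Subgroup G} {z i j k l x₁ x₂ y : G}

theorem comm_of_gen (h : Case9c Q z i j k l x₁ x₂ y) {x : G}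
    (hx : x ∈ ({i, j, k, l, x₁, x₂, y} : Set G)) : x ∈ Subgroup.centralizer ({z} : Set G) := by
  rw [h.cent]; exact Subgroup.subset_closure hx

theorem closure_sub {H : Subgroup G} {S : Set G} (hS : ∀ x ∈ S, x ∈ H) {K : Subgroup G}
    (hK : K = Subgroup.closure S) :
    K.subgroupOf H = Subgroup.closure {x : H | (x : G) ∈ S} := by
  apply Subgroup.map_injective H.subtype_injective
  rw [MonoidHom.map_closure, Subgroup.subgroupOf, Subgroup.map_comap_eq, Subgroup.range_subtype, hK]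
  have h1 : (H.subtype : H → G) '' {x : H | (x : G) ∈ S} = S := by
    ext x
    constructor
    · rintro ⟨w, hw, rfl⟩; exact hw
    · intro hx; exact ⟨⟨x, hS x hx⟩, hx, rfl⟩
  have h2 : Subgroup.closure ((H.subtype : H → G) '' {x : H | (x : G) ∈ S}) = Subgroup.closure S := by rw [h1]
  rw [h2]
  apply inf_eq_right.2
  rw [Subgroup.closure_le]
  exact hS

theorem sub (h : Case9c Q z i j k l x₁ x₂ y) (H : Subgroup G)
    (hC : Subgroup.centralizer ({z} : Set G) ≤ H) :
    ∃ z' i' j' k' l' x₁' x₂' y' : H, (z' : G) = z ∧ (y' : G) = y ∧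
      Case9c (Q.subgroupOf H) z' i' j' k' l' x₁' x₂' y' := by
  have hg : ∀ x ∈ ({i, j, k, l, x₁, x₂, y} : Set G), x ∈ H := fun x hx => hC (comm_of_gen h hx)
  have hz : z ∈ H := hC (Subgroup.mem_centralizer_singleton_iff.2 rfl)
  have hQH : Q ≤ H := fun q hq => hC (Subgroup.mem_centralizer_singleton_iff.2 (h.large.comm_z q hq))
  have hmem : ∀ x : H, x ∈ Q.subgroupOf H ↔ (x : G) ∈ Q := fun x => Subgroup.mem_subgroupOf
  refine ⟨⟨z, hz⟩, ⟨i, hg i (by simp)⟩, ⟨j, hg j (by simp)⟩, ⟨k, hg k (by simp)⟩, ⟨l, hg l (by simp)⟩,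
    ⟨x₁, hg x₁ (by simp)⟩, ⟨x₂, hg x₂ (by simp)⟩, ⟨y, hg y (by simp)⟩, rfl, rfl, ?_⟩
  have hcz : Subgroup.centralizer ({(⟨z, hz⟩ : H)} : Set H) = (Subgroup.centralizer ({z} : Set G)).subgroupOf H := by
    ext x
    rw [Subgroup.mem_subgroupOf, Subgroup.mem_centralizer_singleton_iff, Subgroup.mem_centralizer_singleton_iff]
    exact Subtype.ext_iff
  exact
    { large :=
        { z_mem := (hmem _).2 h.large.z_mem
          z_ne := fun e => h.large.z_ne (congrArg Subtype.val e)
          z_sq := Subtype.ext h.large.z_sq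
          comm_z := fun x hx => Subtype.ext (h.large.comm_z x ((hmem x).1 hx))
          conj_mem := fun g hg x hx => (hmem _).2 (h.large.conj_mem g (congrArg Subtype.val hg) x ((hmem x).1 hx))
          sq := fun x hx => (h.large.sq x ((hmem x).1 hx)).imp (fun e => Subtype.ext e) (fun e => Subtype.ext e)
          comm := fun x hx w hw => (h.large.comm x ((hmem x).1 hx) w ((hmem w).1 hw)).imp
            (fun e => Subtype.ext e) (fun e => Subtype.ext e)
          cent := fun x hx hc => (h.large.cent x ((hmem x).1 hx) fun w hw =>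
            congrArg Subtype.val (hc ⟨w, hQH hw⟩ ((hmem _).2 hw))).imp (fun e => Subtype.ext e) (fun e => Subtype.ext e)
          self := fun g hg hc => (hmem g).2 (h.large.self g (congrArg Subtype.val hg) fun w hw =>
            congrArg Subtype.val (hc ⟨w, hQH hw⟩ ((hmem _).2 hw))) }
      card := by rw [Nat.card_congr (Subgroup.subgroupOfEquivOfLe hQH).toEquiv, h.card]
      gen := by
        rw [closure_sub (S := ({i, j, k, l} : Set G)) (fun x hx => hQH (by rw [h.gen]; exact Subgroup.subset_closure hx)) h.gen]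
        congr 1
        ext x
        simp only [Set.mem_setOf_eq, Set.mem_insert_iff, Set.mem_singleton_iff, Subtype.ext_iff]
      ii := Subtype.ext h.ii
      jj := Subtype.ext h.jj
      kk := Subtype.ext h.kk
      ll := Subtype.ext h.ll
      ji := Subtype.ext h.ji
      lk := Subtype.ext h.lk
      ki := Subtype.ext h.ki
      li := Subtype.ext h.li
      kj := Subtype.ext h.kj
      lj := Subtype.ext h.lj
      x₁3 := Subtype.ext h.x₁3
      x₂3 := Subtype.ext h.x₂3
      x₁_act := ⟨Subtype.ext h.x₁_act.z, Subtype.ext h.x₁_act.i, Subtype.ext h.x₁_act.j, Subtype.ext h.x₁_act.k,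
        Subtype.ext h.x₁_act.l⟩
      x₂_act := ⟨Subtype.ext h.x₂_act.z, Subtype.ext h.x₂_act.i, Subtype.ext h.x₂_act.j, Subtype.ext h.x₂_act.k,
        Subtype.ext h.x₂_act.l⟩
      y_act := ⟨Subtype.ext h.y_act.z, Subtype.ext h.y_act.i, Subtype.ext h.y_act.j, Subtype.ext h.y_act.k,
        Subtype.ext h.y_act.l⟩
      xx := Subtype.ext h.xx
      y1 := Subtype.ext h.y1
      y2 := Subtype.ext h.y2
      yy := h.yy.imp (fun e => Subtype.ext e) (fun e => Subtype.ext e)
      cent := by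
        rw [hcz, closure_sub (S := ({i, j, k, l, x₁, x₂, y} : Set G)) hg h.cent]
        congr 1
        ext x
        simp only [Set.mem_setOf_eq, Set.mem_insert_iff, Set.mem_singleton_iff, Subtype.ext_iff]
      card_cent := by
        rw [hcz, Nat.card_congr (Subgroup.subgroupOfEquivOfLe hC).toEquiv, h.card_cent] }

/-- **F1**: one class of involutions. -/
theorem isConj_z [Finite G] [IsSimpleGroup G] (h : Case9c Q z i j k l x₁ x₂ y) {t : G} (ht : t * t = 1)
    (ht1 : t ≠ 1) : ∃ g, g * z * g⁻¹ = t := by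
  have : Fact (Nat.Prime 2) := ⟨Nat.prime_two⟩
  -- a Sylow 2-subgroup inside `C_G(z)`
  obtain ⟨T₀, hT₀⟩ : ∃ T₀ : Sylow 2 G, (T₀ : Subgroup G) ≤ Subgroup.centralizer ({z} : Set G) := by
    obtain ⟨T, hT⟩ := (Base.isPGroup h.large).exists_le_sylow
    exact ⟨T, TwoCentral.le_centralizer_of_two h.large T.2 hT⟩
  have hp : IsPGroup 2 (Subgroup.zpowers t) := by
    apply IsPGroup.of_card (n := 1)
    rw [Nat.card_zpowers, pow_one]
    exact orderOf_eq_prime (by rw [pow_two, ht]) ht1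
  obtain ⟨T, hT⟩ := hp.exists_le_sylow
  obtain ⟨c, hc⟩ := MulAction.exists_smul_eq G T T₀
  have h1 : c * t * c⁻¹ ∈ (T₀ : Subgroup G) := by
    rw [← hc]
    have : t ∈ (T : Subgroup G) := hT (Subgroup.mem_zpowers t)
    show c * t * c⁻¹ ∈ (c • T : Sylow 2 G)
    rw [Sylow.smul_def] at *
    exact ⟨t, this, rfl⟩
  have h2 := Subgroup.mem_centralizer_singleton_iff.1 (hT₀ h1)
  have h3 : c * t * c⁻¹ ≠ 1 := by
    intro e
    apply ht1
    calc t = c⁻¹ * (c * t * c⁻¹) * c := by group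
      _ = 1 := by rw [e]; group
  obtain ⟨g, hg⟩ := one_class h (conj_sq ht) h3 h2
  refine ⟨c⁻¹ * g, ?_⟩
  calc c⁻¹ * g * z * (c⁻¹ * g)⁻¹ = c⁻¹ * (g * z * g⁻¹) * c := by group
    _ = t := by rw [hg]; group

/-- A simple subgroup containing `C_G(z)` has one class of involutions. -/
theorem one_class_sub [Finite G] (h : Case9c Q z i j k l x₁ x₂ y) (H : Subgroup G)
    (hC : Subgroup.centralizer ({z} : Set G) ≤ H) (hH : IsSimpleGroup H) :
    ∀ x ∈ H, orderOf x = 2 → ∃ g ∈ H, g * z * g⁻¹ = x := by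
  intro x hx hx2
  obtain ⟨z', i', j', k', l', x₁', x₂', y', hz, -, h'⟩ := sub h H hC
  have h1 : (⟨x, hx⟩ : H) * ⟨x, hx⟩ = 1 := by
    apply Subtype.ext
    show x * x = 1
    rw [← pow_two, ← hx2, pow_orderOf_eq_one]
  have h2 : (⟨x, hx⟩ : H) ≠ 1 := by
    intro e
    have : x = 1 := congrArg Subtype.val e
    rw [this, orderOf_one] at hx2
    omega
  obtain ⟨g, hg⟩ := isConj_z h' h1 h2
  refine ⟨g, g.2, ?_⟩
  have := congrArg Subtype.val hg
  rw [← hz]
  exact this

end Cfsg.Agent.GTwoThree.Sub
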