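import Cfsg.Agent.GTwoThree.Rel
import Cfsg.Agent.GTwoThree.Strict

/-!
# The coset table with 364 points

The final state of the certified coset enumeration: the alive nodes are those `n < 610` without alias.
-/

set_option autoImplicit false

namespace Cfsg.Agent.GTwoThree

open Cfsg.Agent.SporRec.J1.Machine Cfsg.Agent.GTwoThree.Strict

/-- the final state -/
def fin : St := run Cert.rules Cert.ops (init [0, 1, 3, 4, 6, 7] Cert.tree)

/-- alive nodes -/
def aliveB (s : St) (N n : ℕ) : Bool := Nat.blt n N && Nat.beq (getC s.als n) 0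

/-- rows are complete and symmetric -/
def rowOk2 (s : St) (N n : ℕ) : ℕ → Bool
  | 0 => true
  | g + 1 => (match lookC s n g with
    | 0 => false
    | m + 1 => aliveB s N m && (match lookC s m g with
      | 0 => false
      | k + 1 => Nat.beq k n)) && rowOk2 s N n g

/-- some letter leads to a smaller node -/
def hasParent (s : St) (n : ℕ) : ℕ → Bool
  | 0 => false
  | g + 1 => (match lookC s n g with
    | 0 => false
    | m + 1 => Nat.blt m n) || hasParent s n g

/-- all alive rows `< n` are fine -/
def allOk (s : St) (N : ℕ) : ℕ → Bool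
  | 0 => true
  | n + 1 => (cond (Nat.beq (getC s.als n) 0) (rowOk2 s N n 8 && (Nat.beq n 0 || hasParent s n 8)) true) &&
      allOk s N n

/-- letters fixing the base point -/
def hLetter (g : ℕ) : Bool := Nat.blt g 8 && (!(Nat.beq g 2) && !(Nat.beq g 5))

/-- marking nodes different from the base point -/
def mark {β : Type} (s : St) : List (ℕ × ℕ) → Tr → (Tr → β) → β
  | [], m, c => c m
  | (n, g) :: l, m, c => match lookC s n g with
    | 0 => mark s l m c
    | k + 1 => cond (hLetter g && !(Nat.beq (getC m k) 0)) (setC 14 m n 1 fun m' => mark s l m' c) (mark s l m c)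

/-- all alive nodes `≠ 0` are marked -/
def markedOk (s : St) (m : Tr) : ℕ → Bool
  | 0 => true
  | n + 1 => (Nat.beq n 0 || (!(Nat.beq (getC s.als n) 0) || !(Nat.beq (getC m n) 0))) && markedOk s m n

/-- all checks -/
def checkAll (s : St) : Bool :=
  (Nat.beq (lookC s 0 5) 3 && (Nat.beq (lookC s 0 2) 2 && Nat.beq (lookC s 2 2) 8)) &&
  (aliveB s 610 0 && (allOk s 610 610 &&
  (setC 14 .leaf 1 1 fun m1 => setC 14 m1 2 1 fun m2 => setC 14 m2 7 1 fun m3 =>
    mark s Cert.path m3 fun m => markedOk s m 610)))

theorem fin_rules : Cert.rules.all (ruleOk Cert.rels) = true := by decide +kernel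

theorem fin_tree : okTree Cert.tree 1 = true := by decide +kernel

theorem fin_ops : okOps Cert.ops = true := by decide +kernel

theorem fin_check' : evalC Cert.rules [0, 1, 3, 4, 6, 7] Cert.tree Cert.ops checkAll = true := by decide +kernel

end Cfsg.Agent.GTwoThree
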