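import Cfsg.Agent.GTwoThree.Table
import Cfsg.Agent.GTwoThree.Base

/-!
# Soundness and completeness of the table: an isomorphism criterion
-/

set_option autoImplicit false

namespace Cfsg.Agent.GTwoThree

open Cfsg.Agent.SporRec.J1.Machine Cfsg.Agent.GTwoThree.Strict

/-- alive nodes -/
def Alive (n : ℕ) : Prop := n < 610 ∧ get fin.als n = 0

theorem beq_iff (m n : ℕ) : Nat.beq m n = true ↔ m = n := by
  constructor
  · exact Nat.eq_of_beq_eq_true
  · rintro rfl; exact Nat.beq_refl m

theorem blt_iff (m n : ℕ) : Nat.blt m n = true ↔ m < n := by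
  rw [Nat.blt, Nat.ble_eq]
  exact Nat.succ_le_iff

theorem fin_check : checkAll fin = true := by
  have := fin_check'
  rwa [evalC_eq] at this

theorem aliveB_iff (n : ℕ) : aliveB fin 610 n = true ↔ Alive n := by
  rw [aliveB, Bool.and_eq_true, blt_iff, beq_iff, getC_eq]
  rfl

theorem rowOk2_sound (n : ℕ) : ∀ k, rowOk2 fin 610 n k = true →
    ∀ g < k, ∃ m, look fin n g = m + 1 ∧ Alive m ∧ look fin m g = n + 1 := by
  intro k
  induction k with
  | zero => intro _ g hg; omega
  | succ k ih =>
    intro h g hg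
    rw [rowOk2, Bool.and_eq_true] at h
    rcases Nat.lt_succ_iff_lt_or_eq.mp hg with h1 | h1
    · exact ih h.2 g h1
    · subst h1
      have h1 := h.1
      split at h1
      · cases h1
      · rename_i m hm
        rw [Bool.and_eq_true] at h1
        refine ⟨m, by rw [← lookC_eq]; exact hm, (aliveB_iff m).mp h1.1, ?_⟩
        have h2 := h1.2
        split at h2
        · cases h2
        · rename_i k hk
          rw [beq_iff] at h2
          rw [← lookC_eq, hk, h2]

theorem hasParent_sound (n : ℕ) : ∀ k, hasParent fin n k = true → ∃ g < k, ∃ m < n, look fin n g = m + 1 := by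
  intro k
  induction k with
  | zero => intro h; cases h
  | succ k ih =>
    intro h
    rw [hasParent, Bool.or_eq_true] at h
    rcases h with h | h
    · split at h
      · cases h
      · rename_i m hm
        rw [blt_iff] at h
        exact ⟨k, by omega, m, h, by rw [← lookC_eq]; exact hm⟩
    · obtain ⟨g, hg, r⟩ := ih h
      exact ⟨g, by omega, r⟩

theorem allOk_sound : ∀ n, allOk fin 610 n = true → ∀ m < n, get fin.als m = 0 →
    (rowOk2 fin 610 m 8 = true ∧ (m = 0 ∨ hasParent fin m 8 = true)) := by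
  intro n
  induction n with
  | zero => intro _ m hm; omega
  | succ n ih =>
    intro h m hm ha
    rw [allOk, Bool.and_eq_true] at h
    rcases Nat.lt_succ_iff_lt_or_eq.mp hm with h1 | h1
    · exact ih h.2 m h1 ha
    · subst h1
      have h1 := h.1
      rw [getC_eq, ha, Nat.beq_refl, cond_true, Bool.and_eq_true, Bool.or_eq_true, beq_iff] at h1
      exact h1

theorem check_parts : (lookC fin 0 5 = 3 ∧ lookC fin 0 2 = 2 ∧ lookC fin 2 2 = 8) ∧
    aliveB fin 610 0 = true ∧ allOk fin 610 610 = true ∧
    (setC 14 .leaf 1 1 fun m1 => setC 14 m1 2 1 fun m2 => setC 14 m2 7 1 fun m3 =>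
      mark fin Cert.path m3 fun m => markedOk fin m 610) = true := by
  have h := fin_check
  rw [checkAll, Bool.and_eq_true, Bool.and_eq_true, Bool.and_eq_true, Bool.and_eq_true, Bool.and_eq_true, beq_iff,
    beq_iff, beq_iff] at h
  exact h

theorem alive_zero : Alive 0 := (aliveB_iff 0).mp check_parts.2.1

theorem row (n : ℕ) (hn : Alive n) (g : ℕ) (hg : g < 8) :
    ∃ m, look fin n g = m + 1 ∧ Alive m ∧ look fin m g = n + 1 :=
  rowOk2_sound n 8 (allOk_sound 610 check_parts.2.2.1 n hn.1 hn.2).1 g hg

theorem parent (n : ℕ) (hn : Alive n) (h0 : n ≠ 0) : ∃ g < 8, ∃ m < n, look fin n g = m + 1 ∧ Alive m ∧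
    look fin m g = n + 1 := by
  obtain ⟨g, hg, m, hm, h⟩ := hasParent_sound n 8
    ((allOk_sound 610 check_parts.2.2.1 n hn.1 hn.2).2.resolve_left h0)
  obtain ⟨m', h1, h2, h3⟩ := row n hn g hg
  have : m' = m := by omega
  subst this
  exact ⟨g, hg, m', hm, h1, h2, h3⟩

section

variable {G Ω : Type*} [Group G] [MulAction G Ω] {gens : ℕ → G} {rep : ℕ → Ω}

theorem hLetter_iff (g : ℕ) : hLetter g = true ↔ g < 8 ∧ g ≠ 2 ∧ g ≠ 5 := by
  rw [hLetter, Bool.and_eq_true, Bool.and_eq_true, blt_iff, Bool.not_eq_true', Bool.not_eq_true']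
  constructor
  · rintro ⟨h1, h2, h3⟩
    refine ⟨h1, ?_, ?_⟩
    · rintro rfl; simp at h2
    · rintro rfl; simp at h3
  · rintro ⟨h1, h2, h3⟩
    exact ⟨h1, beq_false h2, beq_false h3⟩

/-- all marked nodes are different from the base point -/
def MarkInv (rep : ℕ → Ω) (m : Tr) : Prop := ∀ n, get m n ≠ 0 → rep n ≠ rep 0

theorem MarkInv.set {m : Tr} (hm : MarkInv rep m) {n : ℕ} (h : rep n ≠ rep 0) :
    MarkInv rep (SporRec.J1.Machine.set 14 m n 1) := by
  intro k hk
  rcases get_set 14 m n 1 k with h1 | ⟨h1, _⟩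
  · rw [h1] at hk; exact hm k hk
  · rw [h1]; exact h

theorem mark_sound (hs : Valid gens rep fin) (hfix : ∀ g, hLetter g = true → gens g • rep 0 = rep 0)
    (P : Tr → Bool) : ∀ (l : List (ℕ × ℕ)) (m : Tr), MarkInv rep m → mark fin l m P = true →
      ∃ m', MarkInv rep m' ∧ P m' = true := by
  intro l
  induction l with
  | nil => intro m hm h; exact ⟨m, hm, h⟩
  | cons p l ih =>
    obtain ⟨n, g⟩ := p
    intro m hm h
    rw [mark] at h
    split at h
    · exact ih m hm h
    · rename_i k hk
      cases hc : (hLetter g && !(Nat.beq (getC m k) 0)) with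
      | false => rw [hc, cond_false] at h; exact ih m hm h
      | true =>
        rw [hc, cond_true, setC_eq] at h
        rw [Bool.and_eq_true, Bool.not_eq_true'] at hc
        refine ih _ (hm.set ?_) h
        intro h0
        have hg := (hLetter_iff g).mp hc.1
        have h1 := look_sound hs hg.1 (by rw [← lookC_eq]; exact hk)
        rw [h0, hfix g hc.1] at h1
        refine hm k ?_ h1.symm
        intro h2
        rw [getC_eq, h2] at hc
        simp at hc

theorem markedOk_sound (m : Tr) : ∀ k, markedOk fin m k = true → ∀ n < k, n ≠ 0 → get fin.als n = 0 → get m n ≠ 0 := by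
  intro k
  induction k with
  | zero => intro _ n hn; omega
  | succ k ih =>
    intro h n hn h0 ha
    rw [markedOk, Bool.and_eq_true] at h
    rcases Nat.lt_succ_iff_lt_or_eq.mp hn with h1 | h1
    · exact ih h.2 n h1 h0 ha
    · subst h1
      have h1 := h.1
      rw [Bool.or_eq_true, Bool.or_eq_true, beq_iff, getC_eq, getC_eq, ha] at h1
      rcases h1 with h1 | h1 | h1
      · exact absurd h1 h0
      · simp at h1
      · intro h2; rw [h2] at h1; simp at h1

/-- the representatives of the alive nodes are distinct -/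
theorem rep_inj (hs : Valid gens rep fin)
    (hfix : ∀ g, hLetter g = true → gens g • rep 0 = rep 0)
    (h1 : gens 2 • rep 0 ≠ rep 0) (h2 : gens 5 • rep 0 ≠ rep 0) (h7 : gens 2 • gens 5 • rep 0 ≠ rep 0) :
    ∀ n', Alive n' → ∀ n, Alive n → rep n = rep n' → n = n' := by
  obtain ⟨⟨e5, e2, e7⟩, _, _, hm⟩ := check_parts
  rw [lookC_eq] at e5 e2 e7
  have r2 : gens 5 • rep 0 = rep 2 := look_sound hs (by norm_num) e5
  have r1 : gens 2 • rep 0 = rep 1 := look_sound hs (by norm_num) e2
  have r7 : gens 2 • rep 2 = rep 7 := look_sound hs (by norm_num) e7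
  rw [setC_eq, setC_eq, setC_eq] at hm
  have base : ∀ n, Alive n → rep n = rep 0 → n = 0 := by
    have h0 : MarkInv rep .leaf := by
      intro n hn; exact absurd rfl hn
    obtain ⟨m', hm', hP⟩ := mark_sound hs hfix _ Cert.path _
      (((h0.set (n := 1) (by rw [← r1]; exact h1)).set (n := 2) (by rw [← r2]; exact h2)).set (n := 7)
        (by rw [← r7, ← r2]; exact h7)) hm
    intro n hn h
    by_contra hne
    exact hm' n (markedOk_sound m' 610 hP n hn.1 hne hn.2) h
  intro n'
  induction n' using Nat.strong_induction_on with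
  | _ n' ih =>
    intro hn' n hn h
    by_cases h0 : n' = 0
    · subst h0; exact base n hn h
    · obtain ⟨g, hg, m', hm', l1, a1, l2⟩ := parent n' hn' h0
      obtain ⟨m, k1, b1, k2⟩ := row n hn g hg
      have e1 := look_sound hs hg l1
      have e2 := look_sound hs hg k1
      have : rep m = rep m' := by rw [← e1, ← e2, h]
      have hmm := ih m' hm' a1 m b1 this
      subst hmm
      omega

end

end Cfsg.Agent.GTwoThree
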